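import Groth.Agent.ToposFinLib.Separated

/-!
# Associated sheaves of representables, descent along coverings
-/

set_option autoImplicit false
set_option backward.isDefEq.respectTransparency false
set_option linter.unusedVariables false

universe v u

open CategoryTheory CategoryTheory.Limits Opposite ToposFin

namespace Groth.Agent.ToposFinLib

variable {C : Type u} [SmallCategory C] {J : GrothendieckTopology C}

section Descent

variable {ι : Type v} {F : ι → Sh J} {X : Sh J} {π : ∀ i, F i ⟶ X}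

theorem Cov.exists_desc (h : Cov π) {Z : Sh J} (t : ∀ i, F i ⟶ Z)
    (ht : ∀ i j, pullback.fst (π i) (π j) ≫ t i = pullback.snd (π i) (π j) ≫ t j) :
    ∃ f : X ⟶ Z, ∀ i, π i ≫ f = t i := by
  have hwd : ∀ (i j : ι) (U : C) (z : (F i).obj.obj (op U)) (z' : (F j).obj.obj (op U)),
      (π i).hom.app (op U) z = (π j).hom.app (op U) z' →
      (t i).hom.app (op U) z = (t j).hom.app (op U) z' := by
    intro i j U z z' e
    obtain ⟨w, hw₁, hw₂⟩ := Types.exists_of_isPullback
      (((IsPullback.of_hasPullback (π i) (π j)).map (sheafToPresheaf J (Type u))).map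
        ((evaluation Cᵒᵖ (Type u)).obj (op U))) z z' e
    rw [← hw₁, ← hw₂]
    exact congrArg (fun q : Limits.pullback (π i) (π j) ⟶ Z => q.hom.app (op U) w) (ht i j)
  have hZ := (isSheaf_iff_isSheaf_of_type _ _).1 Z.property
  let x : ∀ (U : C) (y : X.obj.obj (op U)), Presieve.FamilyOfElements Z.obj (imgSieve π y).arrows :=
    fun U y V g hg => (t (Classical.choose hg)).hom.app (op V) (Classical.choose (Classical.choose_spec hg))
  have hx : ∀ (U : C) (y : X.obj.obj (op U)) (V : C) (g : V ⟶ U) (hg : imgSieve π y g) (i : ι)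
      (z : (F i).obj.obj (op V)), (π i).hom.app (op V) z = X.obj.map g.op y →
      x U y g hg = (t i).hom.app (op V) z := fun U y V g hg i z hz =>
    hwd _ _ _ _ _ ((Classical.choose_spec (Classical.choose_spec hg)).trans hz.symm)
  have hc : ∀ (U : C) (y : X.obj.obj (op U)), (x U y).Compatible := by
    intro U y
    rw [Presieve.compatible_iff_sieveCompatible]
    intro V W g a hg
    have hg' := hg
    obtain ⟨i, z, hz⟩ := hg'
    rw [hx U y V g hg i z hz, hx U y W _ _ i ((F i).obj.map a.op z)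
      (by rw [NatTrans.naturality_apply, hz, op_comp, Functor.map_comp_apply]), NatTrans.naturality_apply]
  let fU : ∀ U : Cᵒᵖ, X.obj.obj U → Z.obj.obj U := fun U y =>
    (hZ (imgSieve π (U := U.unop) y) (h y)).amalgamate (x U.unop y) (hc U.unop y)
  have hf : ∀ (i : ι) (U V : C) (g : V ⟶ U) (y : X.obj.obj (op U)) (z : (F i).obj.obj (op V)),
      (π i).hom.app (op V) z = X.obj.map g.op y → Z.obj.map g.op (fU (op U) y) = (t i).hom.app (op V) z :=
    fun i U V g y z hz => ((hZ _ (h y)).valid_glue (hc U y) g ⟨i, z, hz⟩).trans (hx U y V g _ i z hz)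
  refine ⟨⟨{
    app := fun U => TypeCat.ofHom (fU U)
    naturality := fun U V g => by
      ext y
      refine ((hZ.isSeparated) _ (h (U := V.unop) (X.obj.map g y))).ext fun W a ha => ?_
      obtain ⟨i, z, hz⟩ := ha
      refine (hf i V.unop W a _ z hz).trans ?_
      refine Eq.trans ?_ (Functor.map_comp_apply Z.obj g a.op _)
      exact (hf i U.unop W (a ≫ g.unop) y z (by
        rw [hz, op_comp, Functor.map_comp_apply]
        rfl)).symm }⟩, fun i => ?_⟩
  apply CategoryTheory.Sheaf.hom_ext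
  ext U z
  refine Eq.trans ?_ (hf i U.unop U.unop (𝟙 _) ((π i).hom.app U z) z (by simp))
  simp

end Descent

/-! ### Associated sheaves of representables -/

variable (J) in
/-- The tautological section of the associated sheaf. -/
noncomputable def epsGen (V : C) : (eps J V).obj.obj (op V) :=
  (toSheafify J (yoneda.obj V)).app (op V) (𝟙 V)

/-- The morphism attached to a morphism of the site. -/
noncomputable abbrev epsMap {V W : C} (g : V ⟶ W) : eps J V ⟶ eps J W :=
  (presheafToSheaf J (Type u)).map (yoneda.map g)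

theorem eps_map_gen {U V : C} (g : U ⟶ V) :
    (eps J V).obj.map g.op (epsGen J V) = (toSheafify J (yoneda.obj V)).app (op U) g := by
  refine (NatTrans.naturality_apply (toSheafify J (yoneda.obj V)) g.op (𝟙 V)).symm.trans ?_
  exact congrArg ((toSheafify J (yoneda.obj V)).app (op U)) (Category.comp_id g)

theorem eps_imageSieve {U V : C} (y : (eps J V).obj.obj (op U)) :
    ∃ S ∈ J U, ∀ ⦃W : C⦄ (a : W ⟶ U), S a → ∃ g : W ⟶ V,
      (eps J V).obj.map g.op (epsGen J V) = (eps J V).obj.map a.op y := by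
  refine ⟨_, Presheaf.imageSieve_mem J (toSheafify J (yoneda.obj V)) y, fun W a ha => ?_⟩
  obtain ⟨g, hg⟩ := ha
  exact ⟨g, (eps_map_gen g).trans hg⟩

theorem eps_locally_eq {U V : C} (g g' : U ⟶ V)
    (h : (eps J V).obj.map g.op (epsGen J V) = (eps J V).obj.map g'.op (epsGen J V)) :
    ∃ S ∈ J U, ∀ ⦃W : C⦄ (a : W ⟶ U), S a → a ≫ g = a ≫ g' := by
  rw [eps_map_gen, eps_map_gen] at h
  exact ⟨_, Presheaf.equalizerSieve_mem J (toSheafify J (yoneda.obj V)) (X := op U) g g' h, fun W a ha => by simpa using ha⟩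

theorem epsMap_gen {V W : C} (g : V ⟶ W) :
    (epsMap (J := J) g).hom.app (op V) (epsGen J V) = (eps J W).obj.map g.op (epsGen J W) := by
  rw [eps_map_gen]
  refine (congrArg (fun q => q.app (op V) (𝟙 V)) (toSheafify_naturality J (yoneda.map g))).symm.trans ?_
  exact congrArg ((toSheafify J (yoneda.obj W)).app (op V)) (Category.id_comp g)

/-- Morphisms out of the associated sheaf are determined by their value at the tautological section. -/
theorem eps_hom_ext {V : C} {Z : Sh J} {a b : eps J V ⟶ Z}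
    (h : a.hom.app (op V) (epsGen J V) = b.hom.app (op V) (epsGen J V)) : a = b := by
  apply ((sheafificationAdjunction J (Type u)).homEquiv _ _).injective
  apply yonedaEquiv.injective
  rw [Adjunction.homEquiv_unit, Adjunction.homEquiv_unit]
  exact h

/-- The morphism classifying a section. -/
noncomputable def epsDesc {V : C} {Z : Sh J} (x : Z.obj.obj (op V)) : eps J V ⟶ Z :=
  ((sheafificationAdjunction J (Type u)).homEquiv _ _).symm (yonedaEquiv.symm x)

theorem epsDesc_gen {V : C} {Z : Sh J} (x : Z.obj.obj (op V)) :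
    (epsDesc x).hom.app (op V) (epsGen J V) = x := by
  have := congrArg yonedaEquiv
    (Equiv.apply_symm_apply ((sheafificationAdjunction J (Type u)).homEquiv (yoneda.obj V) Z) (yonedaEquiv.symm x))
  rw [Adjunction.homEquiv_unit, Equiv.apply_symm_apply] at this
  exact this

theorem hom_map_gen {U V : C} {Z : Sh J} (a : eps J V ⟶ Z) (g : U ⟶ V) :
    a.hom.app (op U) ((eps J V).obj.map g.op (epsGen J V)) = Z.obj.map g.op (a.hom.app (op V) (epsGen J V)) :=
  NatTrans.naturality_apply a.hom g.op _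

/-- A family covers an associated sheaf iff it covers the tautological section. -/
theorem cov_eps_iff {V : C} {ι : Type v} {F : ι → Sh J} (π : ∀ i, F i ⟶ eps J V) :
    Cov π ↔ imgSieve π (epsGen J V) ∈ J V := by
  refine ⟨fun h => h _, fun h U y => ?_⟩
  obtain ⟨S, hS, hS'⟩ := eps_imageSieve y
  refine J.transitive hS _ fun W a ha => ?_
  obtain ⟨g, hg⟩ := hS' a ha
  rw [pullback_imgSieve, ← hg, ← pullback_imgSieve]
  exact J.pullback_stable g h

theorem cov_sections (X : Sh J) : Cov (fun p : Σ V : C, X.obj.obj (op V) => epsDesc p.2) := fun U y =>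
  J.superset_covering (fun W a _ => ⟨⟨W, X.obj.map a.op y⟩, epsGen J W, epsDesc_gen _⟩) (J.top_mem U)

theorem gen_eps : Gen (J := J) (fun K => ∃ V, K = eps J V) := fun X =>
  ⟨Σ V : C, X.obj.obj (op V), fun p => eps J p.1, _, fun p => ⟨p.1, rfl⟩, cov_sections X⟩

/-- An object of the site is quasi-compact iff its associated sheaf is. -/
theorem isQC_eps_iff (X : C) : IsQCSite J X ↔ IsQC (eps J X) := by
  classical
  rw [isQC_iff]
  constructor
  · intro hX ι F π hπ
    obtain ⟨n, V, g, hg, hcov⟩ := hX _ (hπ (epsGen J X))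
    choose i z hz using hg
    refine ⟨Finset.univ.image i, (cov_eps_iff _).2 (J.superset_covering ?_ hcov)⟩
    rw [Sieve.ofArrows, Sieve.generate_le_iff]
    rintro _ _ ⟨k⟩
    exact ⟨⟨i k, Finset.mem_image_of_mem _ (Finset.mem_univ k)⟩, z k, hz k⟩
  · intro hX S hS
    let ι : Type u := Σ V : C, {g : V ⟶ X // S g}
    have hπ : Cov (fun p : ι => epsMap (J := J) p.2.1) := (cov_eps_iff _).2
      (J.superset_covering (fun W a ha => ⟨⟨W, a, ha⟩, epsGen J W, epsMap_gen a⟩) hS)
    obtain ⟨s, hs⟩ := hX ι _ _ hπ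
    let e := Fintype.equivFin s
    refine ⟨Fintype.card s, fun k => (e.symm k).1.1, fun k => (e.symm k).1.2.1, fun k => (e.symm k).1.2.2, ?_⟩
    refine J.transitive (hs (epsGen J X)) _ ?_
    rintro U h ⟨p, z, hz⟩
    obtain ⟨m, rfl⟩ := e.symm.surjective p
    obtain ⟨T, hT, hT'⟩ := eps_imageSieve z
    refine J.transitive hT _ fun W a ha => ?_
    obtain ⟨k, hk⟩ := hT' a ha
    have heq : (eps J X).obj.map (k ≫ (e.symm m).1.2.1).op (epsGen J X) = (eps J X).obj.map (a ≫ h).op (epsGen J X) := by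
      rw [op_comp, op_comp, Functor.map_comp_apply, Functor.map_comp_apply, ← epsMap_gen, ← hz,
        ← NatTrans.naturality_apply, ← NatTrans.naturality_apply, hk]
    obtain ⟨R, hR, hR'⟩ := eps_locally_eq _ _ heq
    refine J.superset_covering (fun W' b hb => ?_) hR
    show Sieve.ofArrows _ _ ((b ≫ a) ≫ h)
    rw [Category.assoc, ← hR' b hb, ← Category.assoc]
    refine Sieve.downward_closed _ ?_ (b ≫ k)
    exact Sieve.ofArrows_mk (fun k => (e.symm k).1.1) (fun k => (e.symm k).1.2.1) m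

section Lifts

variable {X : C}

theorem gen_over_eps {A : Sh J} (a : A ⟶ eps J X) :
    ∃ (κ : Type u) (V : κ → C) (g : ∀ k, V k ⟶ X) (π : ∀ k, eps J (V k) ⟶ A),
      Cov π ∧ ∀ k, π k ≫ a = epsMap (g k) := by
  refine ⟨Σ V : C, {p : A.obj.obj (op V) × (V ⟶ X) //
      a.hom.app (op V) p.1 = (eps J X).obj.map p.2.op (epsGen J X)},
    fun k => k.1, fun k => k.2.1.2, fun k => epsDesc k.2.1.1, fun U y => ?_, fun k => ?_⟩
  · obtain ⟨S, hS, hS'⟩ := eps_imageSieve (a.hom.app (op U) y)
    refine J.superset_covering (fun W b hb => ?_) hS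
    obtain ⟨g, hg⟩ := hS' b hb
    exact ⟨⟨W, ⟨(A.obj.map b.op y, g), (NatTrans.naturality_apply a.hom b.op y).trans hg.symm⟩⟩, epsGen J W,
      epsDesc_gen _⟩
  · refine eps_hom_ext ?_
    show a.hom.app _ ((epsDesc k.2.1.1).hom.app _ _) = _
    rw [epsDesc_gen, epsMap_gen]
    exact k.2.2

theorem exists_finite_over_eps {A : Sh J} (hA : IsQC A) (a : A ⟶ eps J X) :
    ∃ (κ : Type u) (_ : Finite κ) (V : κ → C) (g : ∀ k, V k ⟶ X) (π : ∀ k, eps J (V k) ⟶ A),
      Cov π ∧ ∀ k, π k ≫ a = epsMap (g k) := by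
  obtain ⟨κ, V, g, π, hπ, hg⟩ := gen_over_eps a
  obtain ⟨s, hs⟩ := isQC_iff.1 hA _ _ _ hπ
  exact ⟨s, inferInstance, _, _, _, hs, fun k => hg k.1⟩

variable [HasPullbacks C]

theorem isPullback_epsMap {V W : C} (g : V ⟶ X) (h : W ⟶ X) :
    IsPullback (epsMap (J := J) (pullback.fst g h)) (epsMap (pullback.snd g h)) (epsMap g) (epsMap h) :=
  ((IsPullback.of_hasPullback g h).map yoneda).map (presheafToSheaf J (Type u))

theorem isQS_eps (hC : ∀ X : C, IsQCSite J X) : IsQS (eps J X) := by
  intro A B a b hA hB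
  obtain ⟨κ, hκ, V, g, π, hπ, hg⟩ := exists_finite_over_eps hA a
  obtain ⟨σ, hσ, W, h, ρ, hρ, hh⟩ := exists_finite_over_eps hB b
  refine isQC_of_finite_cov (κ := κ × σ) _ _ (cov_pullbackMap a b hπ hρ) fun p => ?_
  refine isQC_of_iso ?_ ((isQC_eps_iff _).1 (hC (pullback (g p.1) (h p.2))))
  exact (isPullback_epsMap (g p.1) (h p.2)).isoPullback ≪≫ (pullback.congrHom (hg p.1) (hh p.2)).symm

theorem isCoherent_eps (hC : ∀ X : C, IsQCSite J X) (V : C) : IsCoherent (eps J V) :=
  ⟨(isQC_eps_iff V).1 (hC V), isQS_eps hC⟩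

omit [HasPullbacks C] in
theorem gen_qc_of_site (hC : ∀ X : C, IsQCSite J X) : Gen (J := J) IsQC :=
  gen_eps.mono fun _ ⟨V, e⟩ => e ▸ (isQC_eps_iff V).1 (hC V)

theorem isQSHom_to_eps (hC : ∀ X : C, IsQCSite J X) {G : Sh J} (g : G ⟶ eps J X) (hG : IsQS G) :
    IsQSHom g := by
  obtain ⟨κ, V, v, π, hπ, hv⟩ := gen_over_eps g
  refine isQSHom_of_qs_products (gen_qc_of_site hC) g hπ (fun k => (isQC_eps_iff _).1 (hC _)) (fun i j => ?_) hG
  let e := pullback.congrHom (hv i) (hv j) ≪≫ (isPullback_epsMap (v i) (v j)).isoPullback.symm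
  exact isQS_of_isQSHom (isQSHom_of_mono e.hom) (isQS_eps hC)

end Lifts

end Groth.Agent.ToposFinLib
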