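import Groth.Agent.ToposFinLib.ExtColim

/-!
# Commutation with filtered colimits passes to cokernels
-/

set_option autoImplicit false
set_option backward.isDefEq.respectTransparency false
set_option linter.unusedVariables false

universe u

open CategoryTheory CategoryTheory.Limits Opposite ToposFin Abelian

namespace Groth.Agent.ToposFinLib

variable {C : Type u} [SmallCategory C] {J : GrothendieckTopology C} {Λ : Type u} [SmallCategory Λ]
  [IsFiltered Λ] {S : ShortComplex (Sheaf J AddCommGrpCat.{u})}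

/-- Pushing a class to a later stage does not change its image in the colimit. -/
lemma stage_comp {P : Sheaf J AddCommGrpCat.{u}} {q : ℕ} (D : Λ ⥤ Sheaf J AddCommGrpCat.{u}) {i j : Λ}
    (u : i ⟶ j) (y : Ext P (D.obj i) q) :
    (y.comp (Ext.mk₀ (D.map u)) (add_zero q)).comp (Ext.mk₀ (colimit.ι D j)) (add_zero q) =
      y.comp (Ext.mk₀ (colimit.ι D i)) (add_zero q) := by
  rw [Ext.comp_assoc_of_third_deg_zero, Ext.mk₀_comp_mk₀, colimit.w]

lemma comp_sub' {P Q R : Sheaf J AddCommGrpCat.{u}} {a b c : ℕ} (α : Ext P Q a) (β β' : Ext Q R b) (h : a + b = c) :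
    α.comp (β - β') h = α.comp β h - α.comp β' h := map_sub (α.precomp R h) β β'

lemma sub_comp' {P Q R : Sheaf J AddCommGrpCat.{u}} {a b c : ℕ} (α α' : Ext P Q a) (β : Ext Q R b) (h : a + b = c) :
    (α - α').comp β h = α.comp β h - α'.comp β h := map_sub (β.postcomp P h) α α'

theorem Comm.of_shortExact (hS : S.ShortExact) (h₁ : ∀ q (D : Λ ⥤ Sheaf J AddCommGrpCat.{u}), Comm S.X₁ q D)
    (h₂ : ∀ q (D : Λ ⥤ Sheaf J AddCommGrpCat.{u}), Comm S.X₂ q D) (q : ℕ)
    (D : Λ ⥤ Sheaf J AddCommGrpCat.{u}) : Comm S.X₃ q D := by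
  haveI := hS.epi_g
  refine ⟨fun x => ?_, fun i z hz => ?_⟩
  · obtain ⟨i, y, hy⟩ := (h₂ q D).surj ((Ext.mk₀ S.g).comp x (zero_add q))
    obtain ⟨j, u, hu⟩ := (h₁ q D).inj i ((Ext.mk₀ S.f).comp y (zero_add q)) (by
      rw [Ext.comp_assoc_of_third_deg_zero, hy, ← Ext.comp_assoc_of_second_deg_zero, Ext.mk₀_comp_mk₀, S.zero,
        Ext.mk₀_zero, Ext.zero_comp])
    obtain ⟨w, hw⟩ := Ext.contravariant_sequence_exact₂ hS _ (y.comp (Ext.mk₀ (D.map u)) (add_zero q))
      ((Ext.comp_assoc_of_third_deg_zero _ _ _ _).symm.trans hu)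
    have h0 : (Ext.mk₀ S.g).comp (x - w.comp (Ext.mk₀ (colimit.ι D j)) (add_zero q)) (zero_add q) = 0 := by
      rw [comp_sub', ← Ext.comp_assoc_of_third_deg_zero, hw, stage_comp, hy, sub_self]
    match q with
    | 0 =>
      have := (Ext.precomp_mk₀_injective_of_epi _ S.g) (h0.trans (map_zero ((Ext.mk₀ S.g).precomp _ (zero_add 0))).symm)
      exact ⟨j, w, (sub_eq_zero.1 this).symm⟩
    | m + 1 =>
      obtain ⟨a, ha⟩ := Ext.contravariant_sequence_exact₃ hS _ _ h0 (show 1 + m = m + 1 by omega)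
      obtain ⟨k, b, hb⟩ := (h₁ m D).surj a
      refine ⟨IsFiltered.max j k, w.comp (Ext.mk₀ (D.map (IsFiltered.leftToMax j k))) (add_zero _) +
        hS.extClass.comp (b.comp (Ext.mk₀ (D.map (IsFiltered.rightToMax j k))) (add_zero _))
          (show 1 + m = m + 1 by omega), ?_⟩
      rw [Ext.add_comp, stage_comp, Ext.comp_assoc_of_third_deg_zero (hS.extClass), stage_comp, hb, ha]
      abel
  · obtain ⟨j, u, hu⟩ := (h₂ q D).inj i ((Ext.mk₀ S.g).comp z (zero_add q)) (by
      rw [Ext.comp_assoc_of_third_deg_zero, hz, Ext.comp_zero])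
    rw [Ext.comp_assoc_of_third_deg_zero] at hu
    match q with
    | 0 =>
      exact ⟨j, u, (Ext.precomp_mk₀_injective_of_epi _ S.g) (hu.trans (map_zero ((Ext.mk₀ S.g).precomp _ (zero_add 0))).symm)⟩
    | m + 1 =>
      obtain ⟨a, ha⟩ := Ext.contravariant_sequence_exact₃ hS _ _ hu (show 1 + m = m + 1 by omega)
      have h0 : hS.extClass.comp (a.comp (Ext.mk₀ (colimit.ι D j)) (add_zero m)) (show 1 + m = m + 1 by omega) = 0 := by
        rw [← Ext.comp_assoc_of_third_deg_zero, ha, stage_comp, hz]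
      obtain ⟨e, he⟩ := Ext.contravariant_sequence_exact₁ hS _ _ _ h0
      obtain ⟨k, b, hb⟩ := (h₂ m D).surj e
      let r := a.comp (Ext.mk₀ (D.map (IsFiltered.leftToMax j k))) (add_zero m) -
        (Ext.mk₀ S.f).comp (b.comp (Ext.mk₀ (D.map (IsFiltered.rightToMax j k))) (add_zero m)) (zero_add m)
      obtain ⟨l, t, ht⟩ := (h₁ m D).inj _ r (by
        simp only [r]
        rw [sub_comp', stage_comp, Ext.comp_assoc_of_third_deg_zero (Ext.mk₀ S.f), stage_comp, hb, he, sub_self])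
      refine ⟨l, u ≫ IsFiltered.leftToMax j k ≫ t, ?_⟩
      rw [D.map_comp, ← Ext.mk₀_comp_mk₀, ← Ext.comp_assoc_of_third_deg_zero, ← ha, Ext.comp_assoc_of_third_deg_zero,
        D.map_comp, ← Ext.mk₀_comp_mk₀, ← Ext.comp_assoc_of_third_deg_zero a]
      simp only [r, sub_comp', sub_eq_zero] at ht
      rw [ht, Ext.comp_assoc_of_third_deg_zero (Ext.mk₀ S.f),
        ShortComplex.ShortExact.extClass_comp_assoc]

end Groth.Agent.ToposFinLib
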