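import Groth.Agent.ToposFinLib.Algebraic
import Groth.Agent.ToposFinLib.ExtColimCoker

/-!
# Tame objects in algebraic and locally coherent topoi
-/

set_option autoImplicit false
set_option backward.isDefEq.respectTransparency false
set_option linter.unusedVariables false

universe u

open CategoryTheory CategoryTheory.Limits Opposite ToposFin Abelian Groth.Agent.SiteBase

namespace Groth.Agent.ToposFinLib

variable {C : Type u} [SmallCategory C] {J : GrothendieckTopology C} {S : Set (Sh J)}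

theorem tame_of_algebraic (hE : IsAlgebraic J) {K : Sh J} (hK : IsCoherent K) : Tame K := by
  obtain ⟨S, hqc, hgen, hpb, heq⟩ := hE
  exact ⟨hK, fun W g hW => isQSHom_of_isQS hgen hqc hpb heq g hW⟩

theorem tame_of_mem (hgen : IsGenerating S) (hqc : ∀ K ∈ S, IsQC K) (hpb : ClosedUnderPullbacks S)
    {K : Sh J} (hK : K ∈ S) : Tame K :=
  ⟨isCoherent_of_mem hgen hqc hpb hK, fun W g hW => isQSHom_to_mem hgen hqc hpb hK g hW⟩

theorem exists_gen_of_algebraic (hE : IsAlgebraic J) :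
    ∃ Q : Sh J → Prop, Gen Q ∧ ∀ A, Q A → IsCoherent A := by
  obtain ⟨S, hqc, hgen, hpb, heq⟩ := hE
  exact ⟨_, gen_of_isGenerating hgen, fun A hA => isCoherent_of_mem hgen hqc hpb hA⟩

theorem comm_of_algebraic (hE : IsAlgebraic J) {K : Sh J} (hK : IsCoherent K) {Λ : Type u} [SmallCategory Λ]
    [IsFiltered Λ] (q : ℕ) (D : Λ ⥤ Sheaf J AddCommGrpCat.{u}) : Comm (freeSh K) q D := by
  obtain ⟨Q, hgen, hQ⟩ := exists_gen_of_algebraic hE
  exact comm_all hgen hQ (tame_of_algebraic hE hK) q D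

theorem Comm.of_iso {P P' : Sheaf J AddCommGrpCat.{u}} (e : P ≅ P') {Λ : Type u} [SmallCategory Λ]
    [IsFiltered Λ] {q : ℕ} {D : Λ ⥤ Sheaf J AddCommGrpCat.{u}} (h : Comm P q D) : Comm P' q D where
  surj x := by
    obtain ⟨i, y, hy⟩ := h.surj ((Ext.mk₀ e.hom).comp x (zero_add q))
    refine ⟨i, (Ext.mk₀ e.inv).comp y (zero_add q), ?_⟩
    rw [Ext.comp_assoc_of_third_deg_zero, hy, Ext.mk₀_comp_mk₀_assoc, e.inv_hom_id, Ext.mk₀_id_comp]
  inj i y hy := by
    obtain ⟨j, u, hu⟩ := h.inj i ((Ext.mk₀ e.hom).comp y (zero_add q))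
      (by rw [Ext.comp_assoc_of_third_deg_zero, hy, Ext.comp_zero])
    refine ⟨j, u, ?_⟩
    rw [Ext.comp_assoc_of_third_deg_zero] at hu
    rw [← Ext.mk₀_id_comp (Ext.comp y (Ext.mk₀ (D.map u)) (add_zero q)), ← e.inv_hom_id, ← Ext.mk₀_comp_mk₀_assoc,
      hu, Ext.comp_zero]

/-- The constant sheaf `ℤ` is the free sheaf on the final object. -/
theorem nonempty_freeSh_terminal_iso_const :
    Nonempty (freeSh (⊤_ (Sh J)) ≅
      (constantSheaf J AddCommGrpCat.{u}).obj (AddCommGrpCat.of (ULift.{u} ℤ))) := by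
  have hT : IsTerminal ((⊤_ (Sh J)).obj) := IsTerminal.isTerminalObj (sheafToPresheaf J (Type u)) _ terminalIsTerminal
  haveI : ∀ V, Unique ((⊤_ (Sh J)).obj.obj V) := fun V =>
    Types.isTerminalEquivUnique _ (IsTerminal.isTerminalObj ((evaluation Cᵒᵖ (Type u)).obj V) _ hT)
  haveI : ∀ V, Unique (((sheafToPresheaf J (Type u)).obj (⊤_ (Sh J))).obj V) := fun V =>
    inferInstanceAs (Unique ((⊤_ (Sh J)).obj.obj V))
  let e : ∀ V, AddCommGrpCat.free.{u}.obj ((⊤_ (Sh J)).obj.obj V) ≅ AddCommGrpCat.of (ULift.{u} ℤ) := fun V =>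
    ((FreeAbelianGroup.uniqueEquiv ((⊤_ (Sh J)).obj.obj V)).trans AddEquiv.ulift.symm).toAddCommGrpIso
  refine ⟨(presheafToSheaf J AddCommGrpCat.{u}).mapIso (NatIso.ofComponents e fun {V W} g => ?_)⟩
  ext x
  induction x using FreeAbelianGroup.induction_on with
  | zero => exact (map_zero _).trans (map_zero _).symm
  | of a =>
    show ULift.up (FreeAbelianGroup.uniqueEquiv _ (FreeAbelianGroup.map _ (FreeAbelianGroup.of a))) =
      ULift.up (FreeAbelianGroup.uniqueEquiv _ (FreeAbelianGroup.of a))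
    rw [FreeAbelianGroup.map_of_apply]
    simp [FreeAbelianGroup.uniqueEquiv]
  | neg a ih => rw [map_neg, map_neg, ih]
  | add a b ha hb => rw [map_add, map_add, ha, hb]

end Groth.Agent.ToposFinLib
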