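import Groth.Agent.ToposFinLib.QcCollection
import Groth.Agent.ToposFinLib.Algebraic2

/-!
# Cohomology and filtered colimits for a collection of quasi-compact objects of a topos
-/

set_option autoImplicit false
set_option backward.isDefEq.respectTransparency false
set_option linter.unusedVariables false
set_option linter.unusedSectionVars false

universe u

open CategoryTheory CategoryTheory.Limits Opposite ToposFin Simplicial Abelian Groth.Agent.SiteBase

namespace Groth.Agent.ToposFinLib.QcCollection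

variable {C : Type u} [SmallCategory C] {J : GrothendieckTopology C} {S : Set (Sh J)}

theorem exists_good_refinement (hS : IsCollection S) {K : Sh J} (hK : Good S K) {L : Sh J} (f : L ⟶ K) [Epi f] :
    ∃ (K' : Sh J) (k : K' ⟶ L), Good S K' ∧ Epi (k ≫ f) := by
  obtain ⟨K', k, hK', hk⟩ := CovBy.refine hS hK.1 f inferInstance
  exact ⟨K', k, good_of_mem hS hK', hk⟩

/-- Vanishing of the Cech cohomology of covers of good objects. -/
def GoodKill (S : Set (Sh J)) (G : Sheaf J AddCommGrpCat.{u}) : Prop :=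
  ∀ (K' K : Sh J) (f : K' ⟶ K), Good S K → Good S K' → Epi f → CechKill G (nerve f)

theorem exists_lift_of_goodKill (hS : IsCollection S)
    {E : ShortComplex (Sheaf J AddCommGrpCat.{u})} (hE : E.ShortExact) (h₁ : GoodKill S E.X₁)
    (K : Sheaf J (Type u)) (hK : Good S K) (φ : freeSh K ⟶ E.X₃) : ∃ ψ, ψ ≫ E.g = φ := by
  let Φ := sheafCompose J (CategoryTheory.forget AddCommGrpCat.{u})
  have hloc : Sheaf.IsLocallySurjective E.g := (Sheaf.isLocallySurjective_iff_epi' _ E.g).2 hE.epi_g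
  let φ' : K ⟶ Φ.obj E.X₃ := freeShEquiv K E.X₃ φ
  haveI : Epi (pullback.fst φ' (Φ.map E.g)) := by
    have : Sheaf.IsLocallySurjective (pullback.fst φ' (Φ.map E.g)) := ⟨fun {U} s => by
      refine J.superset_covering ?_ (hloc.imageSieve_mem (φ'.hom.app (op U) s))
      rintro V g ⟨t, ht⟩
      let a : hSheaf J V ⟶ K := (secT V K).symm (K.obj.map g.op s)
      let b : hSheaf J V ⟶ Φ.obj E.X₂ := (secT V (Φ.obj E.X₂)).symm t
      have hab : a ≫ φ' = b ≫ Φ.map E.g := (secT V (Φ.obj E.X₃)).injective (by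
        rw [secT_comp, secT_comp, Equiv.apply_symm_apply, Equiv.apply_symm_apply]
        exact (ConcreteCategory.congr_hom (φ'.hom.naturality g.op) s).trans ht.symm)
      refine ⟨secT V _ (pullback.lift a b hab), (secT_comp V _ (pullback.fst φ' (Φ.map E.g))).symm.trans ?_⟩
      rw [pullback.lift_fst, Equiv.apply_symm_apply]⟩
    exact (Sheaf.isLocallySurjective_iff_epi _).1 this
  obtain ⟨K', k, hK', hf⟩ := exists_good_refinement hS hK (pullback.fst φ' (Φ.map E.g))
  let f : K' ⟶ K := k ≫ pullback.fst φ' (Φ.map E.g)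
  haveI : Epi f := hf
  have := epi_augSh f
  let p : pb0 f ⟶ K' := WidePullback.π (fun _ : Fin 1 => f) 0
  let ψ₀ : (freeShChain (nerve f)).X 0 ⟶ E.X₂ :=
    (freeShEquiv (pb0 f) E.X₂).symm (p ≫ k ≫ pullback.snd φ' (Φ.map E.g))
  have hψ₀ : ψ₀ ≫ E.g = augSh f ≫ φ := by
    apply (freeShEquiv (pb0 f) E.X₃).injective
    refine (freeShEquiv_comp ψ₀ E.g).trans (Eq.trans ?_ (freeShEquiv_precomp _ φ).symm)
    refine (congrArg (· ≫ Φ.map E.g) (Equiv.apply_symm_apply _ _)).trans ?_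
    refine Eq.trans ?_ (congrArg (· ≫ φ') (WidePullback.π_arrow (fun _ : Fin 1 => f) 0))
    simp only [p, f, Category.assoc, pullback.condition]
  have := hE.mono_f
  have hw : ((freeShChain (nerve f)).d 1 0 ≫ ψ₀) ≫ E.g = 0 := by
    rw [Category.assoc, hψ₀, ← Category.assoc, d_comp_augSh, zero_comp]
  obtain ⟨b, hb⟩ := h₁ _ _ f hK hK' hf 0 (hE.exact.lift _ hw) (by
    rw [← cancel_mono E.f, Category.assoc, hE.exact.lift_f, zero_comp, ← Category.assoc,
      HomologicalComplex.d_comp_d, zero_comp])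
  obtain ⟨ψ, hψ⟩ := exists_desc f (ψ₀ - b ≫ E.f) (by
    rw [Preadditive.comp_sub, sub_eq_zero, ← Category.assoc, hb, hE.exact.lift_f])
  refine ⟨ψ, (cancel_epi (augSh f)).1 ?_⟩
  rw [← Category.assoc, hψ, Preadditive.sub_comp, Category.assoc, E.zero, comp_zero, sub_zero, hψ₀]

theorem goodKill_X₃ (hS : IsCollection S)
    {E : ShortComplex (Sheaf J AddCommGrpCat.{u})} (hE : E.ShortExact) (h₁ : GoodKill S E.X₁) (h₂ : GoodKill S E.X₂) :
    GoodKill S E.X₃ := by
  intro K' K f hK hK' hf n w hw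
  have := hE.mono_f
  obtain ⟨w₂, rfl⟩ : ∃ ψ : (freeShChain (nerve f)).X (n + 1) ⟶ E.X₂, ψ ≫ E.g = w :=
    exists_lift_of_goodKill hS hE h₁ ((nerve f).left.obj (op ⦋n + 1⦌)) (good_widePullback hS hK f hK' (n + 1)) w
  have hv : ((freeShChain (nerve f)).d (n + 2) (n + 1) ≫ w₂) ≫ E.g = 0 := by rw [Category.assoc, hw]
  have hv' : (freeShChain (nerve f)).d (n + 3) (n + 2) ≫ hE.exact.lift _ hv = 0 := by
    rw [← cancel_mono E.f, Category.assoc, hE.exact.lift_f, zero_comp, ← Category.assoc,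
      HomologicalComplex.d_comp_d, zero_comp]
  obtain ⟨b₁, hb₁⟩ := h₁ K' K f hK hK' hf (n + 1) _ hv'
  obtain ⟨b₂, hb₂⟩ := h₂ K' K f hK hK' hf n (w₂ - b₁ ≫ E.f) (by
    rw [Preadditive.comp_sub, sub_eq_zero, ← Category.assoc, hb₁, hE.exact.lift_f])
  refine ⟨b₂ ≫ E.g, ?_⟩
  rw [← Category.assoc, hb₂, Preadditive.sub_comp, Category.assoc, E.zero, comp_zero, sub_zero]

theorem subsingleton_ext_of_goodKill (hS : IsCollection S)
    (G : Sheaf J AddCommGrpCat.{u}) (hG : GoodKill S G) (K : Sh J) (hK : Good S K) (q : ℕ) :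
    Subsingleton (Ext (freeSh K) G (q + 1)) := by
  induction q generalizing G with
  | zero =>
    obtain ⟨E, hE, hI, rfl⟩ : ∃ E : ShortComplex (Sheaf J AddCommGrpCat.{u}),
        E.ShortExact ∧ Injective E.X₂ ∧ E.X₁ = G :=
      ⟨injectiveSES G, injectiveSES_shortExact G, inferInstance, injectiveSES_X₁ G⟩
    exact subsingleton_ext_one_X₁ _ hE (Ext.subsingleton_of_injective _ E.X₂ 0)
      (exists_lift_of_goodKill hS hE hG K hK)
  | succ q ih =>
    obtain ⟨E, hE, hI, rfl⟩ : ∃ E : ShortComplex (Sheaf J AddCommGrpCat.{u}),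
        E.ShortExact ∧ Injective E.X₂ ∧ E.X₁ = G :=
      ⟨injectiveSES G, injectiveSES_shortExact G, inferInstance, injectiveSES_X₁ G⟩
    exact subsingleton_ext_X₁ _ hE (q + 1) (Ext.subsingleton_of_injective _ E.X₂ (q + 1))
      (ih E.X₃ (goodKill_X₃ hS hE hG fun K' K f _ _ _ =>
        cechKill_of_injective (sheafNerveLike_nerve f) E.X₂))

section Colimit

variable {Λ : Type u} [SmallCategory Λ] [IsFiltered Λ] (D : Λ ⥤ Sheaf J AddCommGrpCat.{u})

theorem exists_hom_stage (hS : IsCollection S) {K : Sh J}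
    (hK : Good S K) {c : Cocone D} (hc : IsColimit c) (φ : freeSh K ⟶ c.pt) :
    ∃ (i : Λ) (ψ : freeSh K ⟶ D.obj i), ψ ≫ c.ι.app i = φ := by
  obtain ⟨i, a, ha⟩ := QcCollection.exists_stage_factor hS hK
    (isColimitOfPreserves (underlying J) hc) (freeShEquiv K c.pt φ)
  refine ⟨i, (freeShEquiv K (D.obj i)).symm a, (freeShEquiv K c.pt).injective ?_⟩
  rw [freeShEquiv_comp, Equiv.apply_symm_apply]
  exact ha

theorem exists_hom_stage_eq {K : Sh J} (hK : IsQC K) {c : Cocone D} (hc : IsColimit c) (i : Λ)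
    (φ φ' : freeSh K ⟶ D.obj i) (h : φ ≫ c.ι.app i = φ' ≫ c.ι.app i) :
    ∃ (j : Λ) (u : i ⟶ j), φ ≫ D.map u = φ' ≫ D.map u := by
  obtain ⟨j, u, hu⟩ := exists_stage_eq hK (isColimitOfPreserves (underlying J) hc) i
    (freeShEquiv K (D.obj i) φ) (freeShEquiv K (D.obj i) φ') (by
      have := congrArg (freeShEquiv K c.pt) h
      rwa [freeShEquiv_comp, freeShEquiv_comp] at this)
  refine ⟨j, u, (freeShEquiv K (D.obj j)).injective ?_⟩
  rw [freeShEquiv_comp, freeShEquiv_comp]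
  exact hu

theorem goodKill_colimit (hS : IsCollection S)
    (hD : ∀ i, Injective (D.obj i)) {c : Cocone D} (hc : IsColimit c) : GoodKill S c.pt := by
  intro K' K f hK hK' hf n w hw
  obtain ⟨i, w₀, hw₀⟩ := exists_hom_stage D hS
    (K := (nerve f).left.obj (op ⦋n + 1⦌)) (good_widePullback hS hK f hK' (n + 1)) hc w
  obtain ⟨j, u, hu⟩ := exists_hom_stage_eq D (K := (nerve f).left.obj (op ⦋n + 2⦌))
    (CovBy.isQC hS (good_widePullback hS hK f hK' (n + 2)).1) hc i ((freeShChain (nerve f)).d (n + 2) (n + 1) ≫ w₀) 0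
    ((Category.assoc _ _ _).trans (((congrArg ((freeShChain (nerve f)).d (n + 2) (n + 1) ≫ ·) hw₀).trans hw).trans
      zero_comp.symm))
  haveI := hD j
  obtain ⟨b, hb⟩ := cechKill_of_injective (sheafNerveLike_nerve f) (D.obj j) n (w₀ ≫ D.map u)
    ((Category.assoc _ _ _).symm.trans (hu.trans zero_comp))
  refine ⟨b ≫ c.ι.app j, ?_⟩
  rw [← Category.assoc, hb, Category.assoc, c.w, hw₀]

end Colimit

section

variable {Λ : Type u} [SmallCategory Λ] [IsFiltered Λ] {K : Sh J} (hS : IsCollection S)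

include hS

theorem comm_zero (hK : Good S K) (D : Λ ⥤ Sheaf J AddCommGrpCat.{u}) : Comm (freeSh K) 0 D where
  surj x := by
    obtain ⟨φ, rfl⟩ := (Ext.mk₀_bijective _ _).2 x
    obtain ⟨i, ψ, hψ⟩ := exists_hom_stage D hS hK (colimit.isColimit D) φ
    exact ⟨i, Ext.mk₀ ψ, by rw [Ext.mk₀_comp_mk₀]; exact congrArg Ext.mk₀ hψ⟩
  inj i y hy := by
    obtain ⟨φ, rfl⟩ := (Ext.mk₀_bijective _ _).2 y
    rw [Ext.mk₀_comp_mk₀, ← Ext.mk₀_zero] at hy
    obtain ⟨j, u, hu⟩ := exists_hom_stage_eq D (CovBy.isQC hS hK.1) (colimit.isColimit D) i φ 0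
      (((Ext.mk₀_bijective _ _).1 hy).trans zero_comp.symm)
    exact ⟨j, u, by rw [Ext.mk₀_comp_mk₀, hu, zero_comp, Ext.mk₀_zero]⟩

theorem comm_succ (hK : Good S K) (q : ℕ) (ih : ∀ D : Λ ⥤ Sheaf J AddCommGrpCat.{u}, Comm (freeSh K) q D)
    (D : Λ ⥤ Sheaf J AddCommGrpCat.{u}) : Comm (freeSh K) (q + 1) D := by
  have hI : Subsingleton (Ext (freeSh K) (colimit (cofreeInj D)) (q + 1)) :=
    subsingleton_ext_of_goodKill hS _
      (goodKill_colimit (cofreeInj D) hS (injective_cofreeInj D) (colimit.isColimit _)) K hK q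
  have hSc := shortExact_colimSES D
  refine ⟨fun x => ?_, fun i y hy => ?_⟩
  · obtain ⟨z, hz⟩ := Ext.covariant_sequence_exact₁ (freeSh K) hSc x (hI.elim _ _) (rfl : q + 1 = q + 1)
    obtain ⟨i, w, hw⟩ := (ih (cokernel (toCofreeInj D))).surj z
    refine ⟨i, w.comp (shortExact_stageSES D i).extClass rfl, ?_⟩
    refine (conn_natural (shortExact_stageSES D i) hSc (stageToColim D i) w).trans ?_
    exact (congrArg (fun t => Ext.comp t hSc.extClass rfl) hw).trans hz
  · have : Injective (stageSES D i).X₂ := injective_cofreeInj D i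
    obtain ⟨z, hz⟩ := Ext.covariant_sequence_exact₁ (freeSh K) (shortExact_stageSES D i) y
      (haveI := Ext.subsingleton_of_injective (freeSh K) (stageSES D i).X₂ q; Subsingleton.elim _ _)
      (rfl : q + 1 = q + 1)
    subst hz
    have h0 : (z.comp (Ext.mk₀ (stageToColim D i).τ₃) (add_zero q)).comp hSc.extClass rfl = 0 :=
      (conn_natural (shortExact_stageSES D i) hSc (stageToColim D i) z).symm.trans hy
    obtain ⟨a, ha⟩ := Ext.covariant_sequence_exact₃ (freeSh K) hSc _ rfl h0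
    obtain ⟨j, b, hb⟩ := (ih (cofreeInj D)).surj a
    obtain ⟨k, f, g, -⟩ : ∃ (k : Λ) (f : i ⟶ k) (g : j ⟶ k), True :=
      ⟨IsFiltered.max i j, IsFiltered.leftToMax i j, IsFiltered.rightToMax i j, trivial⟩
    let r := (b.comp (Ext.mk₀ ((cofreeInj D).map g)) (add_zero q)).comp (Ext.mk₀ (stageSES D k).g) (add_zero q)
    let s := z.comp (Ext.mk₀ (stageMap D f).τ₃) (add_zero q)
    have hrs : (s - r).comp (Ext.mk₀ (colimit.ι (cokernel (toCofreeInj D)) k)) (add_zero q) = 0 := by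
      rw [sub_eq_add_neg, Ext.add_comp, Ext.neg_comp, ← sub_eq_add_neg, sub_eq_zero]
      simp only [r, s, Ext.comp_assoc_of_third_deg_zero, Ext.mk₀_comp_mk₀]
      refine Eq.trans (congrArg (fun t => z.comp (Ext.mk₀ t) (add_zero q))
        (colimit.w (cokernel (toCofreeInj D)) f)) (ha.symm.trans ?_)
      rw [← hb, Ext.comp_assoc_of_third_deg_zero, Ext.mk₀_comp_mk₀]
      refine congrArg (fun t => b.comp (Ext.mk₀ t) (add_zero q)) ?_
      exact ((congrArg (· ≫ (colimSES D).g) (colimit.w (cofreeInj D) g).symm).trans (Category.assoc _ _ _)).trans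
        (congrArg ((cofreeInj D).map g ≫ ·) (stageToColim D k).comm₂₃)
    obtain ⟨l, t, ht⟩ := (ih (cokernel (toCofreeInj D))).inj k (s - r) hrs
    refine ⟨l, f ≫ t, ?_⟩
    have h1 := conn_natural (shortExact_stageSES D i) (shortExact_stageSES D l) (stageMap D (f ≫ t)) z
    refine h1.trans ?_
    have h2 : z.comp (Ext.mk₀ (stageMap D (f ≫ t)).τ₃) (add_zero q) =
        ((b.comp (Ext.mk₀ ((cofreeInj D).map (g ≫ t))) (add_zero q)).comp (Ext.mk₀ (stageSES D l).g) (add_zero q)) := by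
      rw [sub_eq_add_neg, Ext.add_comp, Ext.neg_comp, ← sub_eq_add_neg, sub_eq_zero] at ht
      simp only [r, s, Ext.comp_assoc_of_third_deg_zero, Ext.mk₀_comp_mk₀] at ht
      rw [Ext.comp_assoc_of_third_deg_zero, Ext.mk₀_comp_mk₀]
      refine Eq.trans (congrArg (fun w => z.comp (Ext.mk₀ w) (add_zero q))
        ((cokernel (toCofreeInj D)).map_comp f t)) (ht.trans ?_)
      refine congrArg (fun w => b.comp (Ext.mk₀ w) (add_zero q)) ?_
      rw [Functor.map_comp, Category.assoc, Category.assoc]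
      exact congrArg ((cofreeInj D).map g ≫ ·) (stageMap D t).comm₂₃.symm
    rw [h2, Ext.comp_assoc_of_second_deg_zero, (shortExact_stageSES D l).comp_extClass, Ext.comp_zero]

theorem comm_all (hK : Good S K) : ∀ (q : ℕ) (D : Λ ⥤ Sheaf J AddCommGrpCat.{u}), Comm (freeSh K) q D
  | 0 => comm_zero hS hK
  | q + 1 => comm_succ hS hK q (comm_all hK q)

end

end Groth.Agent.ToposFinLib.QcCollection
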