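import Groth.Agent.ToposFinLib.Eps
import Groth.Prelude.Def_SGA4a
import Mathlib.CategoryTheory.Limits.FunctorCategory.Basic

/-!
# Opens and their closed complements
-/

set_option autoImplicit false
set_option backward.isDefEq.respectTransparency false
set_option linter.unusedVariables false

universe v u

open CategoryTheory CategoryTheory.Limits Opposite ToposFin

namespace Groth.Agent.ToposFinLib

variable {C : Type u} [SmallCategory C] {J : GrothendieckTopology C} (U : Sh J) [hU : Mono (terminal.from U)]

include hU in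
lemma hom_ext_open {T : Sh J} (a b : T ⟶ U) : a = b := by
  rw [← cancel_mono (terminal.from U)]
  exact terminal.hom_ext _ _

include hU in
lemma subsingleton_open (V : Cᵒᵖ) : Subsingleton (U.obj.obj V) := ⟨fun x y => by
  have h := hom_ext_open U (epsDesc (V := V.unop) x) (epsDesc (V := V.unop) y)
  rw [← epsDesc_gen (V := V.unop) x, h, epsDesc_gen]⟩

/-- The projections define the pushout. -/
noncomputable abbrev closedPart (X : Sh J) : Sh J := pushout (prod.fst : U ⨯ X ⟶ U) (prod.snd : U ⨯ X ⟶ X)

omit hU in
theorem isPullback_prod_map {A B : Sh J} (f : A ⟶ B) :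
    IsPullback (prod.snd : U ⨯ A ⟶ A) (prod.map (𝟙 U) f) f (prod.snd : U ⨯ B ⟶ B) := by
  refine IsPullback.of_isLimit' ⟨(prod.map_snd (𝟙 U) f).symm⟩ (PullbackCone.IsLimit.mk _
    (fun s => prod.lift (s.snd ≫ prod.fst) s.fst) (fun s => prod.lift_snd _ _) (fun s => ?_) fun s m h₁ h₂ => ?_)
  · apply prod.hom_ext
    · simp
    · simpa using s.condition
  · apply prod.hom_ext
    · simp [← h₂]
    · simp [← h₁]

omit hU in
/-- The two inclusions cover the pushout. -/
theorem cov_closedPart (X : Sh J) :
    Cov (F := fun b : Bool => match b with | true => U | false => X) (X := closedPart U X)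
      (fun b => match b with | true => pushout.inl _ _ | false => pushout.inr _ _) :=
  cov_of_hom_ext fun Z a b e => pushout.hom_ext (e true) (e false)

include hU in
theorem closedCompl_closedPart (X : Sh J) : SGA4.closedCompl U (closedPart U X) := by
  let P := closedPart U X
  refine ⟨prod.lift (𝟙 U) (pushout.inl _ _), ?_, prod.lift_fst _ _⟩
  apply prod.hom_ext
  · simp
  · rw [Category.assoc, prod.lift_snd, Category.id_comp]
    refine ((cov_closedPart U X).pullback (prod.snd : U ⨯ P ⟶ P)
      (P := fun b => match b with | true => U ⨯ U | false => U ⨯ X)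
      (p := fun b => match b with | true => prod.map (𝟙 U) (pushout.inl _ _) | false => prod.map (𝟙 U) (pushout.inr _ _))
      (q := fun b => match b with | true => prod.snd | false => prod.snd) ?_).hom_ext ?_
    · rintro (_ | _) <;> exact (isPullback_prod_map U _).flip
    · rintro (_ | _)
      · show prod.map (𝟙 U) (pushout.inr _ _) ≫ prod.fst ≫ pushout.inl _ _ =
          prod.map (𝟙 U) (pushout.inr _ _) ≫ prod.snd
        rw [prod.map_fst_assoc, prod.map_snd, Category.id_comp]
        exact pushout.condition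
      · show prod.map (𝟙 U) (pushout.inl _ _) ≫ prod.fst ≫ pushout.inl _ _ =
          prod.map (𝟙 U) (pushout.inl _ _) ≫ prod.snd
        rw [prod.map_fst_assoc, prod.map_snd, Category.id_comp, hom_ext_open U (prod.fst : U ⨯ U ⟶ U) prod.snd]

omit hU in
theorem closedCompl_of_iso {X Y : Sh J} (e : X ≅ Y) (h : SGA4.closedCompl U X) : SGA4.closedCompl U Y := by
  haveI : IsIso (prod.fst : U ⨯ X ⟶ U) := h
  have : (prod.fst : U ⨯ Y ⟶ U) = prod.map (𝟙 U) e.inv ≫ prod.fst := by simp
  show IsIso (prod.fst : U ⨯ Y ⟶ U)
  rw [this]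
  infer_instance

omit hU in
theorem isIso_inr_of_closed {X : Sh J} (h : SGA4.closedCompl U X) :
    IsIso (pushout.inr (prod.fst : U ⨯ X ⟶ U) (prod.snd : U ⨯ X ⟶ X)) := by
  haveI : IsIso (prod.fst : U ⨯ X ⟶ U) := h
  infer_instance

include hU in
theorem closedCompl_iff_isIso_inr (X : Sh J) :
    SGA4.closedCompl U X ↔ IsIso (pushout.inr (prod.fst : U ⨯ X ⟶ U) (prod.snd : U ⨯ X ⟶ X)) :=
  ⟨isIso_inr_of_closed U, fun h =>
    closedCompl_of_iso U (asIso (pushout.inr (prod.fst : U ⨯ X ⟶ U) (prod.snd : U ⨯ X ⟶ X))).symm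
      (closedCompl_closedPart U X)⟩

include hU in
/-- Morphisms out of the closed part into a closed object. -/
theorem existsUnique_desc {X Z : Sh J} (hZ : SGA4.closedCompl U Z) (f : X ⟶ Z) :
    ∃! g : closedPart U X ⟶ Z, pushout.inr _ _ ≫ g = f := by
  haveI : IsIso (prod.fst : U ⨯ Z ⟶ U) := hZ
  let a : U ⟶ Z := inv (prod.fst : U ⨯ Z ⟶ U) ≫ prod.snd
  have ha : ∀ {T : Sh J} (x : T ⟶ U) (z : T ⟶ Z), x ≫ a = z := fun x z => by
    have : x ≫ inv (prod.fst : U ⨯ Z ⟶ U) = prod.lift x z := by
      rw [← cancel_mono (prod.fst : U ⨯ Z ⟶ U)]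
      simp
    rw [← Category.assoc, this, prod.lift_snd]
  refine ⟨pushout.desc a f (ha _ _), pushout.inr_desc _ _ _, fun g hg => pushout.hom_ext ?_ ?_⟩
  · rw [pushout.inl_desc, ← ha (𝟙 U) (pushout.inl _ _ ≫ g), Category.id_comp]
  · rw [pushout.inr_desc, hg]

/-- The presheaf model of the closed part: sections away from `U`. -/
def awayPsh (X : Sh J) : Cᵒᵖ ⥤ Type u where
  obj V := ULift.{u} (PLift (IsEmpty (U.obj.obj V))) → X.obj.obj V
  map {V W} g := TypeCat.ofHom fun q h => X.obj.map g (q ⟨⟨⟨fun u => h.down.down.false (U.obj.map g u)⟩⟩⟩)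
  map_id V := by ext q h; simp
  map_comp f g := by ext q h; simp

/-- The presheaf model as a functor. -/
def awayFun : Sh J ⥤ Cᵒᵖ ⥤ Type u where
  obj X := awayPsh U X
  map {X Y} f :=
    { app := fun V => TypeCat.ofHom fun q h => f.hom.app V (q h)
      naturality := fun V W g => by
        ext q
        funext h
        exact NatTrans.naturality_apply f.hom g _ }
  map_id X := by ext V q; funext h; rfl
  map_comp f g := by ext V q; funext h; rfl

omit hU in
theorem preservesFiniteLimits_awayFun : PreservesFiniteLimits (awayFun U) := ⟨fun K _ _ => by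
  refine preservesLimitsOfShape_of_evaluation _ _ fun V => ?_
  exact preservesLimitsOfShape_of_natIso (F := sheafToPresheaf J (Type u) ⋙ (evaluation Cᵒᵖ (Type u)).obj V ⋙
    coyoneda.obj (op (ULift.{u} (PLift (IsEmpty (U.obj.obj V))))))
    (NatIso.ofComponents (fun X =>
      { hom := TypeCat.ofHom fun (q : ULift.{u} (PLift (IsEmpty (U.obj.obj V))) ⟶ X.obj.obj V) h => q h
        inv := TypeCat.ofHom fun q => TypeCat.ofHom q }) fun {X Y} f => rfl)⟩

/-- The canonical map of presheaves. -/
def toAway (X : Sh J) : X.obj ⟶ awayPsh U X where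
  app V := TypeCat.ofHom fun x _ => x
  naturality V W g := by ext x; rfl

/-- The model of the closed part. -/
noncomputable abbrev away : Sh J ⥤ Sh J := awayFun U ⋙ presheafToSheaf J (Type u)

theorem preservesFiniteLimits_away : PreservesFiniteLimits (away U) :=
  haveI := preservesFiniteLimits_awayFun U
  comp_preservesFiniteLimits _ _

/-- The unit. -/
noncomputable def toAwaySh (X : Sh J) : X ⟶ (away U).obj X := ⟨toAway U X ≫ toSheafify J _⟩

/-- The map from `U`. -/
noncomputable def openToAway (X : Sh J) : U ⟶ (away U).obj X :=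
  ⟨{ app := fun V => TypeCat.ofHom fun u h => (h.down.down.false u).elim
     naturality := fun V W g => by ext u; funext h; exact (h.down.down.false (U.obj.map g u)).elim :
     U.obj ⟶ awayPsh U X } ≫ toSheafify J _⟩

omit hU in
lemma away_condition (X : Sh J) :
    (prod.fst : U ⨯ X ⟶ U) ≫ openToAway U X = prod.snd ≫ toAwaySh U X := by
  apply CategoryTheory.Sheaf.hom_ext
  ext V z
  refine congrArg ((toSheafify J (awayPsh U X)).app V) ?_
  funext h
  exact (h.down.down.false ((prod.fst : U ⨯ X ⟶ U).hom.app V z)).elim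

open Classical in
/-- The inverse comparison on presheaves. -/
noncomputable def awayToClosedPart₀ (X : Sh J) : awayPsh U X ⟶ (closedPart U X).obj where
  app V := TypeCat.ofHom fun q =>
    if h : IsEmpty (U.obj.obj V) then (pushout.inr (prod.fst : U ⨯ X ⟶ U) (prod.snd : U ⨯ X ⟶ X)).hom.app V (q ⟨⟨h⟩⟩)
    else (pushout.inl (prod.fst : U ⨯ X ⟶ U) (prod.snd : U ⨯ X ⟶ X)).hom.app V (not_isEmpty_iff.1 h).some
  naturality V W g := by
    haveI := subsingleton_open U W
    ext q
    show dite _ _ _ = (closedPart U X).obj.map g (dite _ _ _)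
    by_cases hV : IsEmpty (U.obj.obj V)
    · rw [dif_pos hV]
      by_cases hW : IsEmpty (U.obj.obj W)
      · rw [dif_pos hW, ← NatTrans.naturality_apply]
        rfl
      · rw [dif_neg hW, ← NatTrans.naturality_apply]
        obtain ⟨w, hw₁, hw₂⟩ : ∃ w : (U ⨯ X).obj.obj W, (prod.fst : U ⨯ X ⟶ U).hom.app W w = (not_isEmpty_iff.1 hW).some ∧
            (prod.snd : U ⨯ X ⟶ X).hom.app W w = X.obj.map g (q ⟨⟨hV⟩⟩) := by
          let l : eps J W.unop ⟶ U ⨯ X :=
            prod.lift (epsDesc (not_isEmpty_iff.1 hW).some) (epsDesc (X.obj.map g (q ⟨⟨hV⟩⟩)))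
          refine ⟨l.hom.app W (epsGen J W.unop), Subsingleton.elim _ _, ?_⟩
          exact (congrArg (fun r : eps J W.unop ⟶ X => r.hom.app W (epsGen J W.unop)) (prod.lift_snd _ _)).trans
            (epsDesc_gen _)
        rw [← hw₁, ← hw₂]
        exact congrArg (fun r : U ⨯ X ⟶ closedPart U X => r.hom.app W w) pushout.condition
    · have hW : ¬ IsEmpty (U.obj.obj W) := fun h => h.false (U.obj.map g (not_isEmpty_iff.1 hV).some)
      rw [dif_neg hV, dif_neg hW, ← NatTrans.naturality_apply]
      exact congrArg _ (Subsingleton.elim _ _)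

include hU in
/-- The model computes the closed part. -/
theorem exists_iso_away (X : Sh J) : ∃ e : closedPart U X ≅ (away U).obj X,
    pushout.inl _ _ ≫ e.hom = openToAway U X ∧ pushout.inr _ _ ≫ e.hom = toAwaySh U X := by
  let f : closedPart U X ⟶ (away U).obj X := pushout.desc (openToAway U X) (toAwaySh U X) (away_condition U X)
  let g : (away U).obj X ⟶ closedPart U X :=
    ((sheafificationAdjunction J (Type u)).homEquiv _ _).symm (awayToClosedPart₀ U X)
  have hg : toSheafify J (awayPsh U X) ≫ g.hom = awayToClosedPart₀ U X := by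
    have := Equiv.apply_symm_apply ((sheafificationAdjunction J (Type u)).homEquiv (awayPsh U X) (closedPart U X))
      (awayToClosedPart₀ U X)
    rw [Adjunction.homEquiv_unit] at this
    exact this
  have hgV : ∀ V q, g.hom.app V ((toSheafify J (awayPsh U X)).app V q) = (awayToClosedPart₀ U X).app V q := fun V q =>
    congrArg (fun r => r.app V q) hg
  refine ⟨⟨f, g, pushout.hom_ext ?_ ?_, ?_⟩, pushout.inl_desc _ _ _, pushout.inr_desc _ _ _⟩
  · rw [pushout.inl_desc_assoc, Category.comp_id]
    apply CategoryTheory.Sheaf.hom_ext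
    ext V u
    haveI := subsingleton_open U V
    refine (hgV V _).trans ?_
    refine (dif_neg (fun h => h.false u)).trans ?_
    exact congrArg _ (Subsingleton.elim _ _)
  · rw [pushout.inr_desc_assoc, Category.comp_id]
    apply CategoryTheory.Sheaf.hom_ext
    ext V x
    refine (hgV V _).trans ?_
    by_cases h : IsEmpty (U.obj.obj V)
    · exact dif_pos h
    · refine (dif_neg h).trans ?_
      let l : eps J V.unop ⟶ U ⨯ X := prod.lift (epsDesc (not_isEmpty_iff.1 h).some) (epsDesc x)
      have h₁ := (congrArg (fun r : eps J V.unop ⟶ U => r.hom.app V (epsGen J V.unop))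
        (prod.lift_fst (epsDesc (not_isEmpty_iff.1 h).some) (epsDesc x))).trans (epsDesc_gen _)
      have h₂ := (congrArg (fun r : eps J V.unop ⟶ X => r.hom.app V (epsGen J V.unop))
        (prod.lift_snd (epsDesc (not_isEmpty_iff.1 h).some) (epsDesc x))).trans (epsDesc_gen _)
      rw [← h₁]
      conv_rhs => rw [← h₂]
      exact congrArg (fun r : U ⨯ X ⟶ closedPart U X => r.hom.app V (l.hom.app V (epsGen J V.unop))) pushout.condition
  · apply ((sheafificationAdjunction J (Type u)).homEquiv _ _).injective
    rw [Adjunction.homEquiv_unit, Adjunction.homEquiv_unit]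
    ext V q
    show f.hom.app V (g.hom.app V ((toSheafify J (awayPsh U X)).app V q)) = (toSheafify J (awayPsh U X)).app V q
    rw [hgV]
    by_cases h : IsEmpty (U.obj.obj V)
    · refine (congrArg (f.hom.app V) (dif_pos h)).trans ?_
      refine (congrArg (fun r : X ⟶ (away U).obj X => r.hom.app V (q ⟨⟨h⟩⟩)) (pushout.inr_desc _ _ _)).trans ?_
      exact congrArg ((toSheafify J (awayPsh U X)).app V) (funext fun h' => rfl)
    · refine (congrArg (f.hom.app V) (dif_neg h)).trans ?_
      refine (congrArg (fun r : U ⟶ (away U).obj X => r.hom.app V (not_isEmpty_iff.1 h).some)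
        (pushout.inl_desc _ _ _)).trans ?_
      exact congrArg ((toSheafify J (awayPsh U X)).app V) (funext fun h' => (h h'.down.down).elim)

include hU in
theorem closedCompl_away (X : Sh J) : SGA4.closedCompl U ((away U).obj X) := by
  obtain ⟨e, -⟩ := exists_iso_away U X
  exact closedCompl_of_iso U e (closedCompl_closedPart U X)

omit hU in
theorem toAwaySh_natural {X Y : Sh J} (f : X ⟶ Y) :
    f ≫ toAwaySh U Y = toAwaySh U X ≫ (away U).map f := by
  apply CategoryTheory.Sheaf.hom_ext
  show f.hom ≫ toAway U Y ≫ toSheafify J _ = (toAway U X ≫ toSheafify J _) ≫ sheafifyMap J ((awayFun U).map f)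
  rw [Category.assoc, ← toSheafify_naturality]
  rfl

omit hU in
theorem openToAway_natural {X Y : Sh J} (f : X ⟶ Y) :
    openToAway U Y = openToAway U X ≫ (away U).map f := by
  apply CategoryTheory.Sheaf.hom_ext
  show _ ≫ toSheafify J _ = (_ ≫ toSheafify J _) ≫ sheafifyMap J ((awayFun U).map f)
  rw [Category.assoc, ← toSheafify_naturality, ← Category.assoc]
  congr 1
  ext V u
  funext h
  exact (h.down.down.false u).elim

include hU in
theorem existsUnique_away_desc {X Z : Sh J} (hZ : SGA4.closedCompl U Z) (f : X ⟶ Z) :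
    ∃! g : (away U).obj X ⟶ Z, toAwaySh U X ≫ g = f := by
  obtain ⟨e, -, he⟩ := exists_iso_away U X
  obtain ⟨g, hg, huniq⟩ := existsUnique_desc U hZ f
  have hg' : pushout.inr _ _ ≫ g = f := hg
  refine ⟨e.inv ≫ g, by simp only [← he, Category.assoc, Iso.hom_inv_id_assoc]; exact hg', fun g' hg'' => ?_⟩
  rw [Iso.eq_inv_comp]
  exact huniq _ (by simp only [← Category.assoc, he]; exact hg'')

/-- The reflector of the closed complement. -/
noncomputable def closedReflector : Sh J ⥤ (SGA4.closedCompl U).FullSubcategory :=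
  (SGA4.closedCompl U).lift (away U) (closedCompl_away U)

/-- The adjunction. -/
noncomputable def closedAdj : closedReflector U ⊣ (SGA4.closedCompl U).ι :=
  Adjunction.mkOfHomEquiv
    { homEquiv := fun X Z =>
        { toFun := fun g => toAwaySh U X ≫ g.hom
          invFun := fun f => ObjectProperty.homMk (existsUnique_away_desc U Z.property f).choose
          left_inv := fun g => ObjectProperty.hom_ext _
            ((existsUnique_away_desc U Z.property (toAwaySh U X ≫ g.hom)).choose_spec.2 g.hom rfl).symm
          right_inv := fun f => (existsUnique_away_desc U Z.property f).choose_spec.1 }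
      homEquiv_naturality_left_symm := fun {X' X Z} f g => ObjectProperty.hom_ext _
        ((existsUnique_away_desc U Z.property (f ≫ g)).choose_spec.2
          ((away U).map f ≫ (existsUnique_away_desc U Z.property g).choose) (by
            show toAwaySh U X' ≫ _ ≫ _ = f ≫ g
            rw [← Category.assoc, ← toAwaySh_natural, Category.assoc,
              (existsUnique_away_desc U Z.property g).choose_spec.1])).symm
      homEquiv_naturality_right := fun {X Z Z'} g h => (by
        show toAwaySh U X ≫ (g.hom ≫ h.hom) = (toAwaySh U X ≫ g.hom) ≫ h.hom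
        rw [Category.assoc]) }

theorem preservesFiniteLimits_closedReflector : PreservesFiniteLimits (closedReflector U) := ⟨fun K _ _ => by
  haveI : PreservesLimitsOfShape K (closedReflector U ⋙ (SGA4.closedCompl U).ι) :=
    haveI := preservesFiniteLimits_away U
    inferInstanceAs (PreservesLimitsOfShape K (away U))
  exact preservesLimitsOfShape_of_reflects_of_preserves (closedReflector U) (SGA4.closedCompl U).ι⟩

include hU in
/-- An isomorphism over `U` gives a cartesian square with the closed parts. -/
theorem isPullback_away {X X' : Sh J} (m : X ⟶ X') (h : IsIso (prod.map (𝟙 U) m)) :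
    IsPullback m (toAwaySh U X) (toAwaySh U X') ((away U).map m) := by
  have key : IsPullback m.hom (toAway U X) (toAway U X') ((awayFun U).map m) := by
    refine IsPullback.of_forall_isPullback_app fun V => (Types.isPullback_iff _ _ _ _).2 ⟨?_, ?_, ?_⟩
    · ext x; rfl
    · rintro x x' ⟨h₁, h₂⟩
      by_cases hV : IsEmpty (U.obj.obj V)
      · exact congrFun h₂ ⟨⟨hV⟩⟩
      · let u := (not_isEmpty_iff.1 hV).some
        have e : prod.lift (epsDesc (V := V.unop) u) (epsDesc x) = prod.lift (epsDesc u) (epsDesc x') := by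
          rw [← cancel_mono (prod.map (𝟙 U) m), prod.lift_map, prod.lift_map]
          congr 1
          refine eps_hom_ext ?_
          show m.hom.app V ((epsDesc x).hom.app V _) = m.hom.app V ((epsDesc x').hom.app V _)
          rw [epsDesc_gen, epsDesc_gen]
          exact h₁
        have e' := congrArg (fun r => (r ≫ (prod.snd : U ⨯ X ⟶ X)).hom.app V (epsGen J V.unop)) e
        simp only [prod.lift_snd] at e'
        exact (epsDesc_gen x).symm.trans (e'.trans (epsDesc_gen x'))
    · intro x' q hq
      by_cases hV : IsEmpty (U.obj.obj V)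
      · exact ⟨q ⟨⟨hV⟩⟩, (congrFun hq ⟨⟨hV⟩⟩).symm, funext fun _ => rfl⟩
      · let u := (not_isEmpty_iff.1 hV).some
        let l : eps J V.unop ⟶ U ⨯ X := prod.lift (epsDesc u) (epsDesc x') ≫ inv (prod.map (𝟙 U) m)
        refine ⟨(l ≫ prod.snd).hom.app V (epsGen J V.unop), ?_, funext fun h' => (hV h'.down.down).elim⟩
        have hl : (l ≫ prod.snd) ≫ m = epsDesc x' := by
          rw [Category.assoc, ← prod.map_snd (𝟙 U) m, Category.assoc, IsIso.inv_hom_id_assoc, prod.lift_snd]
        exact (congrArg (fun r : eps J V.unop ⟶ X' => r.hom.app V (epsGen J V.unop)) hl).trans (epsDesc_gen x')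
  let adj := sheafificationAdjunction J (Type u)
  refine IsPullback.of_iso (key.map (presheafToSheaf J (Type u))) (asIso (adj.counit.app X))
    (asIso (adj.counit.app X')) (Iso.refl _) (Iso.refl _) (adj.counit.naturality m) ?_ ?_ ?_
  · rw [Iso.refl_hom, Category.comp_id, asIso_hom]
    apply (adj.homEquiv _ _).injective
    rw [Adjunction.homEquiv_unit, Adjunction.homEquiv_unit, Functor.map_comp]
    exact (toSheafify_naturality J (toAway U X)).symm.trans
      (Adjunction.right_triangle_components_assoc adj X (toAwaySh U X).hom).symm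
  · rw [Iso.refl_hom, Category.comp_id, asIso_hom]
    apply (adj.homEquiv _ _).injective
    rw [Adjunction.homEquiv_unit, Adjunction.homEquiv_unit, Functor.map_comp]
    exact (toSheafify_naturality J (toAway U X')).symm.trans
      (Adjunction.right_triangle_components_assoc adj X' (toAwaySh U X').hom).symm
  · rw [Iso.refl_hom, Category.comp_id]
    exact (Category.id_comp _).symm

include hU in
theorem isPullback_closedPart {X X' : Sh J} (m : X ⟶ X') (k : closedPart U X ⟶ closedPart U X')
    (hk₁ : pushout.inl _ _ ≫ k = pushout.inl _ _) (hk₂ : pushout.inr _ _ ≫ k = m ≫ pushout.inr _ _)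
    (h : IsIso (prod.map (𝟙 U) m)) : IsPullback m (pushout.inr _ _) (pushout.inr _ _) k := by
  obtain ⟨e, he₁, he₂⟩ := exists_iso_away U X
  obtain ⟨e', he₁', he₂'⟩ := exists_iso_away U X'
  have hsq : k ≫ e'.hom = e.hom ≫ (away U).map m := by
    apply pushout.hom_ext
    · rw [reassoc_of% hk₁, he₁', reassoc_of% he₁]
      exact openToAway_natural U m
    · rw [reassoc_of% hk₂, he₂', reassoc_of% he₂]
      exact toAwaySh_natural U m
  refine IsPullback.of_iso (isPullback_away U m h) (Iso.refl _) (Iso.refl _) e.symm e'.symm (by simp) ?_ ?_ ?_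
  · rw [Iso.symm_hom, ← he₂, Category.assoc, e.hom_inv_id, Category.comp_id, Iso.refl_hom, Category.id_comp]
  · rw [Iso.symm_hom, ← he₂', Category.assoc, e'.hom_inv_id, Category.comp_id, Iso.refl_hom, Category.id_comp]
  · rw [Iso.symm_hom, Iso.symm_hom, Iso.comp_inv_eq, Category.assoc, hsq, Iso.inv_hom_id_assoc]

omit hU in
theorem isIso_prodMap_of_isPullback {X X' : Sh J} (m : X ⟶ X') (k : closedPart U X ⟶ closedPart U X')
    (hk₁ : pushout.inl _ _ ≫ k = pushout.inl _ _) (h : IsPullback m (pushout.inr _ _) (pushout.inr _ _) k) :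
    IsIso (prod.map (𝟙 U) m) := by
  have hw : (prod.snd : U ⨯ X' ⟶ X') ≫ pushout.inr _ _ = ((prod.fst : U ⨯ X' ⟶ U) ≫ pushout.inl _ _) ≫ k := by
    rw [Category.assoc, hk₁]
    exact pushout.condition.symm
  refine ⟨prod.lift prod.fst (h.lift prod.snd (prod.fst ≫ pushout.inl _ _) hw), ?_, ?_⟩
  · apply prod.hom_ext
    · simp
    · apply h.hom_ext
      · simp
      · simp [pushout.condition]
  · apply prod.hom_ext <;> simp

end Groth.Agent.ToposFinLib
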