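import Groth.Agent.ToposFinLib.Eps

/-!
# Partitions are coproducts; decompositions of associated sheaves
-/

set_option autoImplicit false
set_option backward.isDefEq.respectTransparency false
set_option linter.unusedVariables false

universe v u

open CategoryTheory CategoryTheory.Limits Opposite ToposFin

namespace Groth.Agent.ToposFinLib

variable {C : Type u} [SmallCategory C] {J : GrothendieckTopology C}

section

variable {ι : Type v} {F : ι → Sh J} {X : Sh J} {π : ∀ i, F i ⟶ X}

theorem IsPartition.isNullObj_pullback (h : IsPartition π) {i j : ι} (hij : i ≠ j) :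
    IsNullObj (Limits.pullback (π i) (π j)) := fun U z =>
  h.disj hij ((pullback.fst (π i) (π j)).hom.app _ z) ((pullback.snd (π i) (π j)).hom.app _ z)
    (congrArg (fun q : Limits.pullback (π i) (π j) ⟶ X => q.hom.app (op U) z) pullback.condition)

theorem isPartition_mk (hcov : Cov π) (hmono : ∀ i, Mono (π i))
    (hdisj : ∀ i j, i ≠ j → IsNullObj (Limits.pullback (π i) (π j))) : IsPartition π where
  cov := hcov
  mono := hmono
  disj i j hij U z z' e := by
    obtain ⟨w, -, -⟩ := Types.exists_of_isPullback
      (((IsPullback.of_hasPullback (π i) (π j)).map (sheafToPresheaf J (Type u))).map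
        ((evaluation Cᵒᵖ (Type u)).obj (op U))) z z' e
    exact hdisj i j hij w

/-- A partition is a coproduct. -/
theorem IsPartition.nonempty_isColimit (h : IsPartition π) : Nonempty (IsColimit (Cofan.mk X π)) := by
  have hd : ∀ s : Cofan F, ∃ f : X ⟶ s.pt, ∀ i, π i ≫ f = s.inj i := fun s => by
    refine h.cov.exists_desc _ fun i j => ?_
    by_cases hij : i = j
    · subst hij
      haveI := h.mono i
      rw [(cancel_mono (π i)).1 (pullback.condition (f := π i) (g := π i))]
    · exact (h.isNullObj_pullback hij).isInitial.hom_ext _ _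
  choose f hf using hd
  exact ⟨Cofan.IsColimit.mk _ f hf fun s m hm => h.cov.hom_ext fun i => (hm i).trans (hf s i).symm⟩

end

theorem nonempty_isColimit_iff_isPartition {ι : Type u} {F : ι → Sh J} {X : Sh J} (π : ∀ i, F i ⟶ X) :
    Nonempty (IsColimit (Cofan.mk X π)) ↔ IsPartition π :=
  ⟨fun ⟨hc⟩ => isPartition_of_isColimit F hc, fun h => h.nonempty_isColimit⟩

/-- A family of representables covers the associated sheaf iff it generates a covering sieve. -/
theorem cov_epsMap_iff {X : C} {ι : Type v} (Y : ι → C) (s : ∀ i, Y i ⟶ X) :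
    Cov (fun i => epsMap (J := J) (s i)) ↔ Sieve.ofArrows Y s ∈ J X := by
  rw [cov_eps_iff]
  constructor
  · intro h
    refine J.transitive h _ ?_
    rintro U a ⟨i, z, hz⟩
    obtain ⟨T, hT, hT'⟩ := eps_imageSieve z
    refine J.transitive hT _ fun W b hb => ?_
    obtain ⟨k, hk⟩ := hT' b hb
    have heq : (eps J X).obj.map (k ≫ s i).op (epsGen J X) = (eps J X).obj.map (b ≫ a).op (epsGen J X) := by
      rw [op_comp, op_comp, Functor.map_comp_apply, Functor.map_comp_apply, ← epsMap_gen, ← hz,
        ← NatTrans.naturality_apply, ← NatTrans.naturality_apply, hk]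
    obtain ⟨R, hR, hR'⟩ := eps_locally_eq _ _ heq
    refine J.superset_covering (fun W' c hc => ?_) hR
    show Sieve.ofArrows Y s ((c ≫ b) ≫ a)
    rw [Category.assoc, ← hR' c hc, ← Category.assoc]
    exact Sieve.downward_closed _ (Sieve.ofArrows_mk Y s i) (c ≫ k)
  · intro h
    refine J.superset_covering ?_ h
    rw [Sieve.ofArrows, Sieve.generate_le_iff]
    rintro _ _ ⟨i⟩
    exact ⟨i, epsGen J _, epsMap_gen (s i)⟩

theorem isNullObj_eps {P : C} (h : (⊥ : Sieve P) ∈ J P) : IsNullObj (eps J P) := by
  intro U y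
  obtain ⟨S, hS, hS'⟩ := eps_imageSieve y
  refine J.transitive hS _ fun W a ha => ?_
  obtain ⟨g, -⟩ := hS' a ha
  rw [Sieve.pullback_bot]
  have := J.pullback_stable g h
  rwa [Sieve.pullback_bot] at this

section Diagonal

variable {A B : Cᵒᵖ ⥤ Type u} (f : A ⟶ B)

theorem isIso_map_diagonal_iff_mono :
    IsIso ((presheafToSheaf J (Type u)).map (pullback.diagonal f)) ↔ Mono ((presheafToSheaf J (Type u)).map f) := by
  let L := presheafToSheaf J (Type u)
  have sq := (IsPullback.of_hasPullback f f).map L
  have h₁ : L.map (pullback.diagonal f) ≫ L.map (pullback.fst f f) = 𝟙 _ := by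
    rw [← L.map_comp, pullback.diagonal_fst, L.map_id]
  have h₂ : L.map (pullback.diagonal f) ≫ L.map (pullback.snd f f) = 𝟙 _ := by
    rw [← L.map_comp, pullback.diagonal_snd, L.map_id]
  constructor
  · intro hi
    have e : L.map (pullback.fst f f) = L.map (pullback.snd f f) :=
      (cancel_epi (L.map (pullback.diagonal f))).1 (h₁.trans h₂.symm)
    exact ⟨fun a b hab => (sq.lift_fst a b hab).symm.trans
      ((congrArg (sq.lift a b hab ≫ ·) e).trans (sq.lift_snd a b hab))⟩
  · intro hm
    have e : L.map (pullback.fst f f) = L.map (pullback.snd f f) := (cancel_mono (L.map f)).1 sq.w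
    refine ⟨L.map (pullback.fst f f), h₁, sq.hom_ext ?_ ?_⟩
    · rw [Category.assoc, h₁, Category.comp_id, Category.id_comp]
    · rw [Category.assoc, h₂, Category.comp_id, Category.id_comp, e]

end Diagonal

theorem isPartition_eps_iff {X : C} {ι : Type u} (Y : ι → C) (s : ∀ i, Y i ⟶ X) :
    IsPartition (fun i => epsMap (J := J) (s i)) ↔ Sieve.ofArrows Y s ∈ J X ∧
      (∀ i, IsIso ((presheafToSheaf J (Type u)).map (pullback.diagonal (yoneda.map (s i))))) ∧
      (∀ i j, i ≠ j → Nonempty (IsInitial ((presheafToSheaf J (Type u)).obj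
        (Limits.pullback (yoneda.map (s i)) (yoneda.map (s j)))))) := by
  have sq := fun i j => ((IsPullback.of_hasPullback (yoneda.map (s i)) (yoneda.map (s j))).map
    (presheafToSheaf J (Type u))).isoPullback
  constructor
  · intro h
    refine ⟨(cov_epsMap_iff Y s).1 h.cov, fun i => (isIso_map_diagonal_iff_mono _).2 (h.mono i), fun i j hij => ?_⟩
    exact ⟨((h.isNullObj_pullback hij).of_hom (sq i j).hom).isInitial⟩
  · rintro ⟨hcov, hdiag, hinit⟩
    exact isPartition_mk ((cov_epsMap_iff Y s).2 hcov) (fun i => (isIso_map_diagonal_iff_mono _).1 (hdiag i))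
      fun i j hij => (isNullObj_of_isInitial (hinit i j hij).some).of_hom (sq i j).inv

end Groth.Agent.ToposFinLib
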