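import Mathlib.CategoryTheory.Functor.KanExtension.Adjunction
import Mathlib.CategoryTheory.Adjunction.FullyFaithful
import Mathlib.CategoryTheory.Limits.Indization.IndObject
import Mathlib.CategoryTheory.Limits.Types.Colimits
import Mathlib.CategoryTheory.Limits.Shapes.Pullback.IsPullback.Basic
import Mathlib.CategoryTheory.Limits.Types.Pullbacks
import Mathlib.CategoryTheory.Comma.Over.Basic
import Mathlib.CategoryTheory.Limits.FunctorCategory.EpiMono

/-!
# Elements of the left Kan extension of a presheaf of sets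
-/

set_option autoImplicit false
set_option backward.isDefEq.respectTransparency false
set_option linter.unusedVariables false
set_option linter.style.haveILetI false

universe w v u

open CategoryTheory CategoryTheory.Limits Opposite

namespace Groth.Agent.LanPsh

variable {C C' : Type u} [SmallCategory C] [SmallCategory C'] (u : C ⥤ C')

/-- The extension functor. -/
noncomputable abbrev ext : (Cᵒᵖ ⥤ Type u) ⥤ (C'ᵒᵖ ⥤ Type u) := u.op.lan

/-- The unit. -/
noncomputable abbrev eta (H : Cᵒᵖ ⥤ Type u) : H ⟶ u.op ⋙ (ext u).obj H :=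
  (u.op.lanAdjunction (Type u)).unit.app H

variable {u}

/-- The element given by `g : X' ⟶ u d` and `z`. -/
noncomputable def inj (H : Cᵒᵖ ⥤ Type u) {X' : C'} {d : C} (g : X' ⟶ u.obj d) (z : H.obj (op d)) :
    ((ext u).obj H).obj (op X') :=
  ((ext u).obj H).map g.op ((eta u H).app (op d) z)

variable {H K : Cᵒᵖ ⥤ Type u}

lemma inj_id {X : C} (z : H.obj (op X)) : inj H (𝟙 (u.obj X)) z = (eta u H).app (op X) z := by
  show ((ext u).obj H).map (𝟙 (u.obj X)).op _ = _
  rw [op_id, Functor.map_id_apply]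

lemma inj_map {X' Y' : C'} {d : C} (f : Y' ⟶ X') (g : X' ⟶ u.obj d) (z : H.obj (op d)) :
    ((ext u).obj H).map f.op (inj H g z) = inj H (f ≫ g) z := by
  show _ = ((ext u).obj H).map (f ≫ g).op _
  rw [op_comp, Functor.map_comp_apply]
  rfl

lemma inj_rel {X' : C'} {d d₂ : C} (g : X' ⟶ u.obj d) (h : d ⟶ d₂) (z : H.obj (op d₂)) :
    inj H g (H.map h.op z) = inj H (g ≫ u.map h) z := by
  show _ = ((ext u).obj H).map (g ≫ u.map h).op _
  rw [op_comp, Functor.map_comp_apply]
  exact congrArg (((ext u).obj H).map g.op) (NatTrans.naturality_apply (eta u H) h.op z)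

lemma inj_natural (φ : H ⟶ K) {X' : C'} {d : C} (g : X' ⟶ u.obj d) (z : H.obj (op d)) :
    ((ext u).map φ).app (op X') (inj H g z) = inj K g (φ.app (op d) z) := by
  refine (NatTrans.naturality_apply ((ext u).map φ) g.op _).trans ?_
  refine congrArg (((ext u).obj K).map g.op) ?_
  exact (congrArg (fun r => r.app (op d) z) ((u.op.lanAdjunction (Type u)).unit.naturality φ)).symm

/-- The pointwise colimit. -/
noncomputable def isColimitAt (H : Cᵒᵖ ⥤ Type u) (X' : C') :
    IsColimit ((Functor.LeftExtension.mk ((ext u).obj H) (u.op.lanUnit.app H)).coconeAt (op X')) :=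
  Functor.isPointwiseLeftKanExtensionLeftKanExtensionUnit u.op H (op X')

lemma eta_eq (H : Cᵒᵖ ⥤ Type u) : eta u H = u.op.lanUnit.app H := by
  show (u.op.lanAdjunction (Type u)).unit.app H = _
  rw [Functor.lanAdjunction_unit]

lemma exists_inj {X' : C'} (e : ((ext u).obj H).obj (op X')) :
    ∃ (d : C) (g : X' ⟶ u.obj d) (z : H.obj (op d)), inj H g z = e := by
  obtain ⟨A, z, hz⟩ := Types.jointly_surjective_of_isColimit (isColimitAt H X') e
  refine ⟨A.left.unop, A.hom.unop, z, Eq.trans ?_ hz⟩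
  show ((ext u).obj H).map A.hom ((eta u H).app A.left z) = _
  rw [eta_eq]
  rfl

lemma exists_desc {X' : C'} {α : Type u} (f : ∀ (d : C) (_ : X' ⟶ u.obj d), H.obj (op d) → α)
    (hf : ∀ (d d₂ : C) (g : X' ⟶ u.obj d) (h : d ⟶ d₂) (z : H.obj (op d₂)),
      f d g (H.map h.op z) = f d₂ (g ≫ u.map h) z) :
    ∃ φ : ((ext u).obj H).obj (op X') → α, ∀ d g z, φ (inj H g z) = f d g z := by
  let s : Cocone (CostructuredArrow.proj u.op (op X') ⋙ H) :=
    { pt := α
      ι :=
        { app := fun A => TypeCat.ofHom fun z => f A.left.unop A.hom.unop z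
          naturality := fun A B m => by
            ext z
            have w : u.op.map m.left ≫ B.hom = A.hom := CostructuredArrow.w m
            show f B.left.unop B.hom.unop (H.map m.left z) = f A.left.unop A.hom.unop z
            rw [← w]
            exact hf B.left.unop A.left.unop B.hom.unop m.left.unop z } }
  refine ⟨fun e => (isColimitAt H X').desc s e, fun d g z => ?_⟩
  refine Eq.trans ?_ (congrArg (fun r => r z) ((isColimitAt H X').fac s (CostructuredArrow.mk (Y := op d) g.op)))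
  show (isColimitAt H X').desc s (((ext u).obj H).map g.op ((eta u H).app (op d) z)) = _
  rw [eta_eq]
  rfl

/-- Invariant properties descend. -/
lemma prop_of_inj_eq {X' : C'} (P : ∀ (d : C) (_ : X' ⟶ u.obj d), H.obj (op d) → Prop)
    (hP : ∀ (d d₂ : C) (g : X' ⟶ u.obj d) (h : d ⟶ d₂) (z : H.obj (op d₂)),
      P d g (H.map h.op z) ↔ P d₂ (g ≫ u.map h) z) {d d₂ : C} {g : X' ⟶ u.obj d} {g₂ : X' ⟶ u.obj d₂}
    {z : H.obj (op d)} {z₂ : H.obj (op d₂)} (e : inj H g z = inj H g₂ z₂) (h : P d g z) : P d₂ g₂ z₂ := by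
  obtain ⟨φ, hφ⟩ := exists_desc (α := ULift.{u} Prop) (fun d g z => ⟨P d g z⟩)
    fun d d₂ g h z => congrArg ULift.up (propext (hP d d₂ g h z))
  have := congrArg ULift.down ((hφ d g z).symm.trans ((congrArg φ e).trans (hφ d₂ g₂ z₂)))
  exact Eq.mp this h

section Slices

variable (hu : ∀ X : C, (Over.post (X := X) u).Full ∧ (Over.post (X := X) u).Faithful)

include hu in
lemma exists_lift {X d d₂ : C} (h₂ : X ⟶ d₂) (h : d ⟶ d₂) (g : u.obj X ⟶ u.obj d) (e : u.map h₂ = g ≫ u.map h) :
    ∃ k : X ⟶ d, k ≫ h = h₂ ∧ u.map k = g := by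
  haveI := (hu d₂).1
  obtain ⟨k, hk⟩ := (Over.post (X := d₂) u).map_surjective
    (Over.homMk g e.symm : (Over.post u).obj (Over.mk h₂) ⟶ (Over.post u).obj (Over.mk h))
  exact ⟨k.left, Over.w k, congrArg (fun r : (Over.post u).obj (Over.mk h₂) ⟶ (Over.post u).obj (Over.mk h) => r.left) hk⟩

include hu in
lemma exists_of_inj_eq_eta {X d : C} {g : u.obj X ⟶ u.obj d} {z : H.obj (op d)} {x₀ : H.obj (op X)}
    (e : inj H g z = (eta u H).app (op X) x₀) : ∃ h : X ⟶ d, u.map h = g ∧ H.map h.op z = x₀ := by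
  rw [← inj_id] at e
  refine prop_of_inj_eq (fun d g z => ∃ h : X ⟶ d, u.map h = g ∧ H.map h.op z = x₀) ?_ e.symm
    ⟨𝟙 X, u.map_id X, by simp⟩
  intro d d₂ g h z
  constructor
  · rintro ⟨k, hk₁, hk₂⟩
    exact ⟨k ≫ h, by rw [u.map_comp, hk₁], by rw [op_comp, Functor.map_comp_apply, hk₂]⟩
  · rintro ⟨k₂, hk₁, hk₂⟩
    obtain ⟨k, hk, hk'⟩ := exists_lift hu k₂ h g hk₁
    refine ⟨k, hk', ?_⟩
    rw [← hk₂, ← hk, op_comp, Functor.map_comp_apply]

include hu in
lemma injective_eta [u.Faithful] (X : C) : Function.Injective ((eta u H).app (op X)) := fun x y e => by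
  obtain ⟨h, h₁, h₂⟩ := exists_of_inj_eq_eta hu (g := 𝟙 (u.obj X)) (z := x) (x₀ := y) (by rw [inj_id]; exact e)
  rw [← u.map_id] at h₁
  obtain rfl := u.map_injective h₁
  simpa using h₂

include hu in
lemma mono_eta [u.Faithful] (H : Cᵒᵖ ⥤ Type u) : Mono (eta u H) := by
  rw [NatTrans.mono_iff_mono_app]
  exact fun X => (mono_iff_injective _).2 (injective_eta hu X.unop)

include hu in
lemma isPullback_eta [u.Faithful] (α : H ⟶ K) :
    IsPullback (eta u H) α (Functor.whiskerLeft u.op ((ext u).map α)) (eta u K) := by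
  refine IsPullback.of_forall_isPullback_app fun X => (Types.isPullback_iff _ _ _ _).2 ⟨?_, ?_, ?_⟩
  · exact (NatTrans.congr_app ((u.op.lanAdjunction (Type u)).unit.naturality α) X).symm
  · rintro x x' ⟨h, -⟩
    exact injective_eta hu X.unop h
  · intro e k hk
    obtain ⟨d, g, z, rfl⟩ := exists_inj (X' := u.obj X.unop) e
    have hk' : inj K g (α.app (op d) z) = (eta u K).app X k := (inj_natural α g z).symm.trans hk
    obtain ⟨h, h₁, h₂⟩ := exists_of_inj_eq_eta hu (X := X.unop) hk'
    refine ⟨H.map h.op z, ?_, ?_⟩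
    · rw [← h₁]
      refine (inj_id (X := X.unop) (H.map h.op z)).symm.trans ?_
      rw [inj_rel, Category.id_comp]
    · exact (NatTrans.naturality_apply α h.op z).trans h₂

end Slices

/-- The map on morphisms, adjointly. -/
lemma injective_map_iff (F G : Cᵒᵖ ⥤ Type u) :
    Function.Injective (fun φ : F ⟶ G => (ext u).map φ) ↔ Function.Injective (fun φ : F ⟶ G => φ ≫ eta u G) := by
  have key : (fun φ : F ⟶ G => φ ≫ eta u G) =
      ((u.op.lanAdjunction (Type u)).homEquiv _ _) ∘ fun φ : F ⟶ G => (ext u).map φ := by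
    funext φ
    show _ = (u.op.lanAdjunction (Type u)).homEquiv _ _ ((ext u).map φ)
    rw [Adjunction.homEquiv_unit]
    exact (u.op.lanAdjunction (Type u)).unit.naturality φ
  rw [key]
  exact (Equiv.comp_injective _ _).symm

lemma bijective_map_iff (F G : Cᵒᵖ ⥤ Type u) :
    Function.Bijective (fun φ : F ⟶ G => (ext u).map φ) ↔ Function.Bijective (fun φ : F ⟶ G => φ ≫ eta u G) := by
  have key : (fun φ : F ⟶ G => φ ≫ eta u G) =
      ((u.op.lanAdjunction (Type u)).homEquiv _ _) ∘ fun φ : F ⟶ G => (ext u).map φ := by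
    funext φ
    show _ = (u.op.lanAdjunction (Type u)).homEquiv _ _ ((ext u).map φ)
    rw [Adjunction.homEquiv_unit]
    exact (u.op.lanAdjunction (Type u)).unit.naturality φ
  rw [key]
  exact (Equiv.comp_bijective _ _).symm

lemma injective_eta_of_faithful [u.Faithful] (hG : IsIndObject H) (c : C) :
    Function.Injective ((eta u H).app (op c)) := by
  haveI := hG.isFiltered
  intro x₀ y e
  rw [← inj_id, ← inj_id] at e
  let A : ∀ {d : C}, H.obj (op d) → CostructuredArrow yoneda H := fun z => CostructuredArrow.mk (yonedaEquiv.symm z)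
  have hA : ∀ {d e : C} {z : H.obj (op d)} {t : H.obj (op e)} (k : d ⟶ e), H.map k.op t = z →
      yoneda.map k ≫ (A t).hom = (A z).hom := fun k hk => by
    apply yonedaEquiv.injective
    show yonedaEquiv (yoneda.map k ≫ yonedaEquiv.symm _) = yonedaEquiv (yonedaEquiv.symm _)
    rw [← yonedaEquiv_naturality, Equiv.apply_symm_apply, Equiv.apply_symm_apply, hk]
  have hval : ∀ {B B' : CostructuredArrow yoneda H} (m : B ⟶ B'),
      H.map m.left.op (yonedaEquiv B'.hom) = yonedaEquiv B.hom := fun {B B'} m => by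
    rw [yonedaEquiv_naturality]
    exact congrArg yonedaEquiv (CostructuredArrow.w m)
  let P : ∀ (d : C) (_ : u.obj c ⟶ u.obj d), H.obj (op d) → Prop := fun d g z =>
    ∃ (k : C) (t : H.obj (op k)) (a : c ⟶ k) (b : d ⟶ k), H.map a.op t = x₀ ∧ H.map b.op t = z ∧ u.map a = g ≫ u.map b
  have hP : ∀ (d d₂ : C) (g : u.obj c ⟶ u.obj d) (h : d ⟶ d₂) (z : H.obj (op d₂)),
      P d g (H.map h.op z) ↔ P d₂ (g ≫ u.map h) z := by
    intro d d₂ g h z
    constructor
    · rintro ⟨k, t, a, b, ha, hb, hab⟩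
      let m₁ : A (H.map h.op z) ⟶ IsFiltered.max (A t) (A z) :=
        (CostructuredArrow.homMk b (hA b hb) : A (H.map h.op z) ⟶ A t) ≫ IsFiltered.leftToMax _ _
      let m₂ : A (H.map h.op z) ⟶ IsFiltered.max (A t) (A z) :=
        (CostructuredArrow.homMk h (hA h rfl) : A (H.map h.op z) ⟶ A z) ≫ IsFiltered.rightToMax _ _
      let q := IsFiltered.coeqHom m₁ m₂
      have hl : b ≫ (IsFiltered.leftToMax (A t) (A z)).left ≫ q.left =
          h ≫ (IsFiltered.rightToMax (A t) (A z)).left ≫ q.left := by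
        have := congrArg CommaMorphism.left (IsFiltered.coeq_condition m₁ m₂)
        simp [m₁, m₂] at this
        simpa [q] using this
      have ht := hval (IsFiltered.leftToMax (A t) (A z) ≫ q)
      have hz := hval (IsFiltered.rightToMax (A t) (A z) ≫ q)
      replace ht := ht.trans (Equiv.apply_symm_apply yonedaEquiv t)
      replace hz := hz.trans (Equiv.apply_symm_apply yonedaEquiv z)
      refine ⟨_, yonedaEquiv (IsFiltered.coeq m₁ m₂).hom, a ≫ (IsFiltered.leftToMax (A t) (A z)).left ≫ q.left,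
        (IsFiltered.rightToMax (A t) (A z)).left ≫ q.left, ?_, ?_, ?_⟩
      · rw [op_comp, Functor.map_comp_apply]
        exact (congrArg (H.map a.op) ht).trans ha
      · exact hz
      · rw [u.map_comp, hab, Category.assoc, ← u.map_comp, hl, u.map_comp, Category.assoc]
    · rintro ⟨k, t, a, b, ha, hb, hab⟩
      exact ⟨k, t, a, h ≫ b, ha, by rw [op_comp, Functor.map_comp_apply, hb], by rw [hab, u.map_comp, Category.assoc]⟩
  obtain ⟨k, t, a, b, ha, hb, hab⟩ := prop_of_inj_eq P hP e ⟨c, x₀, 𝟙 c, 𝟙 c, by simp, by simp, by simp⟩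
  rw [Category.id_comp] at hab
  rw [← ha, ← hb, u.map_injective hab]

lemma surjective_eta_of_full [u.Full] (c : C) : Function.Surjective ((eta u H).app (op c)) := fun e => by
  obtain ⟨d, g, z, rfl⟩ := exists_inj (X' := u.obj c) e
  obtain ⟨h, rfl⟩ := u.map_surjective g
  exact ⟨H.map h.op z, (inj_id (H.map h.op z)).symm.trans (by rw [inj_rel, Category.id_comp])⟩

lemma yoneda_moves {c d : C} (a : c ⟶ d) :
    inj (yoneda.obj d) (u.map a) (𝟙 d) = (eta u (yoneda.obj d)).app (op c) a := by
  rw [← inj_id]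
  refine Eq.trans ?_ (congrArg (inj (yoneda.obj d) (𝟙 (u.obj c))) (Category.comp_id a))
  exact ((inj_rel (H := yoneda.obj d) (𝟙 (u.obj c)) a (𝟙 d)).trans (by rw [Category.id_comp])).symm

lemma exists_eval (c d : C) : ∃ Φ : ((ext u).obj (yoneda.obj d)).obj (op (u.obj c)) → (u.obj c ⟶ u.obj d),
    (∀ (e : C) (g : u.obj c ⟶ u.obj e) (z : e ⟶ d), Φ (inj (yoneda.obj d) g z) = g ≫ u.map z) ∧
    ∀ a : c ⟶ d, Φ ((eta u (yoneda.obj d)).app (op c) a) = u.map a := by
  obtain ⟨Φ, hΦ⟩ := exists_desc (u := u) (H := yoneda.obj d) (X' := u.obj c) (α := u.obj c ⟶ u.obj d)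
    (fun e g (z : e ⟶ d) => g ≫ u.map z) fun e e₂ g h (z : e₂ ⟶ d) => by
      show g ≫ u.map (h ≫ z) = _
      rw [u.map_comp, Category.assoc]
  refine ⟨Φ, hΦ, fun a => ?_⟩
  rw [← yoneda_moves a, hΦ]
  simp

lemma faithful_of_injective (h : ∀ c d : C, Function.Injective ((eta u (yoneda.obj d)).app (op c))) : u.Faithful :=
  ⟨fun {c d} a b e => h c d (by rw [← yoneda_moves a, ← yoneda_moves b, e])⟩

lemma full_of_surjective (h : ∀ c d : C, Function.Surjective ((eta u (yoneda.obj d)).app (op c))) : u.Full :=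
  ⟨fun {c d} g => by
    obtain ⟨Φ, h₁, h₂⟩ := exists_eval (u := u) c d
    obtain ⟨a, ha⟩ := h c d (inj (yoneda.obj d) g (𝟙 d))
    refine ⟨a, ?_⟩
    rw [← h₂ a, ha, h₁]
    simp⟩

lemma faithful_iff_map_injective :
    u.Faithful ↔ ∀ (F G : Cᵒᵖ ⥤ Type u), IsIndObject F → IsIndObject G →
      Function.Injective (fun φ : F ⟶ G => (ext u).map φ) := by
  constructor
  · intro hu F G hF hG
    rw [injective_map_iff]
    intro φ ψ e
    ext c x
    exact injective_eta_of_faithful hG c.unop (congrArg (fun r : F ⟶ u.op ⋙ (ext u).obj G => r.app c x) e)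
  · intro h
    refine faithful_of_injective fun c d a b e => ?_
    have := (injective_map_iff _ _).1 (h _ _ (isIndObject_yoneda c) (isIndObject_yoneda d))
      (a₁ := yoneda.map a) (a₂ := yoneda.map b) (yonedaEquiv.injective (by
        rw [yonedaEquiv_comp, yonedaEquiv_comp]
        rw [yonedaEquiv_yoneda_map, yonedaEquiv_yoneda_map]
        exact e))
    exact yoneda.map_injective this

lemma isIso_eta_of_fullyFaithful [u.Full] [u.Faithful] (hG : IsIndObject H) : IsIso (eta u H) := by
  rw [NatTrans.isIso_iff_isIso_app]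
  intro c
  rw [isIso_iff_bijective]
  exact ⟨injective_eta_of_faithful hG c.unop, surjective_eta_of_full c.unop⟩

lemma fullyFaithful_iff_map_bijective :
    (u.Full ∧ u.Faithful) ↔ ∀ (F G : Cᵒᵖ ⥤ Type u), IsIndObject F → IsIndObject G →
      Function.Bijective (fun φ : F ⟶ G => (ext u).map φ) := by
  constructor
  · rintro ⟨_, _⟩ F G hF hG
    rw [bijective_map_iff]
    haveI := isIso_eta_of_fullyFaithful (u := u) hG
    exact ⟨fun φ ψ e => (cancel_mono (eta u G)).1 e, fun ψ => ⟨ψ ≫ inv (eta u G), by simp⟩⟩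
  · intro h
    haveI hf := faithful_iff_map_injective.2 fun F G hF hG => (h F G hF hG).1
    refine ⟨full_of_surjective fun c d e => ?_, hf⟩
    obtain ⟨φ, hφ⟩ := ((bijective_map_iff _ _).1 (h _ _ (isIndObject_yoneda c) (isIndObject_yoneda d))).2
      (yonedaEquiv.symm e)
    refine ⟨yonedaEquiv φ, ?_⟩
    have := congrArg yonedaEquiv hφ
    rwa [yonedaEquiv_comp, Equiv.apply_symm_apply] at this

lemma isIndObject_restrict [u.Full] [u.Faithful]
    (hr : ∀ X' : C', ∃ (X : C) (i : X' ⟶ u.obj X) (r : u.obj X ⟶ X'), i ≫ r = 𝟙 X')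
    {G' : C'ᵒᵖ ⥤ Type u} (hG : IsIndObject G') : IsIndObject (u.op ⋙ G') := by
  haveI := hG.isFiltered
  let A : ∀ {d : C'}, G'.obj (op d) → CostructuredArrow yoneda G' := fun z => CostructuredArrow.mk (yonedaEquiv.symm z)
  have hA : ∀ {d e : C'} {z : G'.obj (op d)} {t : G'.obj (op e)} (k : d ⟶ e), G'.map k.op t = z →
      yoneda.map k ≫ (A t).hom = (A z).hom := fun k hk => by
    apply yonedaEquiv.injective
    show yonedaEquiv (yoneda.map k ≫ yonedaEquiv.symm _) = yonedaEquiv (yonedaEquiv.symm _)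
    rw [← yonedaEquiv_naturality, Equiv.apply_symm_apply, Equiv.apply_symm_apply, hk]
  have hval : ∀ {B B' : CostructuredArrow yoneda G'} (m : B ⟶ B'),
      G'.map m.left.op (yonedaEquiv B'.hom) = yonedaEquiv B.hom := fun {B B'} m => by
    rw [yonedaEquiv_naturality]
    exact congrArg yonedaEquiv (CostructuredArrow.w m)
  let val : ∀ a : CostructuredArrow yoneda (u.op ⋙ G'), G'.obj (op (u.obj a.left)) := fun a =>
    (yonedaEquiv (F := u.op ⋙ G') a.hom : (u.op ⋙ G').obj (op a.left))
  have aux : ∀ {P Q X : C'} (p : P ⟶ Q) (i : Q ⟶ X) (r : X ⟶ Q), i ≫ r = 𝟙 Q → ∀ z : G'.obj (op Q),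
      G'.map (p ≫ i).op (G'.map r.op z) = G'.map p.op z := fun p i r h z => by
    rw [← Functor.map_comp_apply, ← op_comp, Category.assoc, h, Category.comp_id]
  have mkHom : ∀ (a b : CostructuredArrow yoneda (u.op ⋙ G')) (k : a.left ⟶ b.left),
      G'.map (u.map k).op (val b) = val a → ∃ m : a ⟶ b, m.left = k := fun a b k hk => by
    refine ⟨CostructuredArrow.homMk k (yonedaEquiv.injective ?_), rfl⟩
    rw [← yonedaEquiv_naturality]
    exact hk
  haveI : IsFilteredOrEmpty (CostructuredArrow yoneda (u.op ⋙ G')) :=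
    { cocone_objs := fun a b => by
        let m := IsFiltered.max (A (val a)) (A (val b))
        obtain ⟨X, i, r, hir⟩ := hr m.left
        obtain ⟨ka, hka⟩ := u.map_surjective ((IsFiltered.leftToMax (A (val a)) (A (val b))).left ≫ i)
        obtain ⟨kb, hkb⟩ := u.map_surjective ((IsFiltered.rightToMax (A (val a)) (A (val b))).left ≫ i)
        let Z : CostructuredArrow yoneda (u.op ⋙ G') :=
          CostructuredArrow.mk (yonedaEquiv.symm (G'.map r.op (yonedaEquiv m.hom) : (u.op ⋙ G').obj (op X)))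
        have hZ : val Z = G'.map r.op (yonedaEquiv m.hom) := Equiv.apply_symm_apply _ _
        have ha := hval (IsFiltered.leftToMax (A (val a)) (A (val b)))
        have hb := hval (IsFiltered.rightToMax (A (val a)) (A (val b)))
        replace ha := ha.trans (Equiv.apply_symm_apply yonedaEquiv (val a))
        replace hb := hb.trans (Equiv.apply_symm_apply yonedaEquiv (val b))
        obtain ⟨fa, -⟩ := mkHom a Z ka (by
          rw [hka, hZ]
          refine (aux _ i r hir _).trans ?_
          exact ha)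
        obtain ⟨fb, -⟩ := mkHom b Z kb (by
          rw [hkb, hZ]
          refine (aux _ i r hir _).trans ?_
          exact hb)
        exact ⟨Z, fa, fb, trivial⟩
      cocone_maps := fun a b f g => by
        have hv : ∀ (m : a ⟶ b), G'.map (u.map m.left).op (val b) = val a := fun m => by
          show (u.op ⋙ G').map m.left.op (yonedaEquiv b.hom) = yonedaEquiv a.hom
          rw [yonedaEquiv_naturality]
          exact congrArg yonedaEquiv (CostructuredArrow.w m)
        let f' : A (val a) ⟶ A (val b) := CostructuredArrow.homMk (u.map f.left) (hA _ (hv f))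
        let g' : A (val a) ⟶ A (val b) := CostructuredArrow.homMk (u.map g.left) (hA _ (hv g))
        obtain ⟨X, i, r, hir⟩ := hr (IsFiltered.coeq f' g').left
        obtain ⟨k, hk⟩ := u.map_surjective ((IsFiltered.coeqHom f' g').left ≫ i)
        let Z : CostructuredArrow yoneda (u.op ⋙ G') :=
          CostructuredArrow.mk (yonedaEquiv.symm (G'.map r.op (yonedaEquiv (IsFiltered.coeq f' g').hom) : (u.op ⋙ G').obj (op X)))
        have hZ : val Z = G'.map r.op (yonedaEquiv (IsFiltered.coeq f' g').hom) := Equiv.apply_symm_apply _ _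
        have hb := hval (IsFiltered.coeqHom f' g')
        replace hb := hb.trans (Equiv.apply_symm_apply yonedaEquiv (val b))
        obtain ⟨q, hq⟩ := mkHom b Z k (by
          rw [hk, hZ]
          refine (aux _ i r hir _).trans ?_
          exact hb)
        refine ⟨Z, q, CostructuredArrow.hom_ext _ _ (u.map_injective ?_)⟩
        have := congrArg CommaMorphism.left (IsFiltered.coeq_condition f' g')
        simp [f', g'] at this
        show u.map (f.left ≫ q.left) = u.map (g.left ≫ q.left)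
        rw [hq, u.map_comp, u.map_comp, hk, reassoc_of% this] }
  haveI : Nonempty (CostructuredArrow yoneda (u.op ⋙ G')) := by
    obtain ⟨m⟩ := (IsFiltered.nonempty : Nonempty (CostructuredArrow yoneda G'))
    obtain ⟨X, i, r, -⟩ := hr m.left
    exact ⟨CostructuredArrow.mk (yonedaEquiv.symm (G'.map r.op (yonedaEquiv m.hom) : (u.op ⋙ G').obj (op X)))⟩
  haveI : IsFiltered (CostructuredArrow yoneda (u.op ⋙ G')) := { }
  haveI : FinallySmall.{u} (CostructuredArrow yoneda (u.op ⋙ G')) := finallySmall_of_essentiallySmall _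
  exact isIndObject_of_isFiltered_of_finallySmall _

lemma isIso_counit [u.Full] [u.Faithful]
    (hr : ∀ X' : C', ∃ (X : C) (i : X' ⟶ u.obj X) (r : u.obj X ⟶ X'), i ≫ r = 𝟙 X')
    {G' : C'ᵒᵖ ⥤ Type u} (hG : IsIndObject G') : IsIso ((u.op.lanAdjunction (Type u)).counit.app G') := by
  rw [NatTrans.isIso_iff_isIso_app]
  rintro ⟨X'⟩
  rw [isIso_iff_bijective]
  let adj := u.op.lanAdjunction (Type u)
  haveI := isIso_eta_of_fullyFaithful (u := u) (isIndObject_restrict hr hG)
  have htri : ∀ (d : C) (z : G'.obj (op (u.obj d))),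
      (adj.counit.app G').app (op (u.obj d)) ((eta u (u.op ⋙ G')).app (op d) z) = z := fun d z =>
    congrArg (fun r : u.op ⋙ G' ⟶ u.op ⋙ G' => r.app (op d) z) (adj.right_triangle_components G')
  have hev : ∀ {Y' : C'} (d : C) (g : Y' ⟶ u.obj d) (z : G'.obj (op (u.obj d))),
      (adj.counit.app G').app (op Y') (inj (u.op ⋙ G') g z) = G'.map g.op z := fun d g z =>
    (NatTrans.naturality_apply (adj.counit.app G') g.op _).trans (congrArg (G'.map g.op) (htri d z))
  have hinj : ∀ (d : C), Function.Injective ((adj.counit.app G').app (op (u.obj d))) := fun d a b e => by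
    obtain ⟨a', rfl⟩ := surjective_eta_of_full (u := u) (H := u.op ⋙ G') d a
    obtain ⟨b', rfl⟩ := surjective_eta_of_full (u := u) (H := u.op ⋙ G') d b
    rw [(htri d a').symm.trans (e.trans (htri d b'))]
  obtain ⟨X, i, r, hir⟩ := hr X'
  refine ⟨fun a b e => ?_, fun z => ⟨inj (u.op ⋙ G') i (G'.map r.op z), ?_⟩⟩
  · have h₁ : ((ext u).obj (u.op ⋙ G')).map r.op a = ((ext u).obj (u.op ⋙ G')).map r.op b := hinj X
      ((NatTrans.naturality_apply (adj.counit.app G') r.op a).trans ((congrArg (G'.map r.op) e).trans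
        (NatTrans.naturality_apply (adj.counit.app G') r.op b).symm))
    have h₂ := congrArg (((ext u).obj (u.op ⋙ G')).map i.op) h₁
    rwa [← Functor.map_comp_apply, ← Functor.map_comp_apply, ← op_comp, hir, op_id, Functor.map_id_apply,
      Functor.map_id_apply] at h₂
  · rw [hev, ← Functor.map_comp_apply, ← op_comp, hir]
    simp

lemma exists_retract (hff : ∀ (F G : Cᵒᵖ ⥤ Type u), IsIndObject F → IsIndObject G →
      Function.Bijective (fun φ : F ⟶ G => (ext u).map φ))
    (hes : ∀ G' : C'ᵒᵖ ⥤ Type u, IsIndObject G' →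
      ∃ F : Cᵒᵖ ⥤ Type u, IsIndObject F ∧ Nonempty ((ext u).obj F ≅ G')) (X' : C') :
    ∃ (X : C) (i : X' ⟶ u.obj X) (r : u.obj X ⟶ X'), i ≫ r = 𝟙 X' := by
  obtain ⟨F, hF, ⟨e⟩⟩ := hes _ (isIndObject_yoneda X')
  obtain ⟨d, g, z, hz⟩ := exists_inj (u := u) (H := F) (e.inv.app (op X') (𝟙 X'))
  refine ⟨d, g, e.hom.app (op (u.obj d)) ((eta u F).app (op d) z), ?_⟩
  have h₁ := congrArg (e.hom.app (op X')) hz
  have h₂ : e.hom.app (op X') (inj F g z) = g ≫ (e.hom.app (op (u.obj d)) ((eta u F).app (op d) z) : u.obj d ⟶ X') :=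
    NatTrans.naturality_apply e.hom g.op _
  have h₃ : e.hom.app (op X') (e.inv.app (op X') (𝟙 X')) = 𝟙 X' :=
    congrArg (fun r : yoneda.obj X' ⟶ yoneda.obj X' => r.app (op X') (𝟙 X')) e.inv_hom_id
  exact h₂.symm.trans (h₁.trans h₃)

end Groth.Agent.LanPsh
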