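import Groth.Prelude.Def_SGA4c
import Groth.Agent.ShfCatLib.Exact
import Mathlib.CategoryTheory.Sites.Closed
import Mathlib.CategoryTheory.Sites.LocallyBijective

/-!
# Coverings and quasi-compact objects in a topos of sheaves
-/

set_option autoImplicit false
set_option backward.isDefEq.respectTransparency false
set_option linter.unusedVariables false

universe v u

open CategoryTheory CategoryTheory.Limits Opposite ToposFin

namespace Groth.Agent.ToposFinLib


section Generic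

variable {E : Type u} [Category.{v} E] [HasPullbacks E] {X Y Z : E}

/-- The comparison between two relative squares. -/
noncomputable def comparison (f : X ⟶ Y) (g : Y ⟶ Z) : pullback f f ⟶ pullback (f ≫ g) (f ≫ g) :=
  pullback.lift (pullback.fst f f) (pullback.snd f f) (by rw [pullback.condition_assoc])

/-- The square of a morphism over a base. -/
noncomputable def squareMap (f : X ⟶ Y) (g : Y ⟶ Z) : pullback (f ≫ g) (f ≫ g) ⟶ pullback g g :=
  pullback.lift (pullback.fst (f ≫ g) (f ≫ g) ≫ f) (pullback.snd (f ≫ g) (f ≫ g) ≫ f)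
    (by simpa using pullback.condition (f := f ≫ g) (g := f ≫ g))

lemma diagonal_comparison (f : X ⟶ Y) (g : Y ⟶ Z) :
    pullback.diagonal f ≫ comparison f g = pullback.diagonal (f ≫ g) := by
  apply pullback.hom_ext <;> simp [comparison]

lemma isPullback_comparison (f : X ⟶ Y) (g : Y ⟶ Z) :
    IsPullback (pullback.fst f f ≫ f) (comparison f g) (pullback.diagonal g) (squareMap f g) := by
  refine ⟨⟨by apply pullback.hom_ext <;> simp [comparison, squareMap, pullback.condition]⟩,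
    ⟨PullbackCone.IsLimit.mk _
      (fun s => pullback.lift (s.snd ≫ pullback.fst _ _) (s.snd ≫ pullback.snd _ _) ?_)
      (fun s => ?_) (fun s => ?_) fun s m h₁ h₂ => ?_⟩⟩
  · have h₁ := congrArg (· ≫ pullback.fst g g) s.condition
    have h₂ := congrArg (· ≫ pullback.snd g g) s.condition
    simp [squareMap] at h₁ h₂
    simp [← h₁, ← h₂]
  · have h₁ := congrArg (· ≫ pullback.fst g g) s.condition
    simp [squareMap] at h₁
    simp [h₁]
  · apply pullback.hom_ext <;> simp [comparison]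
  · apply pullback.hom_ext <;> simp [← h₂, comparison]

instance mono_comparison (f : X ⟶ Y) (g : Y ⟶ Z) : Mono (comparison f g) :=
  ⟨fun a b e => by
    apply pullback.hom_ext
    · simpa [comparison] using congrArg (· ≫ pullback.fst _ _) e
    · simpa [comparison] using congrArg (· ≫ pullback.snd _ _) e⟩

lemma isPullback_diagonal_comparison (f : X ⟶ Y) (g : Y ⟶ Z) :
    IsPullback (𝟙 X) (pullback.diagonal f) (pullback.diagonal (f ≫ g)) (comparison f g) := by
  refine ⟨⟨by rw [Category.id_comp, diagonal_comparison]⟩, ⟨PullbackCone.IsLimit.mk _ (fun s => s.fst)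
    (fun s => Category.comp_id _) (fun s => ?_) fun s m h₁ _ => by rw [← h₁, Category.comp_id]⟩⟩
  rw [← cancel_mono (comparison f g), Category.assoc, diagonal_comparison, s.condition]

lemma exists_isPullback_diagonal {f : X ⟶ Y} {X' Y' : E} {p : X' ⟶ X} {f' : X' ⟶ Y'}
    {g : Y' ⟶ Y} (sq : IsPullback p f' f g) :
    ∃ k, IsPullback p (pullback.diagonal f') (pullback.diagonal f) k := by
  refine ⟨pullback.lift (pullback.fst f' f' ≫ p) (pullback.snd f' f' ≫ p)
      (by simp [sq.w, pullback.condition_assoc]),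
    ⟨⟨by apply pullback.hom_ext <;> simp⟩, ⟨PullbackCone.IsLimit.mk _
      (fun s => s.snd ≫ pullback.fst f' f') (fun s => ?_) (fun s => ?_) fun s m h₁ h₂ => by simp [← h₂]⟩⟩⟩
  · have h₁ := congrArg (· ≫ pullback.fst f f) s.condition
    simp at h₁
    simp [h₁]
  · have h₁ := congrArg (· ≫ pullback.fst f f) s.condition
    have h₂ := congrArg (· ≫ pullback.snd f f) s.condition
    simp at h₁ h₂
    apply pullback.hom_ext
    · simp
    · apply sq.hom_ext
      · simp [← h₁, ← h₂]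
      · simp [pullback.condition]

lemma exists_isPullback_graph (f : X ⟶ Y) (g : Y ⟶ Z) :
    ∃ k, IsPullback f (pullback.lift (𝟙 X) f (Category.id_comp _) : X ⟶ pullback (f ≫ g) g)
      (pullback.diagonal g) k := by
  refine ⟨pullback.lift (pullback.fst (f ≫ g) g ≫ f) (pullback.snd (f ≫ g) g)
      (by simp [pullback.condition]),
    ⟨⟨by apply pullback.hom_ext <;> simp <;> exact (Category.id_comp f).symm⟩, ⟨PullbackCone.IsLimit.mk _
      (fun s => s.snd ≫ pullback.fst _ _) (fun s => ?_) (fun s => ?_) fun s m _ h₂ => by simp [← h₂]⟩⟩⟩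
  · have h₁ := congrArg (· ≫ pullback.fst g g) s.condition
    simp at h₁
    simp [h₁]
  · have h₁ := congrArg (· ≫ pullback.fst g g) s.condition
    have h₂ := congrArg (· ≫ pullback.snd g g) s.condition
    simp at h₁ h₂
    apply pullback.hom_ext <;> simp [← h₁, ← h₂]

lemma isPullback_relative (f : X ⟶ Y) {A B : E} (a : A ⟶ X) (b : B ⟶ X) :
    IsPullback (pullback.fst a b ≫ a)
      (pullback.lift (pullback.fst a b) (pullback.snd a b) (by rw [pullback.condition_assoc]) :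
        pullback a b ⟶ pullback (a ≫ f) (b ≫ f))
      (pullback.diagonal f) (pullback.map (a ≫ f) (b ≫ f) f f a b (𝟙 Y) (Category.comp_id _) (Category.comp_id _)) := by
  refine ⟨⟨by apply pullback.hom_ext <;> simp [pullback.condition]⟩, ⟨PullbackCone.IsLimit.mk _
      (fun s => pullback.lift (s.snd ≫ pullback.fst _ _) (s.snd ≫ pullback.snd _ _) ?_)
      (fun s => ?_) (fun s => ?_) fun s m h₁ h₂ => ?_⟩⟩
  · have h₁ := congrArg (· ≫ pullback.fst f f) s.condition
    have h₂ := congrArg (· ≫ pullback.snd f f) s.condition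
    simp at h₁ h₂
    simp [← h₁, ← h₂]
  · have h₁ := congrArg (· ≫ pullback.fst f f) s.condition
    simp at h₁
    simp [h₁]
  · apply pullback.hom_ext <;> simp
  · apply pullback.hom_ext <;> simp [← h₂]

lemma exists_isPullback_relative (f : X ⟶ Y) {A B : E} (a : A ⟶ X) (b : B ⟶ X) :
    ∃ (q : pullback a b ⟶ pullback (a ≫ f) (b ≫ f)) (k : pullback (a ≫ f) (b ≫ f) ⟶ pullback f f),
      IsPullback (pullback.fst a b ≫ a) q (pullback.diagonal f) k := by
  refine ⟨pullback.lift (pullback.fst a b) (pullback.snd a b) (by rw [pullback.condition_assoc]),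
    pullback.lift (pullback.fst (a ≫ f) (b ≫ f) ≫ a) (pullback.snd (a ≫ f) (b ≫ f) ≫ b)
      (by simpa using pullback.condition (f := a ≫ f) (g := b ≫ f)),
    ⟨⟨by apply pullback.hom_ext <;> simp [pullback.condition]⟩, ⟨PullbackCone.IsLimit.mk _
      (fun s => pullback.lift (s.snd ≫ pullback.fst _ _) (s.snd ≫ pullback.snd _ _) ?_)
      (fun s => ?_) (fun s => ?_) fun s m h₁ h₂ => ?_⟩⟩⟩
  · have h₁ := congrArg (· ≫ pullback.fst f f) s.condition
    have h₂ := congrArg (· ≫ pullback.snd f f) s.condition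
    simp at h₁ h₂
    simp [← h₁, ← h₂]
  · have h₁ := congrArg (· ≫ pullback.fst f f) s.condition
    simp at h₁
    simp [h₁]
  · apply pullback.hom_ext <;> simp
  · apply pullback.hom_ext <;> simp [← h₂]

lemma exists_pullbackMap_fac {A B A' B' S : E} (f : A ⟶ B) (f' : A' ⟶ B') (a : B ⟶ S) (a' : B' ⟶ S) :
    ∃ (m : pullback (f ≫ a) (f' ≫ a') ⟶ pullback a (f' ≫ a')) (n : pullback a (f' ≫ a') ⟶ pullback a a'),
      IsPullback (pullback.fst (f ≫ a) (f' ≫ a')) m f (pullback.fst a (f' ≫ a')) ∧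
      IsPullback (pullback.snd a (f' ≫ a')) n f' (pullback.snd a a') ∧
      m ≫ n = pullback.map (f ≫ a) (f' ≫ a') a a' f f' (𝟙 S) (Category.comp_id _) (Category.comp_id _) := by
  let m : pullback (f ≫ a) (f' ≫ a') ⟶ pullback a (f' ≫ a') :=
    pullback.lift (pullback.fst _ _ ≫ f) (pullback.snd _ _)
      ((Category.assoc _ _ _).trans pullback.condition)
  let n : pullback a (f' ≫ a') ⟶ pullback a a' :=
    pullback.lift (pullback.fst _ _) (pullback.snd _ _ ≫ f') (pullback.condition.trans (Category.assoc _ _ _).symm)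
  refine ⟨m, n, ?_, ?_, by apply pullback.hom_ext <;> simp [m, n]⟩
  · refine IsPullback.of_right ?_ (by simp [m]) (IsPullback.of_hasPullback a (f' ≫ a')).flip |>.flip
    simpa [m] using (IsPullback.of_hasPullback (f ≫ a) (f' ≫ a')).flip
  · refine IsPullback.of_right ?_ (by simp [n]) (IsPullback.of_hasPullback a a') |>.flip
    simpa [n] using IsPullback.of_hasPullback a (f' ≫ a')

end Generic

variable {C : Type u} [SmallCategory C] {J : GrothendieckTopology C}

section Cov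

variable {ι : Type v} {F : ι → Sh J} {X : Sh J}

/-- The arrows along which a section lifts to a member of the family. -/
def imgSieve (π : ∀ i, F i ⟶ X) {U : C} (y : X.obj.obj (op U)) : Sieve U where
  arrows V g := ∃ (i : ι) (z : (F i).obj.obj (op V)), (π i).hom.app (op V) z = X.obj.map g.op y
  downward_closed := by
    rintro V W g ⟨i, z, hz⟩ h
    exact ⟨i, (F i).obj.map h.op z, by rw [NatTrans.naturality_apply, hz, op_comp, Functor.map_comp_apply]⟩

/-- The family covers: every section lifts locally. -/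
def Cov (π : ∀ i, F i ⟶ X) : Prop :=
  ∀ ⦃U : C⦄ (y : X.obj.obj (op U)), imgSieve π y ∈ J U

lemma pullback_imgSieve (π : ∀ i, F i ⟶ X) {U V : C} (g : V ⟶ U) (y : X.obj.obj (op U)) :
    (imgSieve π y).pullback g = imgSieve π (X.obj.map g.op y) := by
  ext W h
  change (∃ i z, _ = _) ↔ ∃ i z, _ = _
  simp only [op_comp, Functor.map_comp_apply]

theorem Cov.hom_ext {π : ∀ i, F i ⟶ X} (h : Cov π) {Z : Sh J} {a b : X ⟶ Z} (e : ∀ i, π i ≫ a = π i ≫ b) :
    a = b := by
  apply CategoryTheory.Sheaf.hom_ext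
  ext U y
  refine ((((isSheaf_iff_isSheaf_of_type _ _).1 Z.property).isSeparated) _ (h (U := U.unop) y)).ext
    fun V g hg => ?_
  obtain ⟨i, z, hz⟩ := hg
  refine (NatTrans.naturality_apply a.hom g.op y).symm.trans
    (Eq.trans ?_ (NatTrans.naturality_apply b.hom g.op y))
  rw [← hz]
  exact congrArg (fun q : F i ⟶ Z => q.hom.app (op V) z) (e i)

/-- The sheaf of closed sieves. -/
def omega (J : GrothendieckTopology C) : Sh J :=
  ⟨(Functor.closedSieves J).toFunctor, (isSheaf_iff_isSheaf_of_type _ _).2 (classifier_isSheaf J)⟩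

theorem cov_of_hom_ext {π : ∀ i, F i ⟶ X}
    (h : ∀ (Z : Sh J) (a b : X ⟶ Z), (∀ i, π i ≫ a = π i ≫ b) → a = b) : Cov π := by
  let a : X ⟶ omega J := ⟨{
    app := fun U => TypeCat.ofHom fun _ => ⟨(⊤ : Sieve U.unop), fun _ _ _ => trivial⟩
    naturality := fun U V g => by
      ext y
      exact Subtype.ext (Sieve.pullback_top).symm }⟩
  let b : X ⟶ omega J := ⟨{
    app := fun U => TypeCat.ofHom fun y => ⟨J.close (imgSieve π (U := U.unop) y), J.close_isClosed _⟩
    naturality := fun U V g => by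
      ext y
      refine Subtype.ext ?_
      show J.close (imgSieve π (X.obj.map g y)) = (J.close (imgSieve π (U := U.unop) y)).pullback g.unop
      rw [← J.pullback_close, pullback_imgSieve]
      rfl }⟩
  have hab : a = b := h _ a b fun i => by
    apply CategoryTheory.Sheaf.hom_ext
    ext U z
    refine Subtype.ext ?_
    show (⊤ : Sieve U.unop) = J.close (imgSieve π (U := U.unop) ((π i).hom.app U z))
    refine ((J.close_eq_top_iff_mem _).2 (J.superset_covering (fun V g _ => ?_) (J.top_mem _))).symm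
    exact ⟨i, (F i).obj.map g.op z, NatTrans.naturality_apply _ _ _⟩
  intro U y
  rw [← J.close_eq_top_iff_mem]
  exact Eq.symm (α := Sieve U) (congrArg (fun q : X ⟶ omega J => (q.hom.app (op U) y).1) hab)

theorem cov_iff {π : ∀ i, F i ⟶ X} :
    Cov π ↔ ∀ (Z : Sh J) (a b : X ⟶ Z), (∀ i, π i ≫ a = π i ≫ b) → a = b :=
  ⟨fun h _ _ _ e => h.hom_ext e, cov_of_hom_ext⟩

theorem epi_desc_iff [HasCoproduct F] {π : ∀ i, F i ⟶ X} : Epi (Sigma.desc π) ↔ Cov π := by
  rw [cov_iff]
  constructor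
  · intro _ Z a b e
    rw [← cancel_epi (Sigma.desc π)]
    exact Sigma.hom_ext _ _ fun i => by simpa using e i
  · intro h
    exact ⟨fun a b e => h _ a b fun i => by
      have := congrArg (Sigma.ι F i ≫ ·) e
      simpa using this⟩

theorem cov_self (X : Sh J) : Cov (fun _ : PUnit.{v + 1} => 𝟙 X) :=
  cov_of_hom_ext fun _ _ _ e => by simpa using e PUnit.unit

theorem cov_of_epi {F₀ : Sh J} (p : F₀ ⟶ X) [Epi p] : Cov (fun _ : PUnit.{v + 1} => p) :=
  cov_of_hom_ext fun _ a b e => (cancel_epi p).1 (e PUnit.unit)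

theorem epi_of_cov {F₀ : Sh J} {p : F₀ ⟶ X} (h : Cov (fun _ : PUnit.{v + 1} => p)) : Epi p :=
  ⟨fun _ _ e => h.hom_ext fun _ => e⟩

/-- Refinement of families. -/
theorem Cov.refine {κ : Type*} {G : κ → Sh J} {π : ∀ i, F i ⟶ X} {ρ : ∀ k, G k ⟶ X} (h : Cov π)
    (hf : ∀ i, ∃ (k : κ) (t : F i ⟶ G k), t ≫ ρ k = π i) : Cov ρ :=
  cov_of_hom_ext fun Z a b e => h.hom_ext fun i => by
    obtain ⟨k, t, ht⟩ := hf i
    rw [← ht, Category.assoc, Category.assoc, e]

/-- Composites of coverings. -/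
theorem Cov.comp {κ : ι → Type*} {G : ∀ i, κ i → Sh J} {π : ∀ i, F i ⟶ X} (h : Cov π)
    {ρ : ∀ i k, G i k ⟶ F i} (h' : ∀ i, Cov (ρ i)) : Cov (fun p : Σ i, κ i => ρ p.1 p.2 ≫ π p.1) :=
  cov_of_hom_ext fun Z a b e => h.hom_ext fun i => (h' i).hom_ext fun k => by
    simpa using e ⟨i, k⟩

theorem Cov.map_of_adjunction {D : Type u} [SmallCategory D] {K : GrothendieckTopology D} {π : ∀ i, F i ⟶ X}
    (h : Cov π) (L : Sh J ⥤ Sh K) [L.IsLeftAdjoint] : Cov (fun i => L.map (π i)) :=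
  cov_of_hom_ext fun Z a b e => by
    let adj := Adjunction.ofIsLeftAdjoint L
    apply (adj.homEquiv _ _).injective
    refine h.hom_ext fun i => ?_
    rw [← adj.homEquiv_naturality_left, ← adj.homEquiv_naturality_left, e]

/-- Base changes of coverings. -/
theorem Cov.pullback {π : ∀ i, F i ⟶ X} (h : Cov π) {Y : Sh J} (g : Y ⟶ X) {P : ι → Sh J}
    {p : ∀ i, P i ⟶ Y} {q : ∀ i, P i ⟶ F i} (sq : ∀ i, IsPullback (p i) (q i) g (π i)) : Cov p := by
  intro U y
  refine J.superset_covering ?_ (h (g.hom.app (op U) y))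
  rintro V a ⟨i, z, hz⟩
  have hsq := ((sq i).map (sheafToPresheaf J (Type u))).map ((evaluation Cᵒᵖ (Type u)).obj (op V))
  obtain ⟨w, hw, -⟩ := Types.exists_of_isPullback hsq (Y.obj.map a.op y) z
    ((NatTrans.naturality_apply g.hom a.op y).trans hz.symm)
  exact ⟨i, w, hw⟩

theorem Cov.pullback_snd {π : ∀ i, F i ⟶ X} (h : Cov π) {Y : Sh J} (g : Y ⟶ X) :
    Cov (fun i => pullback.snd (π i) g) :=
  h.pullback g fun i => (IsPullback.of_hasPullback (π i) g).flip

theorem Cov.pullback_fst {π : ∀ i, F i ⟶ X} (h : Cov π) {Y : Sh J} (g : Y ⟶ X) :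
    Cov (fun i => pullback.fst g (π i)) :=
  h.pullback g fun i => IsPullback.of_hasPullback g (π i)

end Cov

variable {X Y Z : Sh J}

theorem isQC_iff : IsQC X ↔ ∀ (ι : Type u) (F : ι → Sh J) (π : ∀ i, F i ⟶ X), Cov π →
    ∃ s : Finset ι, Cov (fun i : s => π i) := by
  unfold IsQC
  simp only [epi_desc_iff]

theorem isQC_of_finite_cov {κ : Type v} [Finite κ] (F : κ → Sh J) (π : ∀ k, F k ⟶ X) (hπ : Cov π)
    (hF : ∀ k, IsQC (F k)) : IsQC X := by
  classical
  have := Fintype.ofFinite κ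
  rw [isQC_iff]
  intro ι G ρ hρ
  choose s hs using fun k => isQC_iff.1 (hF k) ι _ _ (hρ.pullback_snd (π k))
  refine ⟨Finset.univ.biUnion s, (hπ.comp hs).refine ?_⟩
  rintro ⟨k, i, hi⟩
  exact ⟨⟨i, Finset.mem_biUnion.2 ⟨k, Finset.mem_univ _, hi⟩⟩, pullback.fst _ _, pullback.condition⟩

theorem isQC_of_epi {F₀ : Sh J} (p : F₀ ⟶ X) [Epi p] (h : IsQC F₀) : IsQC X :=
  isQC_of_finite_cov _ _ (cov_of_epi.{0} p) fun _ => h

theorem isQC_of_iso (e : X ≅ Y) (h : IsQC X) : IsQC Y :=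
  isQC_of_epi e.hom h

/-- Finitely many quasi-compact objects cover a quasi-compact one, if quasi-compact objects cover it. -/
theorem exists_finite_refinement (hX : IsQC X) {ι : Type u} {F : ι → Sh J} {π : ∀ i, F i ⟶ X} (hπ : Cov π) :
    ∃ s : Finset ι, Cov (fun i : s => π i) :=
  isQC_iff.1 hX ι F π hπ

/-- Generators of quasi-compact objects covering everything. -/
def Gen (P : Sh J → Prop) : Prop :=
  ∀ X : Sh J, ∃ (ι : Type u) (F : ι → Sh J) (π : ∀ i, F i ⟶ X), (∀ i, P (F i)) ∧ Cov π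

theorem gen_of_hasQCGenerators (h : HasQCGenerators J) : Gen (J := J) IsQC := fun X => by
  obtain ⟨ι, F, π, hF, hπ⟩ := h X
  exact ⟨ι, F, π, hF, epi_desc_iff.1 hπ⟩

theorem gen_of_family {α : Type u} {G : α → Sh J}
    (hgen : ∀ X : Sh J, ∃ (ι : Type u) (a : ι → α) (π : ∀ i, G (a i) ⟶ X), Epi (Sigma.desc π)) :
    Gen (J := J) (fun K => ∃ a, K = G a) := fun X => by
  obtain ⟨ι, a, π, hπ⟩ := hgen X
  exact ⟨ι, _, π, fun i => ⟨a i, rfl⟩, epi_desc_iff.1 hπ⟩

theorem Gen.mono {P Q : Sh J → Prop} (h : Gen P) (hPQ : ∀ K, P K → Q K) : Gen Q := fun X => by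
  obtain ⟨ι, F, π, hF, hπ⟩ := h X
  exact ⟨ι, F, π, fun i => hPQ _ (hF i), hπ⟩

/-- A quasi-compact object has finite covers by generators subordinate to any cover. -/
theorem exists_finite_gen {P : Sh J → Prop} (hgen : Gen P) (hX : IsQC X) {ι : Type u} {F : ι → Sh J}
    {π : ∀ i, F i ⟶ X} (hπ : Cov π) :
    ∃ (κ : Type u) (_ : Finite κ) (K : κ → Sh J) (a : κ → ι) (t : ∀ k, K k ⟶ F (a k)),
      (∀ k, P (K k)) ∧ Cov (fun k => t k ≫ π (a k)) := by
  choose σ G ρ hG hρ using fun i => hgen (F i)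
  obtain ⟨s, hs⟩ := isQC_iff.1 hX _ _ _ (hπ.comp hρ)
  exact ⟨s, inferInstance, _, fun k => k.1.1, fun k => ρ k.1.1 k.1.2, fun k => hG _ _, hs⟩

/-! ### Quasi-compact morphisms -/

theorem IsQCHom.of_isPullback {f : X ⟶ Y} (hf : IsQCHom f) {P Y' : Sh J} {p : P ⟶ X} {q : P ⟶ Y'}
    {g : Y' ⟶ Y} (sq : IsPullback p q f g) (hY' : IsQC Y') : IsQC P :=
  isQC_of_iso sq.isoPullback.symm (hf Y' g hY')

theorem isQCHom_of_isPullback {f : X ⟶ Y} (hf : IsQCHom f) {X' Y' : Sh J} {p : X' ⟶ X} {f' : X' ⟶ Y'}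
    {g : Y' ⟶ Y} (sq : IsPullback p f' f g) : IsQCHom f' := fun W h hW =>
  IsQCHom.of_isPullback hf ((IsPullback.of_hasPullback f' h).paste_horiz sq) hW

theorem isQCHom_pullback_snd {f : X ⟶ Y} (hf : IsQCHom f) {Y' : Sh J} (g : Y' ⟶ Y) :
    IsQCHom (pullback.snd f g) :=
  isQCHom_of_isPullback hf (IsPullback.of_hasPullback f g)

theorem isQCHom_pullback_fst {f : X ⟶ Y} (hf : IsQCHom f) {Y' : Sh J} (g : Y' ⟶ Y) :
    IsQCHom (pullback.fst g f) :=
  isQCHom_of_isPullback hf (IsPullback.of_hasPullback g f).flip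

theorem isQCHom_of_isIso (f : X ⟶ Y) [IsIso f] : IsQCHom f := fun W g hW =>
  isQC_of_iso (asIso (pullback.snd f g)).symm hW

theorem isQCHom_comp {f : X ⟶ Y} (hf : IsQCHom f) {g : Y ⟶ Z} (hg : IsQCHom g) : IsQCHom (f ≫ g) :=
  fun W h hW => isQC_of_iso (((IsPullback.of_hasPullback f (pullback.fst g h)).paste_vert
    (IsPullback.of_hasPullback g h)).isoPullback) (hf _ _ (hg W h hW))

theorem isQCHom_iff_of_iso {X' : Sh J} (e : X' ≅ X) (f : X ⟶ Y) : IsQCHom (e.hom ≫ f) ↔ IsQCHom f := by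
  refine ⟨fun h => ?_, fun h => isQCHom_comp (isQCHom_of_isIso _) h⟩
  have := isQCHom_comp (isQCHom_of_isIso e.inv) h
  rwa [e.inv_hom_id_assoc] at this

theorem isQSHom_of_comp {f : X ⟶ Y} {g : Y ⟶ Z} (h : IsQSHom (f ≫ g)) : IsQSHom f :=
  isQCHom_of_isPullback h (isPullback_diagonal_comparison f g)

theorem isQSHom_comp {f : X ⟶ Y} (hf : IsQSHom f) {g : Y ⟶ Z} (hg : IsQSHom g) : IsQSHom (f ≫ g) := by
  unfold IsQSHom
  rw [← diagonal_comparison]
  exact isQCHom_comp hf (isQCHom_of_isPullback hg (isPullback_comparison f g))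

theorem isQSHom_of_mono (f : X ⟶ Y) [Mono f] : IsQSHom f := isQCHom_of_isIso _

theorem isQSHom_of_isPullback {f : X ⟶ Y} (hf : IsQSHom f) {X' Y' : Sh J} {p : X' ⟶ X} {f' : X' ⟶ Y'}
    {g : Y' ⟶ Y} (sq : IsPullback p f' f g) : IsQSHom f' :=
  let ⟨_, hk⟩ := exists_isPullback_diagonal sq
  isQCHom_of_isPullback hf hk

theorem isQSHom_pullback_snd {f : X ⟶ Y} (hf : IsQSHom f) {Y' : Sh J} (g : Y' ⟶ Y) :
    IsQSHom (pullback.snd f g) :=
  isQSHom_of_isPullback hf (IsPullback.of_hasPullback f g)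

theorem isQSHom_pullback_fst {f : X ⟶ Y} (hf : IsQSHom f) {Y' : Sh J} (g : Y' ⟶ Y) :
    IsQSHom (pullback.fst g f) :=
  isQSHom_of_isPullback hf (IsPullback.of_hasPullback g f).flip

theorem isQCHom_of_comp {f : X ⟶ Y} {g : Y ⟶ Z} (h : IsQCHom (f ≫ g)) (hg : IsQSHom g) : IsQCHom f := by
  obtain ⟨k, hk⟩ := exists_isPullback_graph f g
  have e := pullback.lift_snd (f := f ≫ g) (g := g) (𝟙 X) f (Category.id_comp _)
  rw [← e]
  exact isQCHom_comp (isQCHom_of_isPullback hg hk) (isQCHom_pullback_snd h g)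

theorem isQS_of_isQSHom {f : X ⟶ Y} (hf : IsQSHom f) (hY : IsQS Y) : IsQS X := fun A B a b hA hB =>
  let ⟨_, _, hk⟩ := exists_isPullback_relative f a b
  IsQCHom.of_isPullback hf hk (hY A B (a ≫ f) (b ≫ f) hA hB)

theorem isQCHom_pullbackMap {A B A' B' S : Sh J} {f : A ⟶ B} {f' : A' ⟶ B'} (a : B ⟶ S) (a' : B' ⟶ S)
    (hf : IsQCHom f) (hf' : IsQCHom f') :
    IsQCHom (pullback.map (f ≫ a) (f' ≫ a') a a' f f' (𝟙 S) (Category.comp_id _) (Category.comp_id _)) := by
  obtain ⟨m, n, hm, hn, e⟩ := exists_pullbackMap_fac f f' a a'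
  rw [← e]
  exact isQCHom_comp (isQCHom_of_isPullback hf hm) (isQCHom_of_isPullback hf' hn)

theorem isQSHom_pullbackMap {A B A' B' S : Sh J} {f : A ⟶ B} {f' : A' ⟶ B'} (a : B ⟶ S) (a' : B' ⟶ S)
    (hf : IsQSHom f) (hf' : IsQSHom f') :
    IsQSHom (pullback.map (f ≫ a) (f' ≫ a') a a' f f' (𝟙 S) (Category.comp_id _) (Category.comp_id _)) := by
  obtain ⟨m, n, hm, hn, e⟩ := exists_pullbackMap_fac f f' a a'
  rw [← e]
  exact isQSHom_comp (isQSHom_of_isPullback hf hm) (isQSHom_of_isPullback hf' hn)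

end Groth.Agent.ToposFinLib
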