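import Groth.Agent.ToposFinLib.Local

/-!
# Partitions: disjoint coverings by monomorphisms
-/

set_option autoImplicit false
set_option backward.isDefEq.respectTransparency false
set_option linter.unusedVariables false

universe v u

open CategoryTheory CategoryTheory.Limits Opposite ToposFin

namespace Groth.Agent.ToposFinLib

variable {C : Type u} [SmallCategory C] {J : GrothendieckTopology C} {X Y : Sh J}

/-- An object without sections, up to empty coverings. -/
def IsNullObj (X : Sh J) : Prop := ∀ ⦃U : C⦄, X.obj.obj (op U) → (⊥ : Sieve U) ∈ J U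

theorem IsNullObj.cov (h : IsNullObj X) {ι : Type v} {F : ι → Sh J} (π : ∀ i, F i ⟶ X) : Cov π :=
  fun U y => J.superset_covering bot_le (h y)

theorem IsNullObj.isQC (h : IsNullObj X) : IsQC X :=
  isQC_iff.2 fun ι F π hπ => ⟨∅, h.cov _⟩

theorem IsNullObj.of_hom (h : IsNullObj Y) (f : X ⟶ Y) : IsNullObj X := fun U z => h (f.hom.app (op U) z)

theorem isNullObj_of_isInitial (h : IsInitial X) : IsNullObj X := by
  intro U y
  let G : PEmpty.{u + 1} → Sh J := fun i => i.elim
  let ρ : ∀ i, G i ⟶ X := fun i => i.elim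
  have hc : Cov ρ := cov_of_hom_ext fun Z a b _ => h.hom_ext a b
  refine J.superset_covering (fun V g hg => ?_) (hc y)
  obtain ⟨i, -⟩ := hg
  exact i.elim

/-- A null object is initial. -/
noncomputable def IsNullObj.isInitial (h : IsNullObj X) : IsInitial X :=
  IsInitial.ofUniqueHom
    (fun Z => ⟨{
      app := fun U => TypeCat.ofHom fun x =>
        Types.isTerminalEquivUnique _ (Z.isTerminalOfBotCover U.unop (h x)) |>.default
      naturality := fun U V g => by
        ext x
        exact ((Types.isTerminalEquivUnique _ (Z.isTerminalOfBotCover V.unop (h (X.obj.map g x)))).uniq _).symm }⟩)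
    fun Z m => by
      apply CategoryTheory.Sheaf.hom_ext
      ext U x
      exact (Types.isTerminalEquivUnique _ (Z.isTerminalOfBotCover U.unop (h x))).uniq _

theorem nonempty_iso_initial_iff : Nonempty (X ≅ ⊥_ (Sh J)) ↔ IsNullObj X :=
  ⟨fun ⟨e⟩ => (isNullObj_of_isInitial (J := J) (X := ⊥_ (Sh J)) initialIsInitial).of_hom e.hom,
    fun h => ⟨h.isInitial.uniqueUpToIso initialIsInitial⟩⟩

variable {ι : Type v} {F : ι → Sh J} {π : ∀ i, F i ⟶ X}

/-- A disjoint covering by monomorphisms. -/
structure IsPartition (π : ∀ i, F i ⟶ X) : Prop where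
  cov : Cov π
  mono : ∀ i, Mono (π i)
  disj : ∀ ⦃i j : ι⦄, i ≠ j → ∀ ⦃U : C⦄ (z : (F i).obj.obj (op U)) (z' : (F j).obj.obj (op U)),
    (π i).hom.app (op U) z = (π j).hom.app (op U) z' → (⊥ : Sieve U) ∈ J U

theorem IsPartition.baseChange (h : IsPartition π) {Y : Sh J} (g : Y ⟶ X) {P : ι → Sh J}
    {p : ∀ i, P i ⟶ Y} {q : ∀ i, P i ⟶ F i} (sq : ∀ i, IsPullback (p i) (q i) g (π i)) : IsPartition p where
  cov := h.cov.pullback g sq
  mono i := by
    have := h.mono i
    exact MorphismProperty.of_isPullback (P := MorphismProperty.monomorphisms (Sh J)) (sq i).flip this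
  disj i j hij U z z' e := by
    refine h.disj hij ((q i).hom.app _ z) ((q j).hom.app _ z') ?_
    have hi := congrArg (fun r : P i ⟶ X => r.hom.app (op U) z) (sq i).w
    have hj := congrArg (fun r : P j ⟶ X => r.hom.app (op U) z') (sq j).w
    exact hi.symm.trans ((congrArg (g.hom.app (op U)) e).trans hj)

theorem IsPartition.reindex (h : IsPartition π) {κ : Type*} (e : κ ≃ ι) : IsPartition (fun k => π (e k)) where
  cov := h.cov.refine fun i => ⟨e.symm i, eqToHom (by simp), by
    generalize_proofs hh
    revert hh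
    generalize hk : e (e.symm i) = i'
    rw [Equiv.apply_symm_apply] at hk
    subst hk
    intro hh
    simp⟩
  mono k := h.mono _
  disj k l hkl := h.disj (e.injective.ne hkl)

theorem IsPartition.isQC_piece {ι : Type u} {F : ι → Sh J} {π : ∀ i, F i ⟶ X} (h : IsPartition π) (hX : IsQC X)
    (i : ι) : IsQC (F i) := by
  classical
  rw [isQC_iff]
  intro κ G ρ hρ
  let G' : {j // j ≠ i} ⊕ κ → Sh J := Sum.elim (fun j => F j) G
  let ρ' : ∀ k, G' k ⟶ X := fun k => match k with
    | .inl j => π j
    | .inr k => ρ k ≫ π i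
  have hc : Cov ρ' := cov_of_hom_ext fun Z a b e => h.cov.hom_ext fun j => by
    by_cases hj : j = i
    · subst hj
      exact hρ.hom_ext fun k => by simpa [ρ'] using e (.inr k)
    · simpa [ρ'] using e (.inl ⟨j, hj⟩)
  obtain ⟨s, hs⟩ := isQC_iff.1 hX _ _ _ hc
  refine ⟨s.toRight, fun U y => J.transitive (hs ((π i).hom.app (op U) y)) _ ?_⟩
  rintro V g ⟨⟨k, hk⟩, z, hz⟩
  rw [pullback_imgSieve]
  match k, hk, z, hz with
  | .inl j, _, z, hz =>
    exact J.superset_covering bot_le
      (h.disj j.2 z ((F i).obj.map g.op y) (hz.trans (NatTrans.naturality_apply _ _ _).symm))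
  | .inr k, hk, z, hz =>
    refine J.superset_covering (fun W a _ => ?_) (J.top_mem _)
    refine ⟨⟨k, Finset.mem_toRight.2 hk⟩, (G k).obj.map a.op z, ?_⟩
    have := h.mono i
    have hinj : Function.Injective ((π i).hom.app (op V)) := by
      rw [← mono_iff_injective]
      exact ((NatTrans.mono_iff_mono_app ((π i).hom)).1
        (inferInstanceAs (Mono ((sheafToPresheaf J (Type u)).map (π i))))) _
    exact (NatTrans.naturality_apply (ρ k).hom a.op z).trans
      ((congrArg ((F i).obj.map a.op) (hinj (hz.trans (NatTrans.naturality_apply _ _ _).symm))).trans rfl)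

theorem IsPartition.finite_nonNull {ι : Type u} {F : ι → Sh J} {π : ∀ i, F i ⟶ X} (h : IsPartition π) (hX : IsQC X) :
    {i | ¬ IsNullObj (F i)}.Finite := by
  obtain ⟨s, hs⟩ := isQC_iff.1 hX _ _ _ h.cov
  refine s.finite_toSet.subset fun i hi => ?_
  by_contra his
  refine hi fun U y => J.transitive (hs ((π i).hom.app (op U) y)) _ ?_
  rintro V g ⟨⟨j, hj⟩, z, hz⟩
  rw [Sieve.pullback_bot]
  exact h.disj (fun e : j = i => his (e ▸ hj)) z ((F i).obj.map g.op y)
    (hz.trans (NatTrans.naturality_apply _ _ _).symm)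

theorem isQC_of_partition {ι : Type u} {F : ι → Sh J} {π : ∀ i, F i ⟶ X} (h : IsPartition π)
    (hF : ∀ i, IsQC (F i)) (hfin : {i | ¬ IsNullObj (F i)}.Finite) : IsQC X := by
  have : Finite {i | ¬ IsNullObj (F i)} := hfin.to_subtype
  refine isQC_of_finite_cov (fun i : {i | ¬ IsNullObj (F i)} => F i) (fun i => π i) ?_ fun i => hF i
  refine cov_of_hom_ext fun Z a b e => h.cov.hom_ext fun i => ?_
  by_cases hi : IsNullObj (F i)
  · exact hi.isInitial.hom_ext _ _
  · exact e ⟨i, hi⟩

/-- Injections of partitions are quasi-compact. -/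
theorem IsPartition.isQCHom {ι : Type u} {F : ι → Sh J} {π : ∀ i, F i ⟶ X} (h : IsPartition π) (i : ι) :
    IsQCHom (π i) := fun W g hW =>
  (h.baseChange g fun j => (IsPullback.of_hasPullback (π j) g).flip).isQC_piece hW i

section Coproduct

variable {ι : Type u} (F : ι → Sh J)

/-- The pointwise coproduct. -/
def sigmaPsh : Cᵒᵖ ⥤ Type u where
  obj U := Σ i, (F i).obj.obj U
  map g := TypeCat.ofHom fun p => ⟨p.1, (F p.1).obj.map g p.2⟩
  map_id U := by ext p <;> simp
  map_comp g h := by ext p <;> simp

/-- The injections into the pointwise coproduct. -/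
def sigmaInj₀ (i : ι) : (F i).obj ⟶ sigmaPsh F where
  app U := TypeCat.ofHom fun x => ⟨i, x⟩
  naturality U V g := by ext x; rfl

/-- The injections into the associated sheaf. -/
noncomputable def sigmaInj (i : ι) : F i ⟶ (presheafToSheaf J (Type u)).obj (sigmaPsh F) :=
  ⟨sigmaInj₀ F i ≫ toSheafify J (sigmaPsh F)⟩

lemma equalizerSieve_toSheafify {U : C} (a b : (sigmaPsh F).obj (op U))
    (h : (toSheafify J (sigmaPsh F)).app (op U) a = (toSheafify J (sigmaPsh F)).app (op U) b) :
    Presheaf.equalizerSieve (F := sigmaPsh F) a b ∈ J U :=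
  Presheaf.equalizerSieve_mem J (toSheafify J (sigmaPsh F)) a b h

theorem isPartition_sigmaInj : IsPartition (sigmaInj F) where
  cov U y := by
    refine J.superset_covering ?_ (Presheaf.imageSieve_mem J (toSheafify J (sigmaPsh F)) y)
    rintro V g ⟨⟨i, x⟩, hx⟩
    exact ⟨i, x, hx⟩
  mono i := by
    refine ⟨fun {Z} a b e => ?_⟩
    apply CategoryTheory.Sheaf.hom_ext
    ext U z
    have h := equalizerSieve_toSheafify F (U := U.unop) ⟨i, a.hom.app U z⟩ ⟨i, b.hom.app U z⟩
      (congrArg (fun q : Z ⟶ _ => q.hom.app U z) e)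
    refine ((((isSheaf_iff_isSheaf_of_type _ _).1 (F i).property).isSeparated) _ h).ext fun V g hg => ?_
    exact eq_of_heq (Sigma.mk.inj_iff.1 hg).2
  disj i j hij U z z' e := by
    refine J.superset_covering (fun V g hg => ?_) (equalizerSieve_toSheafify F ⟨i, z⟩ ⟨j, z'⟩ e)
    exact hij (congrArg Sigma.fst hg)

/-- The cocone of injections is a coproduct. -/
noncomputable def sigmaIsColimit : IsColimit (Cofan.mk _ (sigmaInj F)) :=
  Cofan.IsColimit.mk _
    (fun s => ((sheafificationAdjunction J (Type u)).homEquiv _ _).symm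
      { app := fun U => TypeCat.ofHom fun p => (s.inj p.1).hom.app U p.2
        naturality := fun U V g => by
          ext p
          exact NatTrans.naturality_apply (s.inj p.1).hom g p.2 })
    (fun s i => by
      apply CategoryTheory.Sheaf.hom_ext
      ext U x
      have := Equiv.apply_symm_apply ((sheafificationAdjunction J (Type u)).homEquiv (sigmaPsh F) s.pt)
        { app := fun U => TypeCat.ofHom fun p => (s.inj p.1).hom.app U p.2
          naturality := fun U V g => by
            ext p
            exact NatTrans.naturality_apply (s.inj p.1).hom g p.2 }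
      rw [Adjunction.homEquiv_unit] at this
      exact congrArg (fun q => q.app U ⟨i, x⟩) this)
    fun s m hm => (isPartition_sigmaInj F).cov.hom_ext fun i => by
      refine Eq.trans (hm i) ?_
      apply CategoryTheory.Sheaf.hom_ext
      ext U x
      have := Equiv.apply_symm_apply ((sheafificationAdjunction J (Type u)).homEquiv (sigmaPsh F) s.pt)
        { app := fun U => TypeCat.ofHom fun p => (s.inj p.1).hom.app U p.2
          naturality := fun U V g => by
            ext p
            exact NatTrans.naturality_apply (s.inj p.1).hom g p.2 }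
      rw [Adjunction.homEquiv_unit] at this
      exact (congrArg (fun q => q.app U ⟨i, x⟩) this).symm

theorem isPartition_of_isColimit {c : Cofan F} (hc : IsColimit c) : IsPartition c.inj := by
  let e := (sigmaIsColimit F).coconePointUniqueUpToIso hc
  have he : ∀ i, sigmaInj F i ≫ e.hom = c.inj i := fun i =>
    (sigmaIsColimit F).comp_coconePointUniqueUpToIso_hom hc ⟨i⟩
  refine ((isPartition_sigmaInj F).baseChange e.inv (q := fun i => 𝟙 (F i)) fun i => ?_)
  refine IsPullback.of_vert_isIso ⟨?_⟩ |>.flip |>.flip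
  rw [← he i]
  simp

theorem isPartition_sigma_ι : IsPartition (Sigma.ι F) :=
  isPartition_of_isColimit F (coproductIsCoproduct F)

end Coproduct

end Groth.Agent.ToposFinLib
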