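import Groth.Agent.ToposFinLib.Colim

/-!
# Finitely presentable objects and presentations by coherent objects
-/

set_option autoImplicit false
set_option backward.isDefEq.respectTransparency false
set_option linter.unusedVariables false

universe v u

open CategoryTheory CategoryTheory.Limits Opposite ToposFin

namespace Groth.Agent.ToposFinLib

variable {C : Type u} [SmallCategory C] {J : GrothendieckTopology C} {X : Sh J}

theorem isCoherent_of_retract {Y : Sh J} (i : X ⟶ Y) (p : Y ⟶ X) (e : i ≫ p = 𝟙 X) (hY : IsCoherent Y) :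
    IsCoherent X := by
  haveI : IsSplitEpi p := ⟨⟨⟨i, e⟩⟩⟩
  haveI : IsSplitMono i := ⟨⟨⟨p, e⟩⟩⟩
  exact ⟨isQC_of_epi p hY.1, isQS_of_isQSHom (isQSHom_of_mono i) hY.2⟩

theorem isCoherent_sigma {ι : Type u} [Finite ι] (F : ι → Sh J) (h : ∀ i, IsCoherent (F i)) :
    IsCoherent (∐ F) :=
  ⟨isQC_of_finite_cov F _ (isPartition_sigma_ι F).cov fun i => (h i).1,
    (isPartition_sigma_ι F).isQS fun i => (h i).2⟩

theorem isFP_of_retract {Y : Sh J} (i : X ⟶ Y) (p : Y ⟶ X) (e : i ≫ p = 𝟙 X) (hY : IsFP Y) : IsFP X := by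
  intro I _ _ D
  refine ⟨(injective_post_iff X D).2 fun j h h' he => ?_, (surjective_post_iff X D).2 fun y => ?_⟩
  · obtain ⟨k, u, hu⟩ := (injective_post_iff Y D).1 (hY I D).1 j (p ≫ h) (p ≫ h')
      (by simp only [Category.assoc, he])
    exact ⟨k, u, by simpa [reassoc_of% e] using i ≫= hu⟩
  · obtain ⟨j, h, hh⟩ := (surjective_post_iff Y D).1 (hY I D).2 (p ≫ y)
    exact ⟨j, i ≫ h, by rw [Category.assoc, hh, reassoc_of% e]⟩

theorem isFP_coequalizer {X₀ X₁ : Sh J} (a b : X₁ ⟶ X₀) (h₀ : IsFP X₀) (h₁ : IsFP X₁) :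
    IsFP (coequalizer a b) := by
  intro I _ _ D
  refine ⟨(injective_post_iff _ D).2 fun j h h' he => ?_, (surjective_post_iff _ D).2 fun y => ?_⟩
  · obtain ⟨k, u, hu⟩ := (injective_post_iff X₀ D).1 (h₀ I D).1 j (coequalizer.π a b ≫ h) (coequalizer.π a b ≫ h')
      (by simp only [Category.assoc, he])
    exact ⟨k, u, coequalizer.hom_ext (by simpa only [Category.assoc] using hu)⟩
  · obtain ⟨j, h, hh⟩ := (surjective_post_iff X₀ D).1 (h₀ I D).2 (coequalizer.π a b ≫ y)
    obtain ⟨k, u, hu⟩ := (injective_post_iff X₁ D).1 (h₁ I D).1 j (a ≫ h) (b ≫ h)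
      (by rw [Category.assoc, Category.assoc, hh, coequalizer.condition_assoc])
    refine ⟨k, coequalizer.desc (h ≫ D.map u) (by simpa only [Category.assoc] using hu), coequalizer.hom_ext ?_⟩
    rw [coequalizer.π_desc_assoc, Category.assoc, colimit.w, hh]

theorem isFP_of_isCoherent' (hE : HasCoherentGenerators J) {X : Sh J} (hX : IsCoherent X) : IsFP X := by
  refine isFP_of_isCoherent (fun X => ?_) hX
  obtain ⟨ι, F, π, hF, hπ⟩ := hE X
  exact ⟨ι, F, π, fun i => (hF i).1, epi_desc_iff.1 hπ⟩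

section Presentation

variable {ι : Type u} {K : ι → Sh J} {σ : Type u} {L : σ → Sh J} (l r : σ → ι) (a : ∀ m, L m ⟶ K (l m))
  (b : ∀ m, L m ⟶ K (r m))

/-- Finite parts of a presentation. -/
def Part : Type u := {p : Finset ι × Finset σ // ∀ m ∈ p.2, l m ∈ p.1 ∧ r m ∈ p.1}

instance : Preorder (Part l r) := inferInstanceAs (Preorder {p : Finset ι × Finset σ // _})

instance : Nonempty (Part l r) := ⟨⟨(∅, ∅), fun m hm => absurd hm (Finset.notMem_empty m)⟩⟩

instance : IsDirected (Part l r) (· ≤ ·) := by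
  classical
  refine ⟨fun p q => ⟨⟨(p.1.1 ∪ q.1.1, p.1.2 ∪ q.1.2), fun m hm => ?_⟩,
    ⟨Finset.subset_union_left, Finset.subset_union_left⟩, ⟨Finset.subset_union_right, Finset.subset_union_right⟩⟩⟩
  rcases Finset.mem_union.1 hm with hm | hm
  · exact ⟨Finset.mem_union_left _ (p.2 m hm).1, Finset.mem_union_left _ (p.2 m hm).2⟩
  · exact ⟨Finset.mem_union_right _ (q.2 m hm).1, Finset.mem_union_right _ (q.2 m hm).2⟩

variable {l r}

/-- The first map of a finite part. -/
noncomputable def Part.fst (p : Part l r) : (∐ fun m : p.1.2 => L m) ⟶ ∐ fun i : p.1.1 => K i :=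
  Sigma.desc fun m => a m ≫ Sigma.ι (fun i : p.1.1 => K i) ⟨l m, (p.2 m m.2).1⟩

/-- The second map of a finite part. -/
noncomputable def Part.snd (p : Part l r) : (∐ fun m : p.1.2 => L m) ⟶ ∐ fun i : p.1.1 => K i :=
  Sigma.desc fun m => b m ≫ Sigma.ι (fun i : p.1.1 => K i) ⟨r m, (p.2 m m.2).2⟩

/-- The object presented by a finite part. -/
noncomputable def Part.obj (p : Part l r) : Sh J := coequalizer (p.fst a) (p.snd b)

/-- The components. -/
noncomputable def Part.κ (p : Part l r) (i : ι) (hi : i ∈ p.1.1) : K i ⟶ p.obj a b :=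
  Sigma.ι (fun i : p.1.1 => K i) ⟨i, hi⟩ ≫ coequalizer.π (p.fst a) (p.snd b)

lemma Part.κ_cond (p : Part l r) (m : σ) (hm : m ∈ p.1.2) :
    a m ≫ p.κ a b (l m) (p.2 m hm).1 = b m ≫ p.κ a b (r m) (p.2 m hm).2 := by
  simpa [Part.fst, Part.snd, Part.κ] using
    Sigma.ι (fun m : p.1.2 => L m) ⟨m, hm⟩ ≫= coequalizer.condition (p.fst a) (p.snd b)

lemma Part.hom_ext (p : Part l r) {Z : Sh J} {f g : p.obj a b ⟶ Z}
    (h : ∀ i hi, p.κ a b i hi ≫ f = p.κ a b i hi ≫ g) : f = g :=
  coequalizer.hom_ext (Sigma.hom_ext _ _ fun i => by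
    have := h i.1 i.2
    simp only [Part.κ, Category.assoc] at this
    exact this)

/-- Descent out of the object of a finite part. -/
noncomputable def Part.desc (p : Part l r) {Z : Sh J} (t : ∀ i, i ∈ p.1.1 → (K i ⟶ Z))
    (ht : ∀ m (hm : m ∈ p.1.2), a m ≫ t (l m) (p.2 m hm).1 = b m ≫ t (r m) (p.2 m hm).2) : p.obj a b ⟶ Z :=
  coequalizer.desc (Sigma.desc fun i => t i.1 i.2)
    (Sigma.hom_ext _ _ fun m => by simpa [Part.fst, Part.snd] using ht m.1 m.2)

@[simp]
lemma Part.κ_desc (p : Part l r) {Z : Sh J} (t : ∀ i, i ∈ p.1.1 → (K i ⟶ Z)) (ht) (i : ι) (hi : i ∈ p.1.1) :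
    p.κ a b i hi ≫ p.desc a b (Z := Z) t ht = t i hi := by
  simp [Part.κ, Part.desc]

/-- The diagram of finite parts. -/
noncomputable def partDiag : Part l r ⥤ Sh J where
  obj p := p.obj a b
  map {p q} f := p.desc a b (fun i hi => q.κ a b i ((leOfHom f).1 hi)) fun m hm => q.κ_cond a b m ((leOfHom f).2 hm)
  map_id p := p.hom_ext a b fun i hi => by simp
  map_comp {p q s} f g := p.hom_ext a b fun i hi => by rw [p.κ_desc, ← Category.assoc, p.κ_desc, q.κ_desc]

lemma κ_map {p q : Part l r} (f : p ⟶ q) (i : ι) (hi : i ∈ p.1.1) :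
    p.κ a b i hi ≫ (partDiag a b).map f = q.κ a b i ((leOfHom f).1 hi) :=
  p.κ_desc a b _ _ i hi

variable (l r) in
/-- The part with a single object. -/
noncomputable def Part.single (i : ι) : Part l r :=
  ⟨({i}, ∅), fun m hm => absurd hm (Finset.notMem_empty m)⟩

lemma Part.mem_single (i : ι) : i ∈ (Part.single l r i).1.1 := Finset.mem_singleton_self i

lemma Part.single_le {p : Part l r} {i : ι} (hi : i ∈ p.1.1) : Part.single l r i ≤ p :=
  ⟨Finset.singleton_subset_iff.2 hi, Finset.empty_subset _⟩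

variable (π : ∀ i, K i ⟶ X) (hw : ∀ m, a m ≫ π (l m) = b m ≫ π (r m))

/-- The cocone of finite parts. -/
noncomputable def partCocone : Cocone (partDiag a b) where
  pt := X
  ι :=
    { app := fun p => p.desc a b (fun i _ => π i) fun m _ => hw m
      naturality := fun p q f => p.hom_ext a b fun i hi => by
        rw [← Category.assoc, κ_map a b f i hi, q.κ_desc]
        simp only [Functor.const_obj_map]
        erw [Category.comp_id]
        rw [p.κ_desc] }

variable (hπ : Cov π)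
  (hρ : ∀ (i k : ι) (Z : Sh J) (f g : pullback (π i) (π k) ⟶ Z),
    (∀ (m : σ) (q : L m ⟶ pullback (π i) (π k)) (e : l m = i) (e' : r m = k),
      q ≫ pullback.fst _ _ = a m ≫ eqToHom (by rw [e]) → q ≫ pullback.snd _ _ = b m ≫ eqToHom (by rw [e']) →
        q ≫ f = q ≫ g) → f = g)

include hπ hρ in
theorem exists_isColimit_partCocone : Nonempty (IsColimit (partCocone a b π hw)) := by
  classical
  have hcompat : ∀ s : Cocone (partDiag a b), ∃ f : X ⟶ s.pt, ∀ i,
      π i ≫ f = (Part.single l r i).κ a b i (Part.mem_single i) ≫ s.ι.app (Part.single l r i) := by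
    intro s
    refine hπ.exists_desc _ fun i k => hρ i k _ _ _ fun m q e e' h₁ h₂ => ?_
    subst e e'
    rw [reassoc_of% h₁, reassoc_of% h₂]
    simp only [eqToHom_refl, Category.id_comp]
    let p : Part l r := ⟨({l m, r m}, {m}), fun m' hm' => by
      rw [Finset.mem_singleton] at hm'
      subst hm'
      simp⟩
    let u : Part.single l r (l m) ⟶ p := homOfLE (Part.single_le (by simp [p]))
    let u' : Part.single l r (r m) ⟶ p := homOfLE (Part.single_le (by simp [p]))
    rw [← s.w u, ← s.w u', reassoc_of% (κ_map a b u (l m) (Part.mem_single _)),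
      reassoc_of% (κ_map a b u' (r m) (Part.mem_single _)),
      reassoc_of% (p.κ_cond a b m (Finset.mem_singleton_self m))]
  choose f hf using hcompat
  exact ⟨{
    desc := f
    fac := fun s p => p.hom_ext a b fun i hi => by
      erw [← Category.assoc, p.κ_desc, hf]
      let u : Part.single l r i ⟶ p := homOfLE (Part.single_le hi)
      rw [← s.w u, reassoc_of% (κ_map a b u i (Part.mem_single i))]
    uniq := fun s m hm => hπ.hom_ext fun i => by
      rw [hf, ← hm, ← Category.assoc]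
      refine congrArg (· ≫ m) ?_
      exact (Part.κ_desc a b (Part.single l r i) (fun i _ => π i) (fun m _ => hw m) i (Part.mem_single i)).symm }⟩

end Presentation

/-- Every object is a filtered colimit of coequalizers of coherent objects. -/
theorem exists_presentation (hE : HasCoherentGenerators J) (X : Sh J) :
    ∃ (P : Type u) (_ : SmallCategory P) (_ : IsFiltered P) (D : P ⥤ Sh J) (c : Cocone D) (_ : IsColimit c),
      Nonempty (c.pt ≅ X) ∧ ∀ p, ∃ (X₀ X₁ : Sh J) (a b : X₁ ⟶ X₀), IsCoherent X₀ ∧ IsCoherent X₁ ∧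
        D.obj p = coequalizer a b := by
  classical
  obtain ⟨ι, K, π, hK, hπ⟩ := hE X
  choose τ M ρ hM hρ using fun p : ι × ι => hE (pullback (π p.1) (π p.2))
  let σ := Σ p : ι × ι, τ p
  let L : σ → Sh J := fun m => M m.1 m.2
  let a : ∀ m : σ, L m ⟶ K m.1.1 := fun m => ρ m.1 m.2 ≫ pullback.fst _ _
  let b : ∀ m : σ, L m ⟶ K m.1.2 := fun m => ρ m.1 m.2 ≫ pullback.snd _ _
  have hw : ∀ m, a m ≫ π m.1.1 = b m ≫ π m.1.2 := fun m => by simp [a, b, pullback.condition]
  obtain ⟨hc⟩ := exists_isColimit_partCocone (l := fun m : σ => m.1.1) (r := fun m : σ => m.1.2) a b π hw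
    (epi_desc_iff.1 hπ) (fun i k Z f g h => (epi_desc_iff.1 (hρ (i, k))).hom_ext fun t =>
      h ⟨(i, k), t⟩ (ρ (i, k) t) rfl rfl (by simp [a]) (by simp [b]))
  refine ⟨Part (fun m : σ => m.1.1) (fun m : σ => m.1.2), inferInstance, inferInstance, _, _, hc, ⟨Iso.refl _⟩,
    fun p => ⟨_, _, p.fst a, p.snd b, isCoherent_sigma _ fun i => hK _, isCoherent_sigma _ fun m => hM _ _, rfl⟩⟩

/-- A finitely presentable object is a retract of every stage of some presentation. -/
theorem exists_retract_of_isFP (hX : IsFP X) {I : Type u} [SmallCategory I] [IsFiltered I] {D : I ⥤ Sh J}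
    {c : Cocone D} (hc : IsColimit c) (e : c.pt ≅ X) :
    ∃ (j : I) (i : X ⟶ D.obj j) (p : D.obj j ⟶ X), i ≫ p = 𝟙 X := by
  let e' := (colimit.isColimit D).coconePointUniqueUpToIso hc ≪≫ e
  obtain ⟨j, h, hh⟩ := (surjective_post_iff X D).1 (hX I D).2 e'.inv
  refine ⟨j, h, colimit.ι D j ≫ e'.hom, ?_⟩
  rw [← Category.assoc, hh, e'.inv_hom_id]

theorem exists_coequalizer_of_isFP (hE : HasCoherentGenerators J) (hX : IsFP X) :
    ∃ (X₀ X₁ : Sh J) (a b : X₁ ⟶ X₀) (i : X ⟶ coequalizer a b) (p : coequalizer a b ⟶ X),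
      IsCoherent X₀ ∧ IsCoherent X₁ ∧ i ≫ p = 𝟙 X := by
  obtain ⟨P, hP, hP', D, c, hc, ⟨e⟩, hD⟩ := exists_presentation hE X
  obtain ⟨j, i, p, hip⟩ := exists_retract_of_isFP hX hc e
  obtain ⟨X₀, X₁, a, b, h₀, h₁, hab⟩ := hD j
  exact ⟨X₀, X₁, a, b, i ≫ eqToHom hab, eqToHom hab.symm ≫ p, h₀, h₁, by simp [hip]⟩

theorem isQC_of_injective_post
    (h : ∀ (I : Type u) [SmallCategory I] [IsFiltered I] (D : I ⥤ Sh J),
      Function.Injective (colimit.post D (coyoneda.obj (op X)))) : IsQC X := by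
  classical
  rw [isQC_iff]
  intro ι F π hπ
  let P : Finset ι → Sh J := fun s =>
    pushout (Sigma.desc fun i : s => π i) (Sigma.desc fun i : s => π i)
  let tr : ∀ {s t : Finset ι}, s ⊆ t → (P s ⟶ P t) := fun {s t} hst =>
    pushout.desc (pushout.inl _ _) (pushout.inr _ _) (Sigma.hom_ext _ _ fun i => by
      have := Sigma.ι (fun i : t => F i) ⟨i.1, hst i.2⟩ ≫= pushout.condition
        (f := Sigma.desc fun i : t => π i) (g := Sigma.desc fun i : t => π i)
      simpa using this)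
  let D : Finset ι ⥤ Sh J :=
    { obj := P
      map := fun f => tr (leOfHom f)
      map_id := fun s => by apply pushout.hom_ext <;> simp [tr, P]
      map_comp := fun f g => by apply pushout.hom_ext <;> simp [tr, P] }
  have hl : ∀ {s t : Finset ι} (f : s ⟶ t), (pushout.inl _ _ : X ⟶ P s) ≫ D.map f = pushout.inl _ _ :=
    fun f => pushout.inl_desc _ _ _
  have hr : ∀ {s t : Finset ι} (f : s ⟶ t), (pushout.inr _ _ : X ⟶ P s) ≫ D.map f = pushout.inr _ _ :=
    fun f => pushout.inr_desc _ _ _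
  have hi : ∀ (s : Finset ι) (i : ι) (hi : i ∈ s), π i ≫ (pushout.inl _ _ : X ⟶ P s) = π i ≫ pushout.inr _ _ := by
    intro s i hi
    have := Sigma.ι (fun j : s => F j) ⟨i, hi⟩ ≫= pushout.condition
      (f := Sigma.desc fun j : s => π j) (g := Sigma.desc fun j : s => π j)
    rwa [← Category.assoc, ← Category.assoc, Sigma.ι_desc] at this
  have hw : (pushout.inl _ _ : X ⟶ P ∅) ≫ colimit.ι D ∅ = (pushout.inr _ _ : X ⟶ P ∅) ≫ colimit.ι D ∅ :=
    hπ.hom_ext fun i => by
      have e := congrArg (· ≫ colimit.ι D ({i} : Finset ι)) (hi {i} i (Finset.mem_singleton_self i))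
      rw [← hl (homOfLE (Finset.empty_subset {i})), ← hr (homOfLE (Finset.empty_subset {i}))] at e
      rw [← colimit.w D (homOfLE (Finset.empty_subset {i}))]
      simpa only [Category.assoc] using e
  obtain ⟨s, u, hu⟩ := (injective_post_iff X D).1 (h (Finset ι) D) ∅ _ _ hw
  rw [hl u, hr u] at hu
  refine ⟨s, cov_of_hom_ext fun Z f g e => ?_⟩
  let d : P s ⟶ Z := pushout.desc f g (Sigma.hom_ext _ _ fun i => by simpa using e i)
  have h₁ : (pushout.inl _ _ : X ⟶ P s) ≫ d = f := pushout.inl_desc _ _ _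
  have h₂ : (pushout.inr _ _ : X ⟶ P s) ≫ d = g := pushout.inr_desc _ _ _
  rw [← h₁, ← h₂, hu]

section Saturated

variable {S : Set (Sh J)}

theorem exists_iso_coequalizer {X₀ R : Sh J} (p : X₀ ⟶ X) [Epi p] (q : R ⟶ pullback p p) [Epi q] :
    Nonempty (coequalizer (q ≫ pullback.fst p p) (q ≫ pullback.snd p p) ≅ X) := by
  obtain ⟨g, hg⟩ := (cov_of_epi.{0} p).exists_desc
    (fun _ => coequalizer.π (q ≫ pullback.fst p p) (q ≫ pullback.snd p p)) (fun _ _ => by
      rw [← cancel_epi q, ← Category.assoc, coequalizer.condition, Category.assoc])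
  refine ⟨⟨coequalizer.desc p (by simp [pullback.condition]), g, coequalizer.hom_ext ?_,
    (cancel_epi p).1 ?_⟩⟩
  · rw [coequalizer.π_desc_assoc]
    exact (hg PUnit.unit).trans (Category.comp_id _).symm
  · rw [reassoc_of% (hg PUnit.unit), coequalizer.π_desc, Category.comp_id]

end Saturated

end Groth.Agent.ToposFinLib
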