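import Groth.Agent.ToposFinLib.Basic

/-!
# Locality of quasi-compact and quasi-separated morphisms
-/

set_option autoImplicit false
set_option backward.isDefEq.respectTransparency false
set_option linter.unusedVariables false

universe v u

open CategoryTheory CategoryTheory.Limits Opposite ToposFin

namespace Groth.Agent.ToposFinLib

variable {C : Type u} [SmallCategory C] {J : GrothendieckTopology C} {X Y Z : Sh J}

/-- Quasi-compactness can be checked on finite covers of the test object. -/
theorem isQC_pullback_of_cov {κ : Type v} [Finite κ] (f : X ⟶ Y) {Y' : Sh J} (g : Y' ⟶ Y)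
    (K : κ → Sh J) (π : ∀ k, K k ⟶ Y') (hπ : Cov π) (h : ∀ k, IsQC (pullback f (π k ≫ g))) :
    IsQC (pullback f g) := by
  refine isQC_of_finite_cov (fun k => pullback f (π k ≫ g))
    (fun k => pullback.lift (pullback.fst _ _) (pullback.snd _ _ ≫ π k)
      (pullback.condition.trans (Category.assoc _ _ _).symm)) ?_ h
  refine hπ.pullback (pullback.snd f g) (q := fun k => pullback.snd f (π k ≫ g)) fun k => ?_
  exact IsPullback.of_right (by simpa using IsPullback.of_hasPullback f (π k ≫ g)) (pullback.lift_snd _ _ _)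
    (IsPullback.of_hasPullback f g) |>.flip |>.flip

/-- Quasi-compact morphisms are detected on generators. -/
theorem isQCHom_of_gen {P : Sh J → Prop} (hgen : Gen P) (f : X ⟶ Y)
    (h : ∀ (K : Sh J) (s : K ⟶ Y), P K → IsQC (pullback f s)) : IsQCHom f := by
  intro Y' g hY'
  obtain ⟨κ, hκ, K, a, t, hK, hcov⟩ := exists_finite_gen hgen hY' (cov_self.{u} Y')
  exact isQC_pullback_of_cov f g K _ hcov fun k => h _ _ (hK k)

theorem isQCHom_of_cov (hE : Gen (J := J) IsQC) (f : X ⟶ Y) {ι : Type u} (Yi : ι → Sh J)
    (g : ∀ i, Yi i ⟶ Y) (hg : Cov g) (h : ∀ i, IsQCHom (pullback.snd f (g i))) : IsQCHom f := by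
  intro Y' s hY'
  obtain ⟨κ, hκ, K, a, t, hK, hcov⟩ := exists_finite_gen hE hY' (hg.pullback_snd s)
  refine isQC_pullback_of_cov f s K _ hcov fun k => ?_
  have hw : (t k ≫ pullback.fst (g (a k)) s) ≫ g (a k) = (t k ≫ pullback.snd (g (a k)) s) ≫ s := by
    rw [Category.assoc, Category.assoc, pullback.condition]
  have := h (a k) (K k) (t k ≫ pullback.fst (g (a k)) s) (hK k)
  have sq := (IsPullback.of_hasPullback (pullback.snd f (g (a k))) (t k ≫ pullback.fst (g (a k)) s)).paste_horiz
    (IsPullback.of_hasPullback f (g (a k)))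
  rw [hw] at sq
  exact isQC_of_iso sq.isoPullback this

lemma exists_isPullback_diagonal_cov (f : X ⟶ Y) {ι : Type v} {Yi : ι → Sh J} {g : ∀ i, Yi i ⟶ Y} (hg : Cov g) :
    ∃ (κ : ∀ i, pullback (pullback.snd f (g i)) (pullback.snd f (g i)) ⟶ pullback f f),
      Cov κ ∧ ∀ i, IsPullback (pullback.fst f (g i)) (pullback.diagonal (pullback.snd f (g i)))
        (pullback.diagonal f) (κ i) := by
  let k : ∀ i, pullback (pullback.snd f (g i)) (pullback.snd f (g i)) ⟶ pullback f f := fun i =>
    pullback.lift (pullback.fst _ _ ≫ pullback.fst f (g i)) (pullback.snd _ _ ≫ pullback.fst f (g i))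
      (by simp [pullback.condition, pullback.condition_assoc])
  refine ⟨k, ?_, fun i => ?_⟩
  · refine hg.pullback (pullback.fst f f ≫ f)
      (q := fun i => pullback.fst (pullback.snd f (g i)) (pullback.snd f (g i)) ≫ pullback.snd f (g i)) fun i => ?_
    refine ⟨⟨by simp [k, pullback.condition]⟩, ⟨PullbackCone.IsLimit.mk _
      (fun s => pullback.lift (pullback.lift (s.fst ≫ pullback.fst f f) s.snd (by simpa using s.condition))
        (pullback.lift (s.fst ≫ pullback.snd f f) s.snd
          (by simpa [pullback.condition] using s.condition)) (by simp))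
      (fun s => ?_) (fun s => ?_) fun s m h₁ h₂ => ?_⟩⟩
    · apply pullback.hom_ext <;> simp [k]
    · simp
    · apply pullback.hom_ext
      · apply pullback.hom_ext
        · simp [← h₁, k]
        · simp [← h₂]
      · apply pullback.hom_ext
        · simp [← h₁, k]
        · simp [← h₂, pullback.condition]
  · refine ⟨⟨by apply pullback.hom_ext <;> simp [k]⟩, ⟨PullbackCone.IsLimit.mk _
      (fun s => s.snd ≫ pullback.fst _ _) (fun s => ?_) (fun s => ?_) fun s m _ h₂ => by simp [← h₂]⟩⟩
    · have h₁ := congrArg (· ≫ pullback.fst f f) s.condition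
      simp [k] at h₁
      simp [h₁]
    · have h₁ := congrArg (· ≫ pullback.fst f f) s.condition
      have h₂ := congrArg (· ≫ pullback.snd f f) s.condition
      simp [k] at h₁ h₂
      apply pullback.hom_ext
      · simp
      · apply pullback.hom_ext
        · simp [← h₁, ← h₂]
        · simp [pullback.condition]

theorem isQSHom_of_cov (hE : Gen (J := J) IsQC) (f : X ⟶ Y) {ι : Type u} (Yi : ι → Sh J)
    (g : ∀ i, Yi i ⟶ Y) (hg : Cov g) (h : ∀ i, IsQSHom (pullback.snd f (g i))) : IsQSHom f := by
  obtain ⟨k, hk, hsq⟩ := exists_isPullback_diagonal_cov f hg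
  refine isQCHom_of_cov hE _ _ k hk fun i => ?_
  rw [← (hsq i).isoPullback_inv_snd]
  exact isQCHom_comp (isQCHom_of_isIso _) (h i)

theorem isQCHom_of_finite_cov_source {κ : Type v} [Finite κ] (g : Y ⟶ Z) (Xk : κ → Sh J) (f : ∀ k, Xk k ⟶ Y)
    (hf : Cov f) (h : ∀ k, IsQCHom (f k ≫ g)) : IsQCHom g := by
  intro W s hW
  refine isQC_of_finite_cov (fun k => pullback (f k ≫ g) s)
    (fun k => pullback.lift (pullback.fst _ _ ≫ f k) (pullback.snd _ _)
      ((Category.assoc _ _ _).trans pullback.condition)) ?_ fun k => h k W s hW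
  refine hf.pullback (pullback.fst g s) (q := fun k => pullback.fst (f k ≫ g) s) fun k => ?_
  exact (IsPullback.of_bot (by simpa using IsPullback.of_hasPullback (f k ≫ g) s) (by simp)
    (IsPullback.of_hasPullback g s)).flip

end Groth.Agent.ToposFinLib
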