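import Groth.Agent.ToposFinLib.Partition

/-!
# Quasi-separated objects and morphisms
-/

set_option autoImplicit false
set_option backward.isDefEq.respectTransparency false
set_option linter.unusedVariables false

universe v u

open CategoryTheory CategoryTheory.Limits Opposite ToposFin

namespace Groth.Agent.ToposFinLib

variable {C : Type u} [SmallCategory C] {J : GrothendieckTopology C} {X Y Z : Sh J}

theorem isQC_pullback_symm {A B : Sh J} {a : A ⟶ Y} {b : B ⟶ Y} (h : IsQC (pullback a b)) :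
    IsQC (pullback b a) :=
  isQC_of_iso (pullbackSymmetry a b) h

/-- Covers of both factors cover a fibre product. -/
theorem cov_pullbackMap {A B : Sh J} (a : A ⟶ Y) (b : B ⟶ Y) {ι : Type*} {κ : Type*} {F : ι → Sh J}
    {G : κ → Sh J} {π : ∀ i, F i ⟶ A} {ρ : ∀ k, G k ⟶ B} (hπ : Cov π) (hρ : Cov ρ) :
    Cov (fun p : ι × κ => pullback.map (π p.1 ≫ a) (ρ p.2 ≫ b) a b (π p.1) (ρ p.2) (𝟙 Y)
      (Category.comp_id _) (Category.comp_id _)) := by
  choose m n hm hn e using fun (i : ι) (k : κ) => exists_pullbackMap_fac (π i) (ρ k) a b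
  intro U y
  let P := pullback a b
  refine J.transitive ((hρ) ((pullback.snd a b).hom.app (op U) y)) _ ?_
  rintro V g ⟨k, z, hz⟩
  rw [pullback_imgSieve]
  have hsq := ((IsPullback.of_hasPullback a b).map (sheafToPresheaf J (Type u))).map
    ((evaluation Cᵒᵖ (Type u)).obj (op V))
  have hy₁ := (NatTrans.naturality_apply (pullback.fst a b).hom g.op y)
  refine J.superset_covering ?_ (hπ ((pullback.fst a b).hom.app (op V) ((pullback a b).obj.map g.op y)))
  rintro W h ⟨i, x, hx⟩
  have hsqW := ((IsPullback.of_hasPullback (π i ≫ a) (ρ k ≫ b)).map (sheafToPresheaf J (Type u))).map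
    ((evaluation Cᵒᵖ (Type u)).obj (op W))
  have hz' : (ρ k).hom.app (op W) ((G k).obj.map h.op z) =
      (pullback.snd a b).hom.app (op W) ((pullback a b).obj.map h.op ((pullback a b).obj.map g.op y)) := by
    rw [NatTrans.naturality_apply, hz, NatTrans.naturality_apply, NatTrans.naturality_apply]
  have hx' : (π i).hom.app (op W) x =
      (pullback.fst a b).hom.app (op W) ((pullback a b).obj.map h.op ((pullback a b).obj.map g.op y)) := by
    simp only [hx, NatTrans.naturality_apply]
  have hw := congrArg (fun q : pullback a b ⟶ Y => q.hom.app (op W)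
    ((pullback a b).obj.map h.op ((pullback a b).obj.map g.op y))) (pullback.condition (f := a) (g := b))
  have heq : (π i ≫ a).hom.app (op W) x = (ρ k ≫ b).hom.app (op W) ((G k).obj.map h.op z) := by
    show a.hom.app (op W) ((π i).hom.app (op W) x) = b.hom.app (op W) ((ρ k).hom.app (op W) _)
    rw [hx', hz']
    exact hw
  obtain ⟨w, hw₁, hw₂⟩ := Types.exists_of_isPullback hsqW x ((G k).obj.map h.op z) heq
  refine ⟨(i, k), w, ?_⟩
  have hinj := ((Types.isPullback_iff _ _ _ _).1 (((IsPullback.of_hasPullback a b).map (sheafToPresheaf J (Type u))).map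
    ((evaluation Cᵒᵖ (Type u)).obj (op W)))).2.1
  refine hinj _ _ ⟨?_, ?_⟩
  · refine Eq.trans ?_ hx'
    refine Eq.trans ?_ (congrArg ((π i).hom.app (op W)) hw₁)
    exact congrArg (fun q : pullback (π i ≫ a) (ρ k ≫ b) ⟶ A => q.hom.app (op W) w)
      (pullback.lift_fst _ _ _)
  · refine Eq.trans ?_ hz'
    refine Eq.trans ?_ (congrArg ((ρ k).hom.app (op W)) hw₂)
    exact congrArg (fun q : pullback (π i ≫ a) (ρ k ≫ b) ⟶ B => q.hom.app (op W) w)
      (pullback.lift_snd _ _ _)

/-- Quasi-separatedness can be checked on test objects lifting to a cover. -/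
theorem isQS_of_cov {P : Sh J → Prop} (hgen : Gen P) {ι : Type u} {Yi : ι → Sh J} {g : ∀ i, Yi i ⟶ Y} (hg : Cov g)
    (h : ∀ (A B : Sh J) (i j : ι) (a : A ⟶ Yi i) (b : B ⟶ Yi j), P A → P B →
      IsQC (pullback (a ≫ g i) (b ≫ g j))) : IsQS Y := by
  intro A B a b hA hB
  obtain ⟨κ, hκ, K, i, t, hK, hcK⟩ := exists_finite_gen hgen hA (hg.pullback_snd a)
  obtain ⟨σ, hσ, L, j, s, hL, hcL⟩ := exists_finite_gen hgen hB (hg.pullback_snd b)
  refine isQC_of_finite_cov (κ := κ × σ) _ _ (cov_pullbackMap a b hcK hcL) fun p => ?_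
  have ha : (t p.1 ≫ pullback.snd (g (i p.1)) a) ≫ a = (t p.1 ≫ pullback.fst (g (i p.1)) a) ≫ g (i p.1) := by
    rw [Category.assoc, Category.assoc, pullback.condition]
  have hb : (s p.2 ≫ pullback.snd (g (j p.2)) b) ≫ b = (s p.2 ≫ pullback.fst (g (j p.2)) b) ≫ g (j p.2) := by
    rw [Category.assoc, Category.assoc, pullback.condition]
  exact isQC_of_iso (pullback.congrHom ha hb).symm (h _ _ _ _ _ _ (hK _) (hL _))

theorem isQC_pullback_comp {A M : Sh J} {i : M ⟶ Y} {a : A ⟶ M} {b : X ⟶ Y}
    (h : IsQC (pullback a (pullback.fst i b))) : IsQC (pullback (a ≫ i) b) :=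
  isQC_of_iso (((IsPullback.of_hasPullback a (pullback.fst i b)).flip.paste_horiz
    (IsPullback.of_hasPullback i b).flip).flip.isoPullback) h

theorem isQS_of_isQS_of_isQCHom (hE : Gen (J := J) IsQC) {ι : Type u} (Yi : ι → Sh J) (g : ∀ i, Yi i ⟶ Y)
    (hg : Cov g) (hqs : ∀ i, IsQS (Yi i)) (hqc : ∀ i, IsQCHom (g i)) : IsQS Y :=
  isQS_of_cov hE hg fun A B i j a b hA hB =>
    isQC_pullback_comp (hqs i A _ a _ hA (hqc i B (b ≫ g j) hB))

theorem isQS_of_pairwise (hE : Gen (J := J) IsQC) {ι : Type u} (Yi : ι → Sh J) (g : ∀ i, Yi i ⟶ Y)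
    (hg : Cov g) (hqs : ∀ i, IsQS (Yi i)) (hpair : ∀ i j, IsQC (pullback (g i) (g j))) : IsQS Y :=
  isQS_of_cov hE hg fun A B i j a b hA hB => by
    refine isQC_pullback_comp (hqs i A _ a _ hA ?_)
    exact isQC_pullback_symm (isQC_pullback_comp
      (hqs j B _ b _ hB (isQC_pullback_symm (hpair i j))))

theorem isQS_of_generators {P : Sh J → Prop} (hgen : Gen P)
    (h : ∀ (K : Sh J) (s : K ⟶ Y), P K → IsQCHom s) : IsQS Y := by
  intro A B a b hA hB
  obtain ⟨κ, hκ, K, i, t, hK, hcov⟩ := exists_finite_gen hgen hA (cov_self.{u} A)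
  refine isQC_pullback_symm (isQC_pullback_of_cov b a K _ hcov fun k => ?_)
  exact isQC_pullback_symm (h _ _ (hK k) B b hB)

theorem isPullback_relative_map (f : X ⟶ Y) {A B : Sh J} (a : A ⟶ X) (b : B ⟶ X) :
    IsPullback (pullback.fst a b ≫ a)
      (pullback.lift (pullback.fst a b) (pullback.snd a b) (by rw [pullback.condition_assoc]) :
        pullback a b ⟶ pullback (a ≫ f) (b ≫ f))
      (pullback.diagonal f) (pullback.map (a ≫ f) (b ≫ f) f f a b (𝟙 Y) (Category.comp_id _) (Category.comp_id _)) :=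
  isPullback_relative f a b

/-- The test for quasi-separatedness of a morphism on a cover of the source. -/
theorem isQSHom_of_cov_source (hE : Gen (J := J) IsQC) (f : X ⟶ Y) {ι : Type u} {Xi : ι → Sh J}
    {g : ∀ i, Xi i ⟶ X} (hg : Cov g)
    (h : ∀ (i j : ι) (q : pullback (g i) (g j) ⟶ pullback (g i ≫ f) (g j ≫ f)),
      q ≫ pullback.fst _ _ = pullback.fst _ _ → q ≫ pullback.snd _ _ = pullback.snd _ _ →
      ∀ (K : Sh J) (t : K ⟶ pullback (g i ≫ f) (g j ≫ f)), IsQC K → IsQC (pullback q t)) : IsQSHom f := by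
  intro W s hW
  have hc := cov_pullbackMap f f hg hg
  obtain ⟨κ, hκ, K, ij, t, hK, hcov⟩ := exists_finite_gen hE hW (hc.pullback_snd s)
  refine isQC_pullback_of_cov _ s K _ hcov fun k => ?_
  let i := (ij k).1
  let j := (ij k).2
  let q : pullback (g i) (g j) ⟶ pullback (g i ≫ f) (g j ≫ f) :=
    pullback.lift (pullback.fst _ _) (pullback.snd _ _) (by rw [pullback.condition_assoc])
  have sq := isPullback_relative_map f (g i) (g j)
  have hw : (t k ≫ pullback.fst (pullback.map (g i ≫ f) (g j ≫ f) f f (g i) (g j) (𝟙 Y)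
        (Category.comp_id _) (Category.comp_id _)) s) ≫ pullback.map (g i ≫ f) (g j ≫ f) f f (g i) (g j) (𝟙 Y)
        (Category.comp_id _) (Category.comp_id _) =
      (t k ≫ pullback.snd _ s) ≫ s := by
    rw [Category.assoc, Category.assoc, pullback.condition]
  have sq' := (IsPullback.of_hasPullback q (t k ≫ pullback.fst _ s)).paste_horiz sq
  rw [hw] at sq'
  exact isQC_of_iso sq'.isoPullback
    (h i j q (pullback.lift_fst _ _ _) (pullback.lift_snd _ _ _) _ _ (hK k))

theorem isQSHom_of_qs_products (hE : Gen (J := J) IsQC) (f : X ⟶ Y) {ι : Type u} {Xi : ι → Sh J}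
    {g : ∀ i, Xi i ⟶ X} (hg : Cov g) (hqc : ∀ i, IsQC (Xi i))
    (hqs : ∀ i j, IsQS (pullback (g i ≫ f) (g j ≫ f))) (hX : IsQS X) : IsQSHom f :=
  isQSHom_of_cov_source hE f hg fun i j q _ _ K t hK =>
    hqs i j _ _ q t (hX _ _ _ _ (hqc i) (hqc j)) hK

theorem isQSHom_of_cover_of_source (hE : Gen (J := J) IsQC) (g : Y ⟶ Z) {ι : Type u} {Xi : ι → Sh J}
    {f : ∀ i, Xi i ⟶ Y} (hf : Cov f) (hfqc : ∀ i, IsQCHom (f i)) (hqs : ∀ i, IsQSHom (f i ≫ g)) : IsQSHom g :=
  isQSHom_of_cov_source hE g hf fun i j q hq _ K t hK => by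
    refine IsQCHom.of_isPullback ?_ (IsPullback.of_hasPullback q t) hK
    refine isQCHom_of_comp ?_ (isQSHom_pullback_fst (hqs j) (f i ≫ g))
    rw [hq]
    exact isQCHom_pullback_fst (hfqc j) (f i)

section Coproduct

variable {ι : Type u} {F : ι → Sh J} {π : ∀ i, F i ⟶ X}

theorem IsPartition.isQS (h : IsPartition π) (hF : ∀ i, IsQS (F i)) : IsQS X := by
  intro A B a b hA hB
  have hp := h.baseChange (pullback.fst a b ≫ a) fun i =>
    (IsPullback.of_hasPullback (π i) (pullback.fst a b ≫ a)).flip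
  refine isQC_of_partition hp (fun i => ?_) ?_
  · have := h.mono i
    let w : pullback (π i) (pullback.fst a b ≫ a) ⟶ pullback (pullback.fst (π i) a) (pullback.fst (π i) b) :=
      pullback.lift
        (pullback.lift (pullback.fst _ _) (pullback.snd _ _ ≫ pullback.fst a b) (by simp [pullback.condition]))
        (pullback.lift (pullback.fst _ _) (pullback.snd _ _ ≫ pullback.snd a b) (by simp [pullback.condition]))
        (by simp)
    have : IsIso w := by
      refine ⟨pullback.lift (pullback.fst _ _ ≫ pullback.fst (π i) a)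
        (pullback.lift (pullback.fst _ _ ≫ pullback.snd (π i) a) (pullback.snd _ _ ≫ pullback.snd (π i) b) ?_) ?_,
        ?_, ?_⟩
      · rw [Category.assoc, Category.assoc, ← pullback.condition, ← pullback.condition, pullback.condition_assoc]
      · simp [pullback.condition]
      · apply pullback.hom_ext
        · simp [w]
        · apply pullback.hom_ext <;> simp [w]
      · apply pullback.hom_ext
        · apply pullback.hom_ext <;> simp [w]
        · apply pullback.hom_ext <;> simp [w, pullback.condition]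
    exact isQC_of_iso (asIso w).symm
      (hF i _ _ _ _ ((h.baseChange a fun j => (IsPullback.of_hasPullback (π j) a).flip).isQC_piece hA i)
        ((h.baseChange b fun j => (IsPullback.of_hasPullback (π j) b).flip).isQC_piece hB i))
  · refine ((h.baseChange a fun j => (IsPullback.of_hasPullback (π j) a).flip).finite_nonNull hA).subset ?_
    intro i hi hn
    exact hi (hn.of_hom (pullback.map _ _ _ _ (𝟙 _) (pullback.fst a b) (𝟙 _) (by simp) (by simp)))

theorem IsPartition.isQS_iff (h : IsPartition π) : IsQS X ↔ ∀ i, IsQS (F i) :=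
  ⟨fun hX i => haveI := h.mono i; isQS_of_isQSHom (isQSHom_of_mono (π i)) hX, h.isQS⟩

theorem IsPartition.isQSHom_iff (h : IsPartition π) (f : X ⟶ Y) :
    IsQSHom f ↔ ∀ i, IsQSHom (π i ≫ f) := by
  refine ⟨fun hf i => haveI := h.mono i; isQSHom_comp (isQSHom_of_mono _) hf, fun hf => ?_⟩
  intro W s hW
  let a := s ≫ pullback.fst f f
  let b := s ≫ pullback.snd f f
  have hp := h.baseChange a fun j => (IsPullback.of_hasPullback (π j) a).flip
  obtain ⟨u₁, hu₁⟩ := isQC_iff.1 hW _ _ _ hp.cov
  have hq := fun i => h.baseChange (pullback.snd (π i) a ≫ b) fun j =>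
    (IsPullback.of_hasPullback (π j) (pullback.snd (π i) a ≫ b)).flip
  choose u₂ hu₂ using fun i : u₁ => isQC_iff.1 (hp.isQC_piece hW i) _ _ _ (hq i).cov
  refine isQC_pullback_of_cov _ s _ _ (hu₁.comp hu₂) ?_
  rintro ⟨⟨i, hi⟩, ⟨j, hj⟩⟩
  let K := pullback (π j) (pullback.snd (π i) a ≫ b)
  let e : K ⟶ pullback f f := (pullback.snd (π j) (pullback.snd (π i) a ≫ b) ≫ pullback.snd (π i) a) ≫ s
  by_cases hij : i = j
  · subst hij
    let t : K ⟶ pullback (π i ≫ f) (π i ≫ f) := pullback.lift
      (pullback.snd _ _ ≫ pullback.fst (π i) a) (pullback.fst _ _)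
      (by simp [a, b, pullback.condition_assoc, pullback.condition])
    have hc : IsQCHom (comparison (π i) f) := by
      haveI := h.mono i
      have := hf i
      unfold IsQSHom at this
      rw [← diagonal_comparison] at this
      exact (isQCHom_iff_of_iso (asIso (pullback.diagonal (π i))) _).1 this
    have he : t ≫ squareMap (π i) f = e := by
      apply pullback.hom_ext <;> simp [t, e, squareMap, a, b, pullback.condition]
    have sq := (IsPullback.of_hasPullback (comparison (π i) f) t).paste_horiz (isPullback_comparison (π i) f)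
    rw [he] at sq
    exact isQC_of_iso sq.isoPullback (hc _ t (hq i |>.isQC_piece (hp.isQC_piece hW i) i))
  · refine IsNullObj.isQC fun U z => ?_
    let p₁ : pullback (pullback.diagonal f) e ⟶ F i :=
      pullback.snd _ _ ≫ pullback.snd _ _ ≫ pullback.fst (π i) a
    let p₂ : pullback (pullback.diagonal f) e ⟶ F j := pullback.snd _ _ ≫ pullback.fst _ _
    refine h.disj hij (p₁.hom.app _ z) (p₂.hom.app _ z) ?_
    have hw : p₁ ≫ π i = p₂ ≫ π j := by
      have h₁ := congrArg (· ≫ pullback.fst f f) (pullback.condition (f := pullback.diagonal f) (g := e))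
      have h₂ := congrArg (· ≫ pullback.snd f f) (pullback.condition (f := pullback.diagonal f) (g := e))
      simp [e] at h₁ h₂
      simp [p₁, p₂, e, a, b, pullback.condition]
      exact h₁.symm.trans h₂
    exact congrArg (fun q : pullback (pullback.diagonal f) e ⟶ X => q.hom.app (op U) z) hw

end Coproduct

theorem exists_partition_reindex {n : ℕ} (F : Fin n → Sh J) {c : Cofan F} (hc : IsColimit c) :
    IsPartition (fun k : ULift.{u} (Fin n) => c.inj k.down) :=
  isPartition_of_isColimit (fun k : ULift.{u} (Fin n) => F k.down)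
    (c := Cofan.mk c.pt fun k => c.inj k.down)
    (Cofan.IsColimit.mk _ (fun s => Cofan.IsColimit.desc hc fun i => s.inj ⟨i⟩)
      (fun s k => Cofan.IsColimit.fac hc _ k.down)
      fun s m hm => Cofan.IsColimit.hom_ext hc _ _ fun i => (hm ⟨i⟩).trans (Cofan.IsColimit.fac hc (fun i => s.inj ⟨i⟩) i).symm)

end Groth.Agent.ToposFinLib
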