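import Groth.Agent.ToposFinLib.GiraudAxioms

/-!
# Giraud's theorem: the equivalence with sheaves on a generating site
-/

set_option autoImplicit false
set_option backward.isDefEq.respectTransparency false
set_option linter.unusedVariables false
set_option linter.style.haveILetI false

universe w w' v u

open CategoryTheory CategoryTheory.Limits Opposite Groth.Agent.ToposFinLib

namespace Groth.Agent.GiraudLib

variable {E : Type v} [Category.{u} E] [HasFiniteLimits E]
  (hb : SGA4.HasDisjointUniversalCoproducts.{v, u} E)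
  (hc : ∀ (R A : E) (p₁ p₂ : R ⟶ A), SGA4.IsEquivRel p₁ p₂ → SGA4.IsEffectiveUniversalEquivRel p₁ p₂)
  {C : Type u} [SmallCategory C] (i : C ⥤ E) [i.Full] [i.Faithful] (hdet : Detects i)

/-- The arrows of a sieve as a family in `E`. -/
def sieveFamily {c : C} (S : Sieve c) : ∀ a : (Σ d, {g : d ⟶ c // S.arrows g}), i.obj a.1 ⟶ i.obj c :=
  fun a => i.map a.2.1

/-- The topology induced on the generators. -/
def topology : GrothendieckTopology C where
  sieves c := {S | Covering (sieveFamily i S)}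
  top_mem' c := fun M m _ hm => by
    obtain ⟨k, hk⟩ := hm ⟨c, ⟨𝟙 c, trivial⟩⟩
    have hk' : k ≫ m = 𝟙 _ := hk.trans (i.map_id c)
    exact ⟨k, by rw [← cancel_mono m, Category.assoc, hk', Category.comp_id, Category.id_comp], hk'⟩
  pullback_stable' c c' S g hS := by
    refine (Covering.comp (Covering.pullback_snd hb hc hS (i.map g))
      (g := fun a => genFamily i _) fun a => covering_gen hdet _).refine ?_
    rintro ⟨⟨d, a, ha⟩, d', e⟩
    refine ⟨⟨d', i.preimage (e ≫ pullback.snd _ _), ?_⟩, 𝟙 _, ?_⟩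
    · show S.arrows (i.preimage (e ≫ pullback.snd _ _) ≫ g)
      have : i.preimage (e ≫ pullback.snd (i.map a) (i.map g)) ≫ g =
          i.preimage (e ≫ pullback.fst (i.map a) (i.map g)) ≫ a := i.map_injective (by
        rw [i.map_comp, i.map_comp, i.map_preimage, i.map_preimage, Category.assoc, Category.assoc,
          pullback.condition])
      exact this ▸ S.downward_closed ha _
    · exact (Category.id_comp _).trans (i.map_preimage _)
  transitive' c S hS R hR := by
    refine (Covering.comp hS (g := fun a => sieveFamily i (R.pullback a.2.1)) fun a => hR a.2.2).refine ?_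
    rintro ⟨⟨d, a, ha⟩, d', b, hb'⟩
    exact ⟨⟨d', b ≫ a, hb'⟩, 𝟙 _, (Category.id_comp _).trans (i.map_comp b a)⟩

include hb hc hdet in
theorem isSheaf_yoneda (X : E) : Presheaf.IsSheaf (topology hb hc i hdet) (i.op ⋙ yoneda.obj X) := by
  rw [isSheaf_iff_isSheaf_of_type]
  intro c S hS x hx
  obtain ⟨l, hl⟩ := Covering.exists_desc hb hc hdet (f := sieveFamily i S) hS (fun a => x a.2.1 a.2.2)
    fun d a a' p q e => by
      have e' : i.preimage p ≫ a.2.1 = i.preimage q ≫ a'.2.1 := i.map_injective (by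
        rw [i.map_comp, i.map_comp, i.map_preimage, i.map_preimage]
        exact e)
      have := hx (i.preimage p) (i.preimage q) a.2.2 a'.2.2 e'
      change i.map (i.preimage p) ≫ _ = i.map (i.preimage q) ≫ _ at this
      rwa [i.map_preimage, i.map_preimage] at this
  exact ⟨l, fun d g hg => hl ⟨d, g, hg⟩, fun l' hl' => Covering.hom_ext (f := sieveFamily i S) hS fun a =>
    (hl' a.2.1 a.2.2).trans (hl a).symm⟩

/-- The restricted Yoneda embedding. -/
def toSheaves : E ⥤ Sheaf (topology hb hc i hdet) (Type u) where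
  obj X := ⟨i.op ⋙ yoneda.obj X, isSheaf_yoneda hb hc i hdet X⟩
  map f := ⟨Functor.whiskerLeft i.op (yoneda.map f)⟩
  map_id X := by
    apply CategoryTheory.Sheaf.hom_ext
    ext c x
    exact Category.comp_id x
  map_comp f g := by
    apply CategoryTheory.Sheaf.hom_ext
    ext c x
    exact (Category.assoc x f g).symm

local notation "H" => toSheaves hb hc i hdet

/-- Sections as morphisms out of representables. -/
noncomputable def elt {F : Sheaf (topology hb hc i hdet) (Type u)} {c : C} (x : F.obj.obj (op c)) :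
    (H).obj (i.obj c) ⟶ F :=
  ⟨{ app := fun d => TypeCat.ofHom fun (a : i.obj d.unop ⟶ i.obj c) => F.obj.map (i.preimage a).op x
     naturality := fun d d' g => by
       ext (a : i.obj d.unop ⟶ i.obj c)
       show F.obj.map (i.preimage (i.map g.unop ≫ a)).op x = F.obj.map g (F.obj.map (i.preimage a).op x)
       rw [show i.preimage (i.map g.unop ≫ a) = g.unop ≫ i.preimage a from i.map_injective (by simp),
         op_comp, Functor.map_comp_apply]
       rfl }⟩

lemma elt_app_id {F : Sheaf (topology hb hc i hdet) (Type u)} {c : C} (x : F.obj.obj (op c)) :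
    (elt hb hc i hdet x).hom.app (op c) (𝟙 (i.obj c)) = x := by
  show F.obj.map (i.preimage (𝟙 (i.obj c))).op x = x
  simp

lemma elt_ext {F : Sheaf (topology hb hc i hdet) (Type u)} {c : C} (α β : (H).obj (i.obj c) ⟶ F)
    (h : α.hom.app (op c) (𝟙 (i.obj c)) = β.hom.app (op c) (𝟙 (i.obj c))) : α = β := by
  apply CategoryTheory.Sheaf.hom_ext
  ext d a
  have e : a = ((H).obj (i.obj c)).obj.map (i.preimage (X := d.unop) (Y := c) a).op (𝟙 (i.obj c)) := by
    show a = i.map (i.preimage (X := d.unop) (Y := c) a) ≫ 𝟙 (i.obj c)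
    rw [Category.comp_id, i.map_preimage]
  rw [e]
  exact (NatTrans.naturality_apply α.hom _ _).trans
    ((congrArg (F.obj.map _) h).trans (NatTrans.naturality_apply β.hom _ _).symm)

theorem cov_map {ι : Type u} {X : ι → E} {Y : E} {f : ∀ j, X j ⟶ Y} (h : Covering f) :
    Cov (fun j => (H).map (f j)) := fun U y => by
  show Covering (sieveFamily i _)
  refine (Covering.comp (Covering.pullback_snd hb hc h (y : i.obj U ⟶ Y))
    (g := fun j => genFamily i _) fun j => covering_gen hdet _).refine ?_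
  rintro ⟨j, d, e⟩
  refine ⟨⟨d, i.preimage (e ≫ pullback.snd _ _), j, e ≫ pullback.fst _ _, ?_⟩, 𝟙 _, ?_⟩
  · show (e ≫ pullback.fst _ _) ≫ f j = i.map (i.preimage (e ≫ pullback.snd (f j) y)) ≫ y
    rw [i.map_preimage, Category.assoc, Category.assoc, pullback.condition]
  · exact (Category.id_comp _).trans (i.map_preimage _)

theorem faithful_toSheaves : (H).Faithful := ⟨fun {X Y} f g e =>
  (covering_gen hdet X).hom_ext fun ⟨c, x⟩ =>
    congrArg (fun α : (H).obj X ⟶ (H).obj Y => α.hom.app (op c) x) e⟩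

theorem full_toSheaves : (H).Full := ⟨fun {X Y} α => by
  obtain ⟨l, hl⟩ := Covering.exists_desc hb hc hdet (covering_gen hdet X)
    (fun a => (α.hom.app (op a.1) a.2 : i.obj a.1 ⟶ Y)) fun d a a' p q e => by
      have h₁ := NatTrans.naturality_apply α.hom (i.preimage p).op a.2
      have h₂ := NatTrans.naturality_apply α.hom (i.preimage q).op a'.2
      change α.hom.app (op d) (i.map (i.preimage p) ≫ a.2) = i.map (i.preimage p) ≫ _ at h₁
      change α.hom.app (op d) (i.map (i.preimage q) ≫ a'.2) = i.map (i.preimage q) ≫ _ at h₂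
      simp only [i.map_preimage] at h₁ h₂
      exact h₁.symm.trans ((congrArg (α.hom.app (op d)) e).trans h₂)
  refine ⟨l, ?_⟩
  apply CategoryTheory.Sheaf.hom_ext
  ext c x
  exact hl ⟨c.unop, x⟩⟩

theorem mono_map {X Y : E} (f : X ⟶ Y) [Mono f] : Mono ((H).map f) := ⟨fun {T} a b e => by
  apply CategoryTheory.Sheaf.hom_ext
  ext c x
  exact (cancel_mono f).1 (congrArg (fun α : T ⟶ (H).obj Y => α.hom.app c x) e)⟩

theorem isPartition_inj {ι : Type u} {X : ι → E} {c : Cofan X} (hcol : IsColimit c) [CoproductDisjoint X] :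
    IsPartition (fun j => (H).map (c.inj j)) where
  cov := cov_map hb hc i hdet (covering_of_isColimit hcol)
  mono j := by
    haveI := Mono.of_coproductDisjoint hcol j
    exact mono_map hb hc i hdet _
  disj j k hjk U z z' e := by
    show Covering (sieveFamily i ⊥)
    exact (covering_empty_of_disjoint hb hc hcol hjk z z' e (Z := fun _ => i.obj U) fun x => x.elim).refine
      fun x => x.elim

theorem exists_repr_sub {X : E} {S : Sheaf (topology hb hc i hdet) (Type u)} (s : S ⟶ (H).obj X) [Mono s] :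
    ∃ (R : E) (m : R ⟶ X) (e : S ≅ (H).obj R), Mono m ∧ e.hom ≫ (H).map m = s := by
  obtain ⟨c, hcol, -, -⟩ := hb (Σ d : C, S.obj.obj (op d)) fun k => i.obj k.1
  obtain ⟨R, g, m, hm, hcov, hfac⟩ := exists_image_family hc hcol fun k => (s.hom.app (op k.1) k.2 : i.obj k.1 ⟶ X)
  let t : S ⟶ (H).obj R :=
    ⟨{ app := fun d => TypeCat.ofHom fun x => g ⟨d.unop, x⟩
       naturality := fun d d' a => by
         ext x
         show g ⟨d'.unop, S.obj.map a x⟩ = i.map a.unop ≫ g ⟨d.unop, x⟩
         rw [← cancel_mono m, hfac, Category.assoc, hfac]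
         exact NatTrans.naturality_apply s.hom a x }⟩
  have ht : t ≫ (H).map m = s := by
    apply CategoryTheory.Sheaf.hom_ext
    ext d x
    exact hfac ⟨d.unop, x⟩
  haveI : Mono t := mono_of_mono_fac ht
  haveI : Epi t := epi_of_cov.{0} ((cov_map hb hc i hdet hcov).refine fun k => ⟨PUnit.unit, elt hb hc i hdet k.2,
    elt_ext hb hc i hdet _ _ (by
      show g ⟨k.1, (elt hb hc i hdet k.2).hom.app (op k.1) (𝟙 _)⟩ = 𝟙 _ ≫ g k
      rw [Category.id_comp]
      rw [← cancel_mono m, hfac, hfac]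
      exact congrArg (s.hom.app (op k.1)) (elt_app_id hb hc i hdet k.2))⟩)
  haveI : IsIso t := isIso_of_mono_of_epi t
  exact ⟨R, m, asIso t, hm, ht⟩

theorem essSurj_toSheaves : (H).EssSurj := ⟨fun F => by
  haveI := faithful_toSheaves hb hc i hdet
  haveI := full_toSheaves hb hc i hdet
  obtain ⟨c, hcol, hdisj, -⟩ := hb (Σ d : C, F.obj.obj (op d)) fun k => i.obj k.1
  obtain ⟨hP⟩ := (isPartition_inj hb hc i hdet hcol).nonempty_isColimit
  let ψ : (H).obj c.pt ⟶ F := Cofan.IsColimit.desc hP fun k => elt hb hc i hdet k.2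
  have hψ : ∀ k, (H).map (c.inj k) ≫ ψ = elt hb hc i hdet k.2 := fun k => Cofan.IsColimit.fac hP _ k
  have hψx : ∀ (d : C) (x : F.obj.obj (op d)), ψ.hom.app (op d) (c.inj ⟨d, x⟩) = x := fun d x => by
    have := congrArg (fun α : (H).obj (i.obj d) ⟶ F => α.hom.app (op d) (𝟙 _)) (hψ ⟨d, x⟩)
    refine Eq.trans ?_ (this.trans (elt_app_id hb hc i hdet x))
    show _ = ψ.hom.app (op d) (𝟙 _ ≫ c.inj ⟨d, x⟩)
    rw [Category.id_comp]
  let a₁ := (H).map (prod.fst : c.pt ⨯ c.pt ⟶ c.pt) ≫ ψ
  let a₂ := (H).map (prod.snd : c.pt ⨯ c.pt ⟶ c.pt) ≫ ψ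
  obtain ⟨R, m, e, hm, he⟩ := exists_repr_sub hb hc i hdet (equalizer.ι a₁ a₂)
  have hrel : ∀ (T : E) (a b : T ⟶ c.pt),
      (∃ l : T ⟶ R, l ≫ m ≫ prod.fst = a ∧ l ≫ m ≫ prod.snd = b) ↔ (H).map a ≫ ψ = (H).map b ≫ ψ := by
    intro T a b
    constructor
    · rintro ⟨l, rfl, rfl⟩
      have : (H).map m ≫ a₁ = (H).map m ≫ a₂ := by
        rw [← cancel_epi e.hom, reassoc_of% he, reassoc_of% he, equalizer.condition]
      simpa [a₁, a₂] using congrArg ((H).map l ≫ ·) this
    · intro hab
      have hl : (H).map (prod.lift a b) ≫ a₁ = (H).map (prod.lift a b) ≫ a₂ := by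
        simp only [a₁, a₂, ← Functor.map_comp_assoc, prod.lift_fst, prod.lift_snd]
        exact hab
      obtain ⟨l, hl'⟩ := (H).map_surjective (equalizer.lift _ hl ≫ e.hom)
      have : l ≫ m = prod.lift a b := (H).map_injective (by
        rw [Functor.map_comp, hl', Category.assoc, he, equalizer.lift_ι])
      exact ⟨l, by rw [← Category.assoc, this, prod.lift_fst], by rw [← Category.assoc, this, prod.lift_snd]⟩
  have hR : SGA4.IsEquivRel (m ≫ prod.fst) (m ≫ prod.snd) := fun T =>
    ⟨fun a b hab => by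
      rw [← cancel_mono m]
      apply prod.hom_ext
      · simpa using congrArg Prod.fst hab
      · simpa using congrArg Prod.snd hab,
     ⟨fun a => (hrel T a a).2 rfl, fun {a b} h => (hrel T b a).2 ((hrel T a b).1 h).symm,
      fun {a b b'} h h' => (hrel T a b').2 (((hrel T a b).1 h).trans ((hrel T b b').1 h'))⟩⟩
  obtain ⟨B, π, hpb, -, hu⟩ := hc _ _ _ _ hR
  have key : ∀ (d : C) (a b : i.obj d ⟶ c.pt), ψ.hom.app (op d) a = ψ.hom.app (op d) b → a ≫ π = b ≫ π := by
    intro d a b hab
    obtain ⟨l, rfl, rfl⟩ := (hrel _ a b).2 (elt_ext hb hc i hdet _ _ (by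
      show ψ.hom.app (op d) (𝟙 _ ≫ a) = ψ.hom.app (op d) (𝟙 _ ≫ b)
      rw [Category.id_comp, Category.id_comp]
      exact hab))
    simpa only [Category.assoc] using congrArg (l ≫ ·) hpb.w
  haveI := hu B (𝟙 B)
  haveI : Epi ((H).map π) := by
    refine epi_of_cov.{0} ((cov_map hb hc i hdet
      (covering_single_of_effectiveEpi (pullback.snd π (𝟙 B)))).refine fun _ =>
      ⟨PUnit.unit, (H).map (pullback.fst π (𝟙 B)), ?_⟩)
    rw [← Functor.map_comp, pullback.condition, Category.comp_id]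
  let χ' : F ⟶ (H).obj B :=
    ⟨{ app := fun d => TypeCat.ofHom fun x => c.inj ⟨d.unop, x⟩ ≫ π
       naturality := fun d d' g => by
         ext x
         show c.inj ⟨d'.unop, F.obj.map g x⟩ ≫ π = i.map g.unop ≫ c.inj ⟨d.unop, x⟩ ≫ π
         rw [← Category.assoc]
         refine key _ _ _ ?_
         rw [hψx]
         exact ((NatTrans.naturality_apply ψ.hom g _).trans (congrArg (F.obj.map g) (hψx _ x))).symm }⟩
  have h₁ : ψ ≫ χ' = (H).map π := by
    apply CategoryTheory.Sheaf.hom_ext
    ext d a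
    exact key d.unop _ a (hψx _ _)
  have hw : (H).map (pullback.fst π π) ≫ ψ = (H).map (pullback.snd π π) ≫ ψ :=
    (hrel _ _ _).1 ⟨hpb.lift _ _ pullback.condition, hpb.lift_fst _ _ _, hpb.lift_snd _ _ _⟩
  have h₂ : ∀ (d : C) (a b : i.obj d ⟶ c.pt), a ≫ π = b ≫ π → ψ.hom.app (op d) a = ψ.hom.app (op d) b := by
    intro d a b hab
    have := congrArg (fun α : (H).obj (Limits.pullback π π) ⟶ F => α.hom.app (op d) (pullback.lift a b hab)) hw
    refine Eq.trans ?_ (this.trans ?_)
    · show ψ.hom.app (op d) a = ψ.hom.app (op d) (pullback.lift a b hab ≫ pullback.fst π π)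
      rw [pullback.lift_fst]
    · show ψ.hom.app (op d) (pullback.lift a b hab ≫ pullback.snd π π) = _
      rw [pullback.lift_snd]
  haveI : Mono χ' := ⟨fun {T} a b e => by
    apply CategoryTheory.Sheaf.hom_ext
    ext d z
    have e' : c.inj ⟨d.unop, a.hom.app d z⟩ ≫ π = c.inj ⟨d.unop, b.hom.app d z⟩ ≫ π :=
      congrArg (fun α : T ⟶ (H).obj B => α.hom.app d z) e
    exact (hψx _ _).symm.trans ((h₂ d.unop _ _ e').trans (hψx _ _))⟩
  haveI : Epi χ' := epi_of_epi_fac h₁
  haveI : IsIso χ' := isIso_of_mono_of_epi χ'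
  exact ⟨B, ⟨(asIso χ').symm⟩⟩⟩

include hb hc hdet in
theorem isEquivalence_toSheaves : (H).IsEquivalence :=
  haveI := faithful_toSheaves hb hc i hdet
  haveI := full_toSheaves hb hc i hdet
  haveI := essSurj_toSheaves hb hc i hdet
  { }

end Groth.Agent.GiraudLib

namespace Groth.Agent.GiraudLib

variable {E : Type v} [Category.{u} E] [HasFiniteLimits E]

/-- Giraud's theorem. -/
theorem isTopos_of_axioms (hb : SGA4.HasDisjointUniversalCoproducts.{v, u} E)
    (hc : ∀ (R A : E) (p₁ p₂ : R ⟶ A), SGA4.IsEquivRel p₁ p₂ → SGA4.IsEffectiveUniversalEquivRel p₁ p₂)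
    (hd : ∃ P : ObjectProperty E, ObjectProperty.Small.{u} P ∧ P.IsDetecting) : SGA4.IsTopos.{v, u} E := by
  obtain ⟨P, hP, hdet⟩ := hd
  haveI := hP
  let f : Shrink.{u} (Subtype P) → E := fun x => ((equivShrink (Subtype P)).symm x).1
  have hdet' : Detects (inducedFunctor f) := fun X Y m _ h => hdet m fun G hG g => by
    obtain ⟨x, rfl⟩ : ∃ x, f x = G := ⟨equivShrink _ ⟨G, hG⟩, by simp [f]⟩
    obtain ⟨k, hk⟩ := h x g
    exact ⟨k, hk, fun k' hk' => by rw [← cancel_mono m, hk', hk]⟩
  haveI := isEquivalence_toSheaves hb hc (inducedFunctor f) hdet'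
  exact ⟨InducedCategory E f, inferInstance, topology hb hc (inducedFunctor f) hdet',
    ⟨(toSheaves hb hc (inducedFunctor f) hdet').asEquivalence⟩⟩

end Groth.Agent.GiraudLib
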