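import Groth.Agent.ToposFinLib.CanonicalSheaf
import Mathlib.CategoryTheory.Sites.Continuous
import Mathlib.CategoryTheory.Adjunction.Basic
import Mathlib.CategoryTheory.Limits.Preserves.Opposites

/-!
# Cocontinuous functors between topoi
-/

set_option autoImplicit false
set_option backward.isDefEq.respectTransparency false
set_option linter.unusedVariables false
set_option linter.style.haveILetI false

universe w' w v u

open CategoryTheory CategoryTheory.Limits Opposite ToposFin

namespace Groth.Agent.ToposFinLib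

variable {C D : Type u} [SmallCategory C] [SmallCategory D] {J : GrothendieckTopology C} {K : GrothendieckTopology D}

section Represent

variable {G : (Sh J)ᵒᵖ ⥤ Type u}

/-- The restriction to representables. -/
noncomputable def sections (G : (Sh J)ᵒᵖ ⥤ Type u) : Cᵒᵖ ⥤ Type u where
  obj U := G.obj (op (eps J U.unop))
  map g := G.map (epsMap g.unop).op
  map_id U := by
    have e : epsMap (J := J) (𝟙 U.unop) = 𝟙 _ := eps_hom_ext (by rw [epsMap_gen]; simp)
    simp [e]
  map_comp {U V W} g g' := by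
    have e : epsMap (J := J) (g'.unop ≫ g.unop) = epsMap g'.unop ≫ epsMap g.unop := eps_hom_ext (by
      rw [epsMap_gen, op_comp, Functor.map_comp_apply]
      refine (Eq.trans ?_ (congrArg ((epsMap g.unop).hom.app _) (epsMap_gen g'.unop)).symm)
      rw [NatTrans.naturality_apply, epsMap_gen])
    simp [e]

theorem cov_sieve {U : C} {S : Sieve U} (hS : S ∈ J U) :
    Cov (fun a : (Σ V : C, {g : V ⟶ U // S.arrows g}) => epsMap (J := J) a.2.1) :=
  (cov_epsMap_iff (fun a : (Σ V : C, {g : V ⟶ U // S.arrows g}) => a.1) fun a => a.2.1).2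
    (J.superset_covering (fun V g hg =>
      Sieve.ofArrows_mk _ (fun a : (Σ V : C, {g : V ⟶ U // S.arrows g}) => a.2.1) ⟨V, g, hg⟩) hS)

theorem epsDesc_map {X : Sh J} {U V : C} (g : V ⟶ U) (z : X.obj.obj (op U)) :
    epsMap g ≫ epsDesc z = epsDesc (X.obj.map g.op z) := by
  apply eps_hom_ext
  refine Eq.trans ?_ (epsDesc_gen _).symm
  refine (congrArg ((epsDesc z).hom.app (op V)) (epsMap_gen g)).trans ?_
  rw [NatTrans.naturality_apply, epsDesc_gen]

theorem isSheaf_sections (h : Glue G) : Presieve.IsSheaf J (sections G) := by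
  intro U S hS x hx
  have hc := cov_sieve (J := J) hS
  obtain ⟨t, ht, hu⟩ := h _ hc (fun a => x a.2.1 a.2.2) fun i j Z gi gj hg => by
    refine h.separated (cov_all_eps Z) fun b => ?_
    obtain ⟨W, z⟩ := b
    obtain ⟨R, hR, hR'⟩ := eps_imageSieve (gi.hom.app (op W) z)
    obtain ⟨R', hR₁, hR₂⟩ := eps_imageSieve (gj.hom.app (op W) z)
    have hcR := cov_sieve (J := J) (J.intersection_covering hR hR₁)
    refine h.separated hcR fun a => ?_
    obtain ⟨V, g, hgR, hgR'⟩ := a
    obtain ⟨k, hk⟩ := hR' g hgR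
    obtain ⟨k', hk'⟩ := hR₂ g hgR'
    have e₁ : epsMap g ≫ epsDesc z ≫ gi = epsMap k := eps_hom_ext (by
      rw [epsMap_gen, hk, ← Category.assoc, epsDesc_map]
      refine (congrArg (gi.hom.app _) (epsDesc_gen _)).trans ?_
      exact NatTrans.naturality_apply _ _ _)
    have e₂ : epsMap g ≫ epsDesc z ≫ gj = epsMap k' := eps_hom_ext (by
      rw [epsMap_gen, hk', ← Category.assoc, epsDesc_map]
      refine (congrArg (gj.hom.app _) (epsDesc_gen _)).trans ?_
      exact NatTrans.naturality_apply _ _ _)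
    simp only [← Functor.map_comp_apply, ← op_comp, e₁, e₂]
    have h₁ := congrArg (fun r : eps J V ⟶ _ => r ≫ (epsMap (J := J) i.2.1)) e₁
    have heq : epsMap (J := J) k ≫ epsMap i.2.1 = epsMap k' ≫ epsMap j.2.1 := by
      rw [← e₁, ← e₂]; simp only [Category.assoc, hg]
    have hm : ∀ {A B E : C} (p : A ⟶ B) (q : E ⟶ A), epsMap (J := J) (q ≫ p) = epsMap q ≫ epsMap p :=
      fun p q => eps_hom_ext (by
        rw [epsMap_gen, op_comp, Functor.map_comp_apply]
        refine Eq.trans ?_ (congrArg ((epsMap p).hom.app _) (epsMap_gen q)).symm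
        rw [NatTrans.naturality_apply, epsMap_gen])
    rw [← hm, ← hm] at heq
    have heq' : (eps J U).obj.map (k ≫ i.2.1).op (epsGen J U) = (eps J U).obj.map (k' ≫ j.2.1).op (epsGen J U) := by
      have := congrArg (fun r : eps J V ⟶ eps J U => r.hom.app (op V) (epsGen J V)) heq
      simpa [epsMap_gen] using this
    obtain ⟨T, hT, hT'⟩ := eps_locally_eq _ _ heq'
    have hcT := cov_sieve (J := J) hT
    refine h.separated hcT fun b => ?_
    obtain ⟨W', c, hc⟩ := b
    exact (congrArg (G.map (epsMap c).op) rfl).trans ((Functor.map_comp_apply G _ _ _).symm.trans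
      ((congrArg (fun r => G.map r (x i.2.1 i.2.2)) rfl).trans (by
        have := hx (c ≫ k) (c ≫ k') i.2.2 j.2.2 (by simpa using hT' c hc)
        have hm : ∀ {A B : C} (p : A ⟶ B) (q : W' ⟶ A), epsMap (J := J) (q ≫ p) = epsMap q ≫ epsMap p :=
          fun p q => eps_hom_ext (by
            rw [epsMap_gen, op_comp, Functor.map_comp_apply]
            refine Eq.trans ?_ (congrArg ((epsMap p).hom.app _) (epsMap_gen q)).symm
            rw [NatTrans.naturality_apply, epsMap_gen])
        change G.map (epsMap (c ≫ k)).op _ = G.map (epsMap (c ≫ k')).op _ at this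
        rw [hm, hm] at this
        simpa using this)))
  exact ⟨t, fun V g hg => ht ⟨V, g, hg⟩, fun t' ht' => hu t' fun a => ht' _ a.2.2⟩

/-- The representing sheaf. -/
noncomputable def sectionsSh (h : Glue G) : Sh J := ⟨sections G, (isSheaf_iff_isSheaf_of_type _ _).2 (isSheaf_sections h)⟩

/-- Elements as morphisms into the representing sheaf. -/
noncomputable def toSections (h : Glue G) (X : Sh J) (x : G.obj (op X)) : X ⟶ sectionsSh h :=
  ⟨{ app := fun U => TypeCat.ofHom fun z => G.map (epsDesc (V := U.unop) z).op x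
     naturality := fun U V g => by
       ext z
       show G.map (epsDesc (X.obj.map g z)).op x = G.map (epsMap g.unop).op (G.map (epsDesc z).op x)
       rw [← Functor.map_comp_apply, ← op_comp, epsDesc_map]
       rfl }⟩

theorem bijective_toSections (h : Glue G) (X : Sh J) : Function.Bijective (toSections h X) := by
  refine ⟨fun x y e => h.separated (cov_all_eps X) fun a =>
    congrArg (fun r : X ⟶ sectionsSh h => r.hom.app (op a.1) a.2) e, fun f => ?_⟩
  obtain ⟨t, ht, -⟩ := h _ (cov_all_eps X) (fun a => f.hom.app (op a.1) a.2) fun i j Z gi gj hg => by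
    refine h.separated (cov_all_eps Z) fun b => ?_
    obtain ⟨W, z⟩ := b
    obtain ⟨R, hR, hR'⟩ := eps_imageSieve (gi.hom.app (op W) z)
    obtain ⟨R', hR₁, hR₂⟩ := eps_imageSieve (gj.hom.app (op W) z)
    have hcR := cov_sieve (J := J) (J.intersection_covering hR hR₁)
    refine h.separated hcR fun a => ?_
    obtain ⟨V, g, hgR, hgR'⟩ := a
    obtain ⟨k, hk⟩ := hR' g hgR
    obtain ⟨k', hk'⟩ := hR₂ g hgR'
    have e₁ : epsMap g ≫ epsDesc z ≫ gi = epsMap k := eps_hom_ext (by
      rw [epsMap_gen, hk, ← Category.assoc, epsDesc_map]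
      refine (congrArg (gi.hom.app _) (epsDesc_gen _)).trans ?_
      exact NatTrans.naturality_apply _ _ _)
    have e₂ : epsMap g ≫ epsDesc z ≫ gj = epsMap k' := eps_hom_ext (by
      rw [epsMap_gen, hk', ← Category.assoc, epsDesc_map]
      refine (congrArg (gj.hom.app _) (epsDesc_gen _)).trans ?_
      exact NatTrans.naturality_apply _ _ _)
    simp only [← Functor.map_comp_apply, ← op_comp, e₁, e₂]
    have heq : epsMap (J := J) k ≫ epsDesc i.2 = epsMap k' ≫ epsDesc j.2 := by
      rw [← e₁, ← e₂]; simp only [Category.assoc, hg]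
    rw [epsDesc_map, epsDesc_map] at heq
    have heq' := congrArg (fun r : eps J V ⟶ X => r.hom.app (op V) (epsGen J V)) heq
    simp only [epsDesc_gen] at heq'
    have h₁ := NatTrans.naturality_apply f.hom k.op i.2
    have h₂ := NatTrans.naturality_apply f.hom k'.op j.2
    exact h₁.symm.trans ((congrArg (f.hom.app (op V)) heq').trans h₂)
  refine ⟨t, ?_⟩
  apply CategoryTheory.Sheaf.hom_ext
  ext U z
  exact ht ⟨U.unop, z⟩

theorem toSections_natural (h : Glue G) {X X' : Sh J} (g : X' ⟶ X) (x : G.obj (op X)) :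
    g ≫ toSections h X x = toSections h X' (G.map g.op x) := by
  apply CategoryTheory.Sheaf.hom_ext
  ext U z
  show G.map (epsDesc (g.hom.app U z)).op x = G.map (epsDesc z).op (G.map g.op x)
  rw [← Functor.map_comp_apply, ← op_comp]
  congr 3
  apply congrArg Quiver.Hom.op
  apply eps_hom_ext
  refine (epsDesc_gen _).trans ?_
  exact (congrArg (g.hom.app U) (epsDesc_gen (V := U.unop) z)).symm

end Represent

variable (f : Sh J ⥤ Sh K)

theorem preservesColimits_of_homs (h : ∀ Y : Sh K, PresLim (f.op ⋙ yoneda.obj Y)) :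
    PreservesColimitsOfSize.{u, u} f :=
  ⟨fun {I} _ => ⟨fun {F} => ⟨fun {c} hc => by
    have hd : ∀ s : Cocone (F ⋙ f), ∃! t : f.obj c.pt ⟶ s.pt, ∀ i, f.map (c.ι.app i) ≫ t = s.ι.app i := fun s =>
      h s.pt F c hc (fun i => s.ι.app i) fun i j a => s.w a
    choose t ht hu using hd
    exact ⟨{ desc := t, fac := ht, uniq := fun s m hm => hu s m hm }⟩⟩⟩⟩

theorem isLeftAdjoint_of_preservesColimits [PreservesColimitsOfSize.{u, u} f] : f.IsLeftAdjoint := by
  have hG : ∀ Y : Sh K, Glue (f.op ⋙ yoneda.obj Y) := fun Y => by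
    haveI : PreservesLimitsOfSize.{u, u} f.op := preservesLimitsOfSize_op f
    exact glue_of_presLim (presLim_of_preservesLimits inferInstance)
  let e : ∀ X Y, (f.obj X ⟶ Y) ≃ (X ⟶ sectionsSh (hG Y)) := fun X Y =>
    Equiv.ofBijective _ (bijective_toSections (hG Y) X)
  exact ⟨_, ⟨Adjunction.adjunctionOfEquivRight e fun X' X Y g x => (toSections_natural (hG Y) g x).symm⟩⟩

theorem isSheaf_hom_of_lex (hf : SGA4.PreservesEpiFamilies.{u + 1, u + 1, u} f) [PreservesFiniteLimits f]
    (Y : Sh K) : Glue (f.op ⋙ yoneda.obj Y) := by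
  intro ι F X π hπ x hx
  have hc : Cov (fun i => f.map (π i)) :=
    cov_of_hom_ext fun Z a b e => hf ι X F π (fun Z a b e => hπ.hom_ext e) Z a b e
  obtain ⟨t, ht⟩ := hc.exists_desc (Z := Y) x fun i j => by
    have sq := (IsPullback.of_hasPullback (π i) (π j)).map f
    rw [← cancel_epi sq.isoPullback.hom, IsPullback.isoPullback_hom_fst_assoc,
      IsPullback.isoPullback_hom_snd_assoc]
    exact hx i j _ _ _ pullback.condition
  exact ⟨t, ht, fun t' ht' => hc.hom_ext fun i => (ht' i).trans (ht i).symm⟩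

theorem isLeftAdjoint_of_lex_preservesEpiFamilies (hf : SGA4.PreservesEpiFamilies.{u + 1, u + 1, u} f)
    [PreservesFiniteLimits f] : f.IsLeftAdjoint ∧ PreservesColimitsOfSize.{u, u} f := by
  haveI := preservesColimits_of_homs f fun Y => presLim_of_glue (isSheaf_hom_of_lex f hf Y)
  exact ⟨isLeftAdjoint_of_preservesColimits f, inferInstance⟩

theorem preservesColimits_iff_isContinuous :
    PreservesColimitsOfSize.{u, u} f ↔
      f.IsContinuous.{u} (Sheaf.canonicalTopology (Sh J)) (Sheaf.canonicalTopology (Sh K)) := by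
  constructor
  · intro hf
    refine ⟨fun G => ?_⟩
    haveI : PreservesLimitsOfSize.{u, u} f.op := preservesLimitsOfSize_op f
    haveI : PreservesLimitsOfSize.{u, u} G.obj :=
      isSheaf_iff_preservesLimits.1 ((isSheaf_iff_isSheaf_of_type _ _).1 G.property)
    exact isSheaf_iff_preservesLimits.2 inferInstance
  · intro hf
    refine preservesColimits_of_homs f fun Y => ?_
    refine presLim_of_glue (glue_of_isSheaf ?_)
    rw [← Presieve.isSheaf_comp_uliftFunctor_iff]
    have hY : Presieve.IsSheaf (Sheaf.canonicalTopology (Sh K)) (yoneda.obj Y ⋙ uliftFunctor.{u + 1}) := by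
      rw [Presieve.isSheaf_comp_uliftFunctor_iff]
      exact Sheaf.isSheaf_yoneda_obj Y
    exact hf.op_comp_isSheaf_of_types ⟨_, (isSheaf_iff_isSheaf_of_type _ _).2 hY⟩

end Groth.Agent.ToposFinLib
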