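import Groth.Agent.ToposFinLib.Decomp
import Groth.Agent.ShfCatLib.Exact
import Groth.Prelude.Def_SGA4a

/-!
# Giraud's axioms in a topos of sheaves
-/

set_option autoImplicit false
set_option backward.isDefEq.respectTransparency false
set_option linter.unusedVariables false

universe w v u

open CategoryTheory CategoryTheory.Limits Opposite ToposFin

namespace Groth.Agent.ToposFinLib

/-- Repackage an equivalence relation on generalized points. -/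
noncomputable def equivalenceRelationOfIsEquivRel {E : Type v} [Category.{u} E] [HasPullbacks E] {R A : E}
    {p₁ p₂ : R ⟶ A} (h : SGA4.IsEquivRel p₁ p₂) : EquivalenceRelation p₁ p₂ where
  right_cancellation T a b h₁ h₂ := (h T).1 (Prod.ext h₁ h₂)
  r := ((h A).2.refl (𝟙 A)).choose
  reflexivity₁ := ((h A).2.refl (𝟙 A)).choose_spec.1
  reflexivity₂ := ((h A).2.refl (𝟙 A)).choose_spec.2
  s := ((h R).2.symm (show ∃ f : R ⟶ R, f ≫ p₁ = p₁ ∧ f ≫ p₂ = p₂ from ⟨𝟙 R, Category.id_comp _, Category.id_comp _⟩)).choose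
  symmetry₁ := ((h R).2.symm (show ∃ f : R ⟶ R, f ≫ p₁ = p₁ ∧ f ≫ p₂ = p₂ from ⟨𝟙 R, Category.id_comp _, Category.id_comp _⟩)).choose_spec.1
  symmetry₂ := ((h R).2.symm (show ∃ f : R ⟶ R, f ≫ p₁ = p₁ ∧ f ≫ p₂ = p₂ from ⟨𝟙 R, Category.id_comp _, Category.id_comp _⟩)).choose_spec.2
  c := pullback.cone p₂ p₁
  isLimit := pullback.isLimit p₂ p₁
  t := ((h _).2.trans
    (show ∃ f : pullback p₂ p₁ ⟶ R, f ≫ p₁ = pullback.fst p₂ p₁ ≫ p₁ ∧ f ≫ p₂ = pullback.fst p₂ p₁ ≫ p₂ from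
      ⟨_, rfl, rfl⟩)
    (show ∃ f : pullback p₂ p₁ ⟶ R, f ≫ p₁ = pullback.fst p₂ p₁ ≫ p₂ ∧ f ≫ p₂ = pullback.snd p₂ p₁ ≫ p₂ from
      ⟨_, pullback.condition.symm, rfl⟩)).choose
  transitivity₁ := ((h _).2.trans
    (show ∃ f : pullback p₂ p₁ ⟶ R, f ≫ p₁ = pullback.fst p₂ p₁ ≫ p₁ ∧ f ≫ p₂ = pullback.fst p₂ p₁ ≫ p₂ from
      ⟨_, rfl, rfl⟩)
    (show ∃ f : pullback p₂ p₁ ⟶ R, f ≫ p₁ = pullback.fst p₂ p₁ ≫ p₂ ∧ f ≫ p₂ = pullback.snd p₂ p₁ ≫ p₂ from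
      ⟨_, pullback.condition.symm, rfl⟩)).choose_spec.1
  transitivity₂ := ((h _).2.trans
    (show ∃ f : pullback p₂ p₁ ⟶ R, f ≫ p₁ = pullback.fst p₂ p₁ ≫ p₁ ∧ f ≫ p₂ = pullback.fst p₂ p₁ ≫ p₂ from
      ⟨_, rfl, rfl⟩)
    (show ∃ f : pullback p₂ p₁ ⟶ R, f ≫ p₁ = pullback.fst p₂ p₁ ≫ p₂ ∧ f ≫ p₂ = pullback.snd p₂ p₁ ≫ p₂ from
      ⟨_, pullback.condition.symm, rfl⟩)).choose_spec.2

variable {C : Type u} [SmallCategory C] {J : GrothendieckTopology C}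

theorem isEffectiveUniversalEquivRel {R A : Sh J} {p₁ p₂ : R ⟶ A} (h : SGA4.IsEquivRel p₁ p₂) :
    SGA4.IsEffectiveUniversalEquivRel p₁ p₂ := by
  let e := ShfCatLib.sheafEffective (equivalenceRelationOfIsEquivRel h)
  refine ⟨e.B, e.π, e.isKernelPair, e.isPushout, fun B' g => ?_⟩
  haveI : Epi e.π := ⟨fun a b hab => e.isPushout.hom_ext hab hab⟩
  exact ShfCatLib.universally_effectiveEpi e.π (pullback.fst e.π g) g (pullback.snd e.π g)
    (IsPullback.of_hasPullback e.π g).flip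

theorem hasDisjointUniversalCoproducts : SGA4.HasDisjointUniversalCoproducts.{u + 1, u} (Sh J) := by
  intro ι X
  have hp := isPartition_sigma_ι X
  refine ⟨Cofan.mk _ (Sigma.ι X), coproductIsCoproduct X, ?_, ?_⟩
  · haveI := hp.mono
    exact CoproductDisjoint.of_hasCoproduct (X := X)
      (fun {i j} _ => pullback.cone (Sigma.ι X i) (Sigma.ι X j))
      (fun {i j} _ => pullback.isLimit _ _) fun {i j} hij => (hp.isNullObj_pullback hij).isInitial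
  · intro F' c' α f hαf hα hsq
    obtain ⟨hc⟩ := (hp.baseChange f (P := fun i => F'.obj ⟨i⟩) (p := fun i => c'.ι.app ⟨i⟩)
      (q := fun i => α.app ⟨i⟩) fun i => hsq ⟨i⟩).nonempty_isColimit
    exact ⟨IsColimit.ofIsoColimit ((IsColimit.precomposeHomEquiv (Discrete.natIsoFunctor (F := F')) _).symm hc)
      (Cocone.ext (Iso.refl _) fun j => by
        obtain ⟨i⟩ := j
        simp)⟩

end Groth.Agent.ToposFinLib
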