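import Groth.Agent.ToposFinLib.OpenClosed
import Mathlib.CategoryTheory.Adjunction.Triple
import Mathlib.CategoryTheory.Adjunction.Reflective

/-!
# Gluing along an open and its closed complement
-/

set_option autoImplicit false
set_option backward.isDefEq.respectTransparency false
set_option linter.unusedVariables false
set_option linter.style.haveILetI false

universe v u

open CategoryTheory CategoryTheory.Limits Opposite ToposFin

namespace Groth.Agent.ToposFinLib

variable {C : Type u} [SmallCategory C] {J : GrothendieckTopology C} (U : Sh J) [hU : Mono (terminal.from U)]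
  (L : Sh J ⥤ (SGA4.closedCompl U).FullSubcategory) (adj : L ⊣ (SGA4.closedCompl U).ι)

include hU in
theorem forget_fullyFaithful : (Over.forget U).Full ∧ (Over.forget U).Faithful :=
  ⟨⟨fun f => ⟨Over.homMk f (hom_ext_open U _ _), rfl⟩⟩, inferInstance⟩

include hU in
theorem isIso_counit_star [(Over.star U).IsLeftAdjoint] :
    IsIso (Adjunction.ofIsLeftAdjoint (Over.star U)).counit := by
  haveI := (forget_fullyFaithful U).1
  haveI := (forget_fullyFaithful U).2
  let t : Adjunction.Triple (Over.forget U) (Over.star U) (Over.star U).rightAdjoint :=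
    ⟨Over.forgetAdjStar U, Adjunction.ofIsLeftAdjoint (Over.star U)⟩
  haveI := (t.fullyFaithfulEquiv (Functor.FullyFaithful.ofFullyFaithful _)).full
  haveI := (t.fullyFaithfulEquiv (Functor.FullyFaithful.ofFullyFaithful _)).faithful
  infer_instance

include hU in
theorem isIso_prodMap_unit [(Over.star U).IsLeftAdjoint] (X : Sh J) :
    IsIso (prod.map (𝟙 U) ((Adjunction.ofIsLeftAdjoint (Over.star U)).unit.app X)) := by
  let adj' := Adjunction.ofIsLeftAdjoint (Over.star U)
  haveI := isIso_counit_star U
  haveI : IsIso ((Over.star U).map (adj'.unit.app X)) :=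
    IsIso.of_isIso_fac_right (h := 𝟙 _) (adj'.left_triangle_components X)
  have h' : IsIso ((Over.star U).map (adj'.unit.app X)).left :=
    inferInstanceAs (IsIso ((Over.forget U).map ((Over.star U).map (adj'.unit.app X))))
  have e : ((Over.star U).map (adj'.unit.app X)).left = prod.map (𝟙 U) (adj'.unit.app X) :=
    Over.star_map_left U (adj'.unit.app X)
  rwa [e] at h'

include hU adj in
theorem preservesFiniteLimits_of_adj : PreservesFiniteLimits L := ⟨fun K _ _ =>
  haveI := preservesFiniteLimits_closedReflector U
  preservesLimitsOfShape_of_natIso (Adjunction.leftAdjointUniq (closedAdj U) adj)⟩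

include hU in
theorem closedAdj_unit (X : Sh J) : (closedAdj U).unit.app X = toAwaySh U X := by
  show toAwaySh U X ≫ 𝟙 _ = _
  exact Category.comp_id _

include hU in
theorem isPullback_unit {X X' : Sh J} (m : X ⟶ X') (h : IsIso (prod.map (𝟙 U) m)) :
    IsPullback m (adj.unit.app X) (adj.unit.app X') ((SGA4.closedCompl U).ι.map (L.map m)) := by
  let e := Adjunction.leftAdjointUniq (closedAdj U) adj
  refine IsPullback.of_iso (isPullback_away U m h) (Iso.refl _) (Iso.refl _)
    ((SGA4.closedCompl U).ι.mapIso (e.app X)) ((SGA4.closedCompl U).ι.mapIso (e.app X')) (by simp) ?_ ?_ ?_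
  · rw [Functor.mapIso_hom, Iso.app_hom, Iso.refl_hom, Category.id_comp, ← closedAdj_unit]
    exact Adjunction.unit_leftAdjointUniq_hom_app (closedAdj U) adj X
  · rw [Functor.mapIso_hom, Iso.app_hom, Iso.refl_hom, Category.id_comp, ← closedAdj_unit]
    exact Adjunction.unit_leftAdjointUniq_hom_app (closedAdj U) adj X'
  · rw [Functor.mapIso_hom, Functor.mapIso_hom, Iso.app_hom, Iso.app_hom]
    show (SGA4.closedCompl U).ι.map ((closedReflector U).map m) ≫ (SGA4.closedCompl U).ι.map (e.hom.app X') = _
    rw [← Functor.map_comp, e.hom.naturality, Functor.map_comp]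

include hU in
theorem isIso_star_closed {Z Z' : (SGA4.closedCompl U).FullSubcategory} (f : Z ⟶ Z') :
    IsIso ((Over.star U).map f.hom) := by
  haveI : IsIso (prod.fst : U ⨯ Z.obj ⟶ U) := Z.property
  haveI : IsIso (prod.fst : U ⨯ Z'.obj ⟶ U) := Z'.property
  haveI : IsIso (prod.map (𝟙 U) f.hom) :=
    IsIso.of_isIso_fac_right (prod.map_fst (𝟙 U) f.hom |>.trans (Category.comp_id _))
  haveI : IsIso ((Over.forget U).map ((Over.star U).map f.hom)) := by
    show IsIso ((Over.star U).map f.hom).left
    rw [show ((Over.star U).map f.hom).left = prod.map (𝟙 U) f.hom from Over.star_map_left U f.hom]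
    infer_instance
  exact isIso_of_reflects_iso _ (Over.forget U)

/-- The gluing functor. -/
noncomputable def glueFunctor [(Over.star U).IsLeftAdjoint] :
    Sh J ⥤ Comma (𝟭 (SGA4.closedCompl U).FullSubcategory) ((Over.star U).rightAdjoint ⋙ L) where
  obj X :=
    { left := L.obj X
      right := (Over.star U).obj X
      hom := L.map ((Adjunction.ofIsLeftAdjoint (Over.star U)).unit.app X) }
  map {X Y} f :=
    { left := L.map f
      right := (Over.star U).map f
      w := by
        show L.map f ≫ L.map _ = L.map _ ≫ L.map _
        rw [← L.map_comp, ← L.map_comp]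
        exact congrArg L.map ((Adjunction.ofIsLeftAdjoint (Over.star U)).unit.naturality f) }
  map_id X := by ext <;> simp
  map_comp f g := by ext <;> simp

include hU adj in
theorem isEquivalence_glueFunctor [(Over.star U).IsLeftAdjoint] : (glueFunctor U L).IsEquivalence := by
  let ι := (SGA4.closedCompl U).ι
  let adj' := Adjunction.ofIsLeftAdjoint (Over.star U)
  haveI := isIso_counit_star U
  have hsq : ∀ X : Sh J, IsPullback (adj'.unit.app X) (adj.unit.app X)
      (adj.unit.app ((Over.star U).rightAdjoint.obj ((Over.star U).obj X))) (ι.map (L.map (adj'.unit.app X))) :=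
    fun X => isPullback_unit U L adj _ (isIso_prodMap_unit U X)
  haveI : (glueFunctor U L).Faithful := ⟨fun {X Y} g g' e => (hsq Y).hom_ext
    (by
      have hr : (Over.star U).map g = (Over.star U).map g' := congrArg CommaMorphism.right e
      exact (adj'.unit.naturality g).trans (by
        simp only [Functor.comp_map]
        rw [hr]
        exact (adj'.unit.naturality g').symm))
    (by
      have hl : L.map g = L.map g' := congrArg CommaMorphism.left e
      exact (adj.unit.naturality g).trans (by
        simp only [Functor.comp_map]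
        rw [hl]
        exact (adj.unit.naturality g').symm))⟩
  haveI : (glueFunctor U L).Full := ⟨fun {X Y} φ => by
    let a : L.obj X ⟶ L.obj Y := φ.left
    let b : (Over.star U).obj X ⟶ (Over.star U).obj Y := φ.right
    have hw : a ≫ L.map (adj'.unit.app Y) = L.map (adj'.unit.app X) ≫ L.map ((Over.star U).rightAdjoint.map b) :=
      φ.w
    have hcond : (adj'.unit.app X ≫ (Over.star U).rightAdjoint.map b) ≫ adj.unit.app _ =
        (adj.unit.app X ≫ ι.map a) ≫ ι.map (L.map (adj'.unit.app Y)) := by
      rw [Category.assoc (adj.unit.app X), ← ι.map_comp, hw, ← L.map_comp]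
      exact adj.unit.naturality (adj'.unit.app X ≫ (Over.star U).rightAdjoint.map b)
    refine ⟨(hsq Y).lift _ _ hcond, CommaMorphism.ext ?_ ?_⟩
    · show L.map _ = a
      apply (adj.homEquiv _ _).injective
      rw [Adjunction.homEquiv_unit, Adjunction.homEquiv_unit]
      exact (adj.unit.naturality _).symm.trans ((hsq Y).lift_snd _ _ hcond)
    · show (Over.star U).map _ = b
      apply (adj'.homEquiv _ _).injective
      rw [Adjunction.homEquiv_unit, Adjunction.homEquiv_unit]
      exact (adj'.unit.naturality _).symm.trans ((hsq Y).lift_fst _ _ hcond)⟩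
  haveI : (glueFunctor U L).EssSurj := ⟨fun T => by
    haveI := preservesFiniteLimits_of_adj U L adj
    haveI : PreservesLimitsOfSize.{0, 0} (Over.star U) :=
      (Over.forgetAdjStar U).rightAdjoint_preservesLimits
    let Y : (SGA4.closedCompl U).FullSubcategory := T.left
    let A : Over U := T.right
    let φ : Y ⟶ L.obj ((Over.star U).rightAdjoint.obj A) := T.hom
    let p := pullback.fst (ι.map φ) (adj.unit.app ((Over.star U).rightAdjoint.obj A))
    let q := pullback.snd (ι.map φ) (adj.unit.app ((Over.star U).rightAdjoint.obj A))
    have sq : IsPullback p q (ι.map φ) (adj.unit.app _) := IsPullback.of_hasPullback _ _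
    haveI h₁ : IsIso ((Over.star U).map q) := by
      haveI : IsIso ((Over.star U).map (ι.map φ)) := isIso_star_closed U φ
      exact MorphismProperty.of_isPullback (P := MorphismProperty.isomorphisms _)
        (sq.map (Over.star U)) (inferInstanceAs (IsIso ((Over.star U).map (ι.map φ))))
    haveI h₂ : IsIso (L.map p) := by
      haveI : IsIso (L.map (adj.unit.app ((Over.star U).rightAdjoint.obj A))) := inferInstance
      exact MorphismProperty.of_isPullback (P := MorphismProperty.isomorphisms _)
        (sq.map L).flip (inferInstanceAs (IsIso (L.map (adj.unit.app ((Over.star U).rightAdjoint.obj A)))))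
    have hq : adj'.unit.app _ ≫ (Over.star U).rightAdjoint.map ((Over.star U).map q ≫ adj'.counit.app A) = q := by
      rw [Functor.map_comp]
      erw [Adjunction.unit_naturality_assoc, Adjunction.right_triangle_components, Category.comp_id]
    refine ⟨_, ⟨Comma.isoMk (asIso (L.map p ≫ adj.counit.app Y)) (asIso ((Over.star U).map q ≫ adj'.counit.app A)) ?_⟩⟩
    show (L.map p ≫ adj.counit.app Y) ≫ φ = L.map (adj'.unit.app _) ≫
      L.map ((Over.star U).rightAdjoint.map ((Over.star U).map q ≫ adj'.counit.app A))
    refine Eq.trans ?_ ((congrArg L.map hq).symm.trans (L.map_comp _ _))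
    apply (adj.homEquiv _ _).injective
    rw [Adjunction.homEquiv_unit, Adjunction.homEquiv_unit, Functor.map_comp, Functor.map_comp,
      Category.assoc, Adjunction.unit_naturality_assoc, Adjunction.right_triangle_components_assoc]
    exact sq.w.trans (adj.unit.naturality q)⟩
  exact { }

end Groth.Agent.ToposFinLib
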