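import Groth.Agent.ToposFinLib.GiraudPointwise
import Mathlib.CategoryTheory.Adjunction.Evaluation
import Mathlib.CategoryTheory.Limits.Comma
import Mathlib.CategoryTheory.Limits.FunctorCategory.Finite
import Mathlib.CategoryTheory.Presentable.Presheaf
import Mathlib.CategoryTheory.Presentable.Type

/-!
# Functor categories and glued categories are topoi
-/

set_option autoImplicit false
set_option backward.isDefEq.respectTransparency false
set_option linter.unusedVariables false
set_option linter.style.haveILetI false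

universe w v u

open CategoryTheory CategoryTheory.Limits Opposite Groth.Agent.ToposFinLib ToposFin

namespace Groth.Agent.GiraudLib

variable {C D : Type u} [SmallCategory C] [SmallCategory D] {J : GrothendieckTopology C} {K : GrothendieckTopology D}

theorem eps_detects {X Y : Sh J} (m : X ⟶ Y) [Mono m]
    (h : ∀ (c : C) (g : eps J c ⟶ Y), ∃ k, k ≫ m = g) : IsIso m := by
  have hc : Cov (fun _ : PUnit.{1} => m) := fun c y => by
    obtain ⟨k, hk⟩ := h c (epsDesc y)
    refine J.superset_covering (fun V a _ => ⟨PUnit.unit, X.obj.map a.op (k.hom.app (op c) (epsGen J c)), ?_⟩)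
      (J.top_mem c)
    refine (NatTrans.naturality_apply m.hom a.op _).trans (congrArg (Y.obj.map a.op) ?_)
    exact (congrArg (fun r : eps J c ⟶ Y => r.hom.app (op c) (epsGen J c)) hk).trans (epsDesc_gen y)
  haveI := epi_of_cov hc
  exact isIso_of_mono_of_epi m

theorem isTopos_functor (I : Type u) [SmallCategory I] : SGA4.IsTopos.{u + 1, u} (I ⥤ Sh J) := by
  haveI : ∀ X : I, PreservesFiniteLimits ((evaluation I (Sh J)).obj X) := fun X => inferInstance
  refine isTopos_of_pointwise (κ := I) (fun X => (evaluation I (Sh J)).obj X)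
    (fun F G f h => (NatTrans.isIso_iff_isIso_app f).2 h) ?_
  refine ⟨ObjectProperty.ofObj (fun p : I × C => (evaluationLeftAdjoint (Sh J) p.1).obj (eps J p.2)),
    inferInstance, isDetecting_of_mono _ fun F G m _ h => ?_⟩
  rw [NatTrans.isIso_iff_isIso_app]
  intro X
  haveI : Mono (m.app X) := inferInstanceAs (Mono (((evaluation I (Sh J)).obj X).map m))
  refine eps_detects _ fun c g => ?_
  let adj := evaluationAdjunctionRight (Sh J) X
  obtain ⟨k, hk⟩ := h _ (ObjectProperty.ofObj_apply _ (X, c)) ((adj.homEquiv _ _).symm g)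
  refine ⟨adj.homEquiv _ _ k, ?_⟩
  have := congrArg (adj.homEquiv _ _) hk
  rw [adj.homEquiv_naturality_right, Equiv.apply_symm_apply] at this
  exact this

/-- Every sheaf is a `κ`-filtered colimit of objects from a small set. -/
theorem exists_presentation (κ : Cardinal.{u}) [Fact κ.IsRegular] :
    ∃ (α : Type u) (G : α → Sh J), ∀ X : Sh J, ∃ (I : Type u) (_ : SmallCategory I) (_ : IsCardinalFiltered I κ)
      (F : I ⥤ Sh J) (c : Cocone F) (_ : IsColimit c) (_ : c.pt ≅ X), ∀ i, ∃ a, Nonempty (G a ≅ F.obj i) := by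
  haveI : IsCardinalLocallyPresentable (Cᵒᵖ ⥤ Type u) κ := by
    haveI := Cardinal.fact_isRegular_aleph0.{u}
    exact IsCardinalLocallyPresentable.of_le (κ := Cardinal.aleph0) _ (Cardinal.IsRegular.aleph0_le Fact.out)
  obtain ⟨P, hP, hgen⟩ := HasCardinalFilteredGenerator.exists_small_generator (Cᵒᵖ ⥤ Type u) κ
  haveI := hP
  refine ⟨Shrink.{u} (Subtype P), fun a => (presheafToSheaf J (Type u)).obj ((equivShrink (Subtype P)).symm a).1,
    fun X => ?_⟩
  obtain ⟨I, i₁, i₂, ⟨p⟩⟩ := hgen.exists_colimitsOfShape X.obj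
  exact ⟨I, i₁, i₂, p.diag ⋙ presheafToSheaf J (Type u), _,
    isColimitOfPreserves (presheafToSheaf J (Type u)) p.isColimit,
    asIso ((sheafificationAdjunction J (Type u)).counit.app X),
    fun i => ⟨equivShrink _ ⟨_, p.prop_diag_obj i⟩, ⟨eqToIso (by simp)⟩⟩⟩

variable (ρ : Sh J ⥤ Sh K) [PreservesFiniteLimits ρ]

theorem preservesFiniteLimits_fst : PreservesFiniteLimits (Comma.fst (𝟭 (Sh K)) ρ) := ⟨fun I _ _ => ⟨fun {F} =>
  preservesLimit_of_preserves_limit_cone
    (Comma.coneOfPreservesIsLimit F (limit.isLimit _) (limit.isLimit _))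
    (IsLimit.ofIsoLimit (limit.isLimit (F ⋙ Comma.fst _ _)) (Cone.ext (Iso.refl _) (fun j => (Category.id_comp _).symm)))⟩⟩

theorem preservesFiniteLimits_snd : PreservesFiniteLimits (Comma.snd (𝟭 (Sh K)) ρ) := ⟨fun I _ _ => ⟨fun {F} =>
  preservesLimit_of_preserves_limit_cone
    (Comma.coneOfPreservesIsLimit F (limit.isLimit _) (limit.isLimit _))
    (IsLimit.ofIsoLimit (limit.isLimit (F ⋙ Comma.snd _ _)) (Cone.ext (Iso.refl _) (fun j => (Category.id_comp _).symm)))⟩⟩

theorem hasFiniteLimits_comma : HasFiniteLimits (Comma (𝟭 (Sh K)) ρ) := ⟨fun I _ _ => inferInstance⟩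

/-- The category of a component. -/
abbrev side (C D : Type u) : Bool → Type u
  | true => C
  | false => D

instance sideCat : ∀ b, SmallCategory (side C D b)
  | true => inferInstanceAs (SmallCategory C)
  | false => inferInstanceAs (SmallCategory D)

/-- The topology of a component. -/
def sideTop (J : GrothendieckTopology C) (K : GrothendieckTopology D) : ∀ b, GrothendieckTopology (side C D b)
  | true => J
  | false => K

/-- The projections. -/
def sideFunctor : ∀ b, Comma (𝟭 (Sh K)) ρ ⥤ Sheaf (sideTop J K b) (Type u)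
  | true => Comma.snd _ ρ
  | false => Comma.fst _ ρ

theorem isTopos_comma [ρ.IsAccessible.{u}] : SGA4.IsTopos.{u + 1, u} (Comma (𝟭 (Sh K)) ρ) := by
  obtain ⟨κ, hκ, hρ⟩ := Functor.IsAccessible.exists_cardinal (F := ρ)
  obtain ⟨α, G, hG⟩ := exists_presentation (J := J) κ
  haveI := hasFiniteLimits_comma ρ
  haveI : ∀ b, PreservesFiniteLimits (sideFunctor ρ b)
    | true => preservesFiniteLimits_snd ρ
    | false => preservesFiniteLimits_fst ρ
  haveI : ∀ b, PreservesColimitsOfSize.{u, u} (sideFunctor ρ b)
    | true => ⟨fun {I} _ => Comma.preservesColimitsOfShape_snd⟩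
    | false => ⟨fun {I} _ =>
      haveI := (id_preservesColimitsOfSize (C := Sh K)).preservesColimitsOfShape (J := I)
      Comma.preservesColimitsOfShape_fst⟩
  have hU : ∀ ⦃T T' : Comma (𝟭 (Sh K)) ρ⦄ (f : T ⟶ T'), (∀ b, IsIso ((sideFunctor ρ b).map f)) → IsIso f := by
    intro T T' f h
    haveI : IsIso f.left := h false
    haveI : IsIso f.right := h true
    exact inferInstanceAs (IsIso (Comma.isoMk (asIso f.left) (asIso f.right) f.w).hom)
  refine isTopos_of_pointwise (sideFunctor ρ) hU ?_
  refine ⟨ObjectProperty.ofObj (fun x : α ⊕ (Σ (d : D) (a : α), (eps K d ⟶ ρ.obj (G a))) => match x with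
    | .inl a => ({ left := ⊥_ (Sh K), right := G a, hom := initial.to _ } : Comma (𝟭 (Sh K)) ρ)
    | .inr ⟨d, a, z⟩ => { left := eps K d, right := G a, hom := z }), inferInstance,
    isDetecting_of_mono _ fun S T m _ h => hU m ?_⟩
  haveI : Mono m.left := inferInstanceAs (Mono ((sideFunctor ρ false).map m))
  haveI : Mono m.right := inferInstanceAs (Mono ((sideFunctor ρ true).map m))
  obtain ⟨I, _, _, F, c, hc, e, hF⟩ := hG T.right
  choose a ha using hF
  let l : ∀ i, G (a i) ⟶ T.right := fun i => (ha i).some.hom ≫ c.ι.app i ≫ e.hom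
  rintro (_ | _)
  · show IsIso m.left
    haveI : PreservesColimitsOfShape I ρ := ρ.preservesColimitsOfShape_of_isCardinalAccessible κ I
    have hcov : Cov (fun i => ρ.map (l i)) := cov_of_hom_ext fun Z p q hpq => by
      rw [← cancel_epi (ρ.map e.hom)]
      refine (isColimitOfPreserves ρ hc).hom_ext fun i => ?_
      rw [← cancel_epi (ρ.map (ha i).some.hom)]
      simpa [l] using hpq i
    have hm : Cov (fun _ : PUnit.{1} => m.left) := fun d y => by
      refine K.superset_covering (fun d' g hg => ?_) (hcov (T.hom.hom.app (op d) y))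
      obtain ⟨i, z, hz⟩ := hg
      let P : Comma (𝟭 (Sh K)) ρ := { left := eps K d', right := G (a i), hom := epsDesc z }
      let φ : P ⟶ T :=
        { left := epsDesc (T.left.obj.map g.op y)
          right := l i
          w := by
            show epsDesc (T.left.obj.map g.op y) ≫ T.hom = epsDesc z ≫ ρ.map (l i)
            apply eps_hom_ext
            show T.hom.hom.app _ ((epsDesc (T.left.obj.map g.op y)).hom.app _ _) =
              (ρ.map (l i)).hom.app _ ((epsDesc z).hom.app _ _)
            rw [epsDesc_gen, epsDesc_gen, hz]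
            exact NatTrans.naturality_apply T.hom.hom g.op y }
      obtain ⟨k, hk⟩ := h P (ObjectProperty.ofObj_apply (fun x : α ⊕ (Σ (d : D) (a : α), (eps K d ⟶ ρ.obj (G a))) =>
        match x with
        | .inl a => ({ left := ⊥_ (Sh K), right := G a, hom := initial.to _ } : Comma (𝟭 (Sh K)) ρ)
        | .inr ⟨d, a, z⟩ => { left := eps K d, right := G a, hom := z }) (.inr ⟨d', a i, epsDesc z⟩)) φ
      refine ⟨PUnit.unit, k.left.hom.app (op d') (epsGen K d'), ?_⟩
      exact (congrArg (fun r : P ⟶ T => r.left.hom.app (op d') (epsGen K d')) hk).trans (epsDesc_gen _)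
    haveI := epi_of_cov hm
    exact isIso_of_mono_of_epi _
  · show IsIso m.right
    have key : ∀ i, ∃ k : G (a i) ⟶ S.right, k ≫ m.right = l i := fun i => by
      let P : Comma (𝟭 (Sh K)) ρ := { left := ⊥_ (Sh K), right := G (a i), hom := initial.to _ }
      let φ : P ⟶ T := { left := initial.to _, right := l i, w := initialIsInitial.hom_ext _ _ }
      obtain ⟨k, hk⟩ := h P (ObjectProperty.ofObj_apply (fun x : α ⊕ (Σ (d : D) (a : α), (eps K d ⟶ ρ.obj (G a))) =>
        match x with
        | .inl a => ({ left := ⊥_ (Sh K), right := G a, hom := initial.to _ } : Comma (𝟭 (Sh K)) ρ)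
        | .inr ⟨d, a, z⟩ => { left := eps K d, right := G a, hom := z }) (.inl (a i))) φ
      exact ⟨k.right, congrArg CommaMorphism.right hk⟩
    have hcov : Cov (fun _ : PUnit.{1} => m.right) := cov_of_hom_ext fun Z p q hpq => by
      rw [← cancel_epi e.hom]
      refine hc.hom_ext fun i => ?_
      obtain ⟨k, hk⟩ := key i
      rw [← cancel_epi (ha i).some.hom]
      have := congrArg (k ≫ ·) (hpq PUnit.unit)
      simp only [reassoc_of% hk] at this
      simpa [l] using this
    haveI := epi_of_cov hcov
    exact isIso_of_mono_of_epi _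

end Groth.Agent.GiraudLib
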