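import Mathlib.Algebra.Category.ModuleCat.Sheaf.PullbackContinuous
import Mathlib.Algebra.Category.ModuleCat.Sheaf.Abelian
import Mathlib.Algebra.Category.ModuleCat.Sheaf.Colimits
import Mathlib.Algebra.Category.ModuleCat.Presheaf.EpiMono
import Mathlib.Algebra.Category.ModuleCat.Presheaf.Abelian
import Mathlib.Algebra.DirectSum.Module
import Mathlib.Algebra.Category.Grp.Abelian
import Mathlib.Algebra.Category.Grp.Colimits
import Mathlib.Algebra.Category.Grp.FilteredColimits
import Mathlib.Algebra.Homology.ShortComplex.ExactFunctor
import Mathlib.CategoryTheory.Adjunction.FullyFaithful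
import Mathlib.CategoryTheory.Adjunction.Additive

/-!
# Extension by zero of modules along a localisation
-/

set_option autoImplicit false
set_option backward.isDefEq.respectTransparency false
set_option backward.isDefEq.respectTransparency.types false
set_option linter.unusedVariables false
set_option linter.style.haveILetI false

universe u

open CategoryTheory CategoryTheory.Limits Opposite

namespace Groth.Agent.ExtZero

attribute [local instance] Classical.propDecidable

variable {C : Type u} [SmallCategory C] {R : Cᵒᵖ ⥤ RingCat.{u}} {X : C}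

/-- Presheaves of modules over the localised site. -/
abbrev POver (R : Cᵒᵖ ⥤ RingCat.{u}) (X : C) :=
  PresheafOfModules.{u} ((Over.forget X).op ⋙ R)

variable (M : POver R X)

/-- The summand at `f`. -/
abbrev summand (U : Cᵒᵖ) (f : U.unop ⟶ X) : Type u :=
  M.presheaf.obj (op (Over.mk f))

noncomputable instance summandModule (U : Cᵒᵖ) (f : U.unop ⟶ X) : Module (R.obj U) (summand M U f) :=
  inferInstanceAs (Module (R.obj U) (M.obj (op (Over.mk f))))

/-- Sections of the extension by zero. -/
abbrev Ext (U : Cᵒᵖ) : Type u := DirectSum (U.unop ⟶ X) (summand M U)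

variable {M}

/-- Summands along equal morphisms. -/
lemma of_congr {U : Cᵒᵖ} {f₁ f₂ : U.unop ⟶ X} {W : Over X} (k : Over.mk f₁ ⟶ W) (k' : Over.mk f₂ ⟶ W)
    (h : k.left = k'.left) (x : M.presheaf.obj (op W)) :
    DirectSum.of (summand M U) f₁ (M.presheaf.map k.op x) = DirectSum.of (summand M U) f₂ (M.presheaf.map k'.op x) := by
  have e : f₁ = f₂ := (Over.w k).symm.trans ((congrArg (fun r => r ≫ W.hom) h).trans (Over.w k'))
  subst e
  rw [show k = k' from Over.OverMorphism.ext h]

/-- Restriction. -/
noncomputable def res {U V : Cᵒᵖ} (g : U ⟶ V) : Ext M U →+ Ext M V :=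
  DirectSum.toAddMonoid fun f => (DirectSum.of (summand M V) (g.unop ≫ f)).comp
    (M.presheaf.map (Over.homMk g.unop : Over.mk (g.unop ≫ f) ⟶ Over.mk f).op).hom

lemma res_of {U V : Cᵒᵖ} (g : U ⟶ V) (f : U.unop ⟶ X) (x : summand M U f) :
    res g (DirectSum.of (summand M U) f x) = DirectSum.of (summand M V) (g.unop ≫ f)
      (M.presheaf.map (Over.homMk g.unop : Over.mk (g.unop ≫ f) ⟶ Over.mk f).op x) := by
  exact DirectSum.toAddMonoid_of _ f x

variable (M) in
/-- The underlying presheaf. -/
noncomputable def extAb : Cᵒᵖ ⥤ Ab.{u} where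
  obj U := AddCommGrpCat.of (Ext M U)
  map g := AddCommGrpCat.ofHom (res g)
  map_id U := by
    apply AddCommGrpCat.hom_ext
    refine DirectSum.addHom_ext fun f x => ?_
    show res (𝟙 U) (DirectSum.of (summand M U) f x) = DirectSum.of (summand M U) f x
    rw [res_of]
    refine (of_congr (Over.homMk (𝟙 U).unop : Over.mk ((𝟙 U).unop ≫ f) ⟶ Over.mk f) (𝟙 (Over.mk f)) rfl x).trans ?_
    congr 1
    simp
  map_comp {U V W} g h := by
    apply AddCommGrpCat.hom_ext
    refine DirectSum.addHom_ext fun f x => ?_
    show res (g ≫ h) (DirectSum.of (summand M U) f x) = res h (res g (DirectSum.of (summand M U) f x))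
    rw [res_of, res_of, res_of]
    refine Eq.trans ?_ (congrArg (DirectSum.of (summand M W) (h.unop ≫ g.unop ≫ f))
      (Functor.map_comp_apply M.presheaf _ _ x))
    rw [← op_comp]
    exact of_congr (Over.homMk (g ≫ h).unop : Over.mk ((g ≫ h).unop ≫ f) ⟶ Over.mk f)
      ((Over.homMk h.unop : Over.mk (h.unop ≫ g.unop ≫ f) ⟶ Over.mk (g.unop ≫ f)) ≫ Over.homMk g.unop) rfl x

noncomputable instance extModule (U : Cᵒᵖ) : Module (R.obj U) ((extAb M).obj U) :=
  inferInstanceAs (Module (R.obj U) (Ext M U))

variable (M) in
/-- The extension by zero. -/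
noncomputable def ext : PresheafOfModules.{u} R :=
  PresheafOfModules.ofPresheaf (extAb M) fun {U V} g r m => by
    show res g (r • (m : Ext M U)) = R.map g r • res g (m : Ext M U)
    induction (m : Ext M U) using DirectSum.induction_on with
    | zero => simp
    | of f x =>
      rw [← DirectSum.of_smul, res_of, res_of, ← DirectSum.of_smul]
      exact congrArg _ (M.map_smul (Over.homMk g.unop : Over.mk (g.unop ≫ f) ⟶ Over.mk f).op r x)
    | add a b ha hb => simp only [smul_add, map_add, ha, hb]

/-- Inclusion of the tautological summand. -/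
noncomputable def incl {W : Over X} (x : M.presheaf.obj (op W)) : (extAb M).obj (op W.left) :=
  DirectSum.of (summand M (op W.left)) W.hom x

/-- The map in the other direction. -/
noncomputable def outMap {N : PresheafOfModules.{u} R}
    (φ : M ⟶ (PresheafOfModules.pushforward (𝟙 ((Over.forget X).op ⋙ R))).obj N) (U : Cᵒᵖ) :
    Ext M U →+ N.presheaf.obj U :=
  DirectSum.toAddMonoid fun f => AddMonoidHom.mk' (fun x => φ.app (op (Over.mk f)) x) fun a b =>
    map_add (φ.app (op (Over.mk f))).hom a b

lemma outMap_of {N : PresheafOfModules.{u} R}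
    (φ : M ⟶ (PresheafOfModules.pushforward (𝟙 ((Over.forget X).op ⋙ R))).obj N) (U : Cᵒᵖ)
    (f : U.unop ⟶ X) (x : summand M U f) :
    outMap φ U (DirectSum.of (summand M U) f x) = φ.app (op (Over.mk f)) x := by
  exact DirectSum.toAddMonoid_of _ f x

/-- Transposition. -/
noncomputable def toExtHom {N : PresheafOfModules.{u} R}
    (φ : M ⟶ (PresheafOfModules.pushforward (𝟙 ((Over.forget X).op ⋙ R))).obj N) : ext M ⟶ N :=
  PresheafOfModules.homMk
    { app := fun U => AddCommGrpCat.ofHom (outMap φ U)
      naturality := fun U V g => by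
        apply AddCommGrpCat.hom_ext
        refine DirectSum.addHom_ext fun f x => ?_
        show outMap φ V (res g (DirectSum.of (summand M U) f x)) = N.presheaf.map g (outMap φ U (DirectSum.of (summand M U) f x))
        rw [res_of, outMap_of, outMap_of]
        exact PresheafOfModules.naturality_apply φ (Over.homMk g.unop : Over.mk (g.unop ≫ f) ⟶ Over.mk f).op x }
    fun U r m => by
      show outMap φ U (r • (m : Ext M U)) = (r • outMap φ U (m : Ext M U) : N.presheaf.obj U)
      induction (m : Ext M U) using DirectSum.induction_on with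
      | zero =>
        rw [smul_zero, map_zero]
        exact (smul_zero r).symm
      | of f x =>
        rw [← DirectSum.of_smul, outMap_of, outMap_of]
        exact (φ.app (op (Over.mk f))).hom.map_smul r x
      | add a b ha hb => simp only [smul_add, map_add, ha, hb]

variable (M) in
/-- The unit. -/
noncomputable def extUnit : M ⟶ (PresheafOfModules.pushforward (𝟙 ((Over.forget X).op ⋙ R))).obj (ext M) :=
  PresheafOfModules.homMk
    { app := fun W => AddCommGrpCat.ofHom (AddMonoidHom.mk' (fun x => (incl (W := W.unop) x : (extAb M).obj (op W.unop.left)))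
        fun a b => map_add (DirectSum.of (summand M (op W.unop.left)) W.unop.hom) a b)
      naturality := fun W W' k => by
        apply AddCommGrpCat.hom_ext
        ext (x : M.presheaf.obj W)
        show DirectSum.of (summand M (op W'.unop.left)) W'.unop.hom (M.presheaf.map k x) =
          res k.unop.left.op (DirectSum.of (summand M (op W.unop.left)) W.unop.hom x)
        rw [res_of]
        exact of_congr (U := op W'.unop.left) (W := W.unop) k.unop
          (Over.homMk k.unop.left : Over.mk (k.unop.left ≫ W.unop.hom) ⟶ W.unop) rfl x }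
    fun W r x => DirectSum.of_smul (R := R.obj (op W.unop.left)) (M := summand M (op W.unop.left)) W.unop.hom r x

/-- The universal property. -/
noncomputable def extEquiv (N : PresheafOfModules.{u} R) :
    (ext M ⟶ N) ≃ (M ⟶ (PresheafOfModules.pushforward (𝟙 ((Over.forget X).op ⋙ R))).obj N) where
  toFun ψ := extUnit M ≫ (PresheafOfModules.pushforward (𝟙 ((Over.forget X).op ⋙ R))).map ψ
  invFun φ := toExtHom φ
  left_inv ψ := by
    apply (PresheafOfModules.toPresheaf _).map_injective
    ext U : 2
    apply AddCommGrpCat.hom_ext
    refine DirectSum.addHom_ext fun f x => ?_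
    show outMap _ U (DirectSum.of (summand M U) f x) = ψ.app U (DirectSum.of (summand M U) f x : (extAb M).obj U)
    rw [outMap_of]
    rfl
  right_inv φ := by
    ext W x
    show outMap φ (op W.unop.left) (DirectSum.of (summand M (op W.unop.left)) W.unop.hom x) = _
    rw [outMap_of]
    rfl

variable (R X) in
/-- The functor. -/
noncomputable def extFunctor : POver R X ⥤ PresheafOfModules.{u} R :=
  Adjunction.leftAdjointOfEquiv (G := PresheafOfModules.pushforward (𝟙 ((Over.forget X).op ⋙ R)))
    (fun M N => extEquiv (M := M) N) fun M N N' g h => by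
      show extUnit M ≫ _ = (extUnit M ≫ _) ≫ _
      rw [Functor.map_comp, Category.assoc]

variable (R X) in
/-- The adjunction. -/
noncomputable def extAdj : extFunctor R X ⊣ PresheafOfModules.pushforward (𝟙 ((Over.forget X).op ⋙ R)) :=
  Adjunction.adjunctionOfEquivLeft _ _

lemma extFunctor_map_of {M M' : POver R X} (α : M ⟶ M') (U : Cᵒᵖ) (f : U.unop ⟶ X) (x : summand M U f) :
    ((extFunctor R X).map α).app U (DirectSum.of (summand M U) f x : (extAb M).obj U) =
      (DirectSum.of (summand M' U) f (α.app (op (Over.mk f)) x) : (extAb M').obj U) := by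
  show outMap _ U (DirectSum.of (summand M U) f x) = _
  rw [outMap_of]
  rfl

theorem mono_extFunctor_map {M M' : POver R X} (α : M ⟶ M') [Mono α] : Mono ((extFunctor R X).map α) := by
  refine PresheafOfModules.mono_of_injective fun U => ?_
  let a : ∀ f : U.unop ⟶ X, summand M U f →+ summand M' U f := fun f =>
    AddMonoidHom.mk' (fun x => α.app (op (Over.mk f)) x) fun p q => map_add (α.app (op (Over.mk f))).hom p q
  have h : ∀ m : Ext M U, ((extFunctor R X).map α).app U (m : (extAb M).obj U) = DFinsupp.mapRange.addMonoidHom a m := by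
    intro m
    induction m using DirectSum.induction_on with
    | zero => exact (map_zero (((extFunctor R X).map α).app U).hom).trans (map_zero _).symm
    | of f x =>
      rw [extFunctor_map_of]
      exact (DFinsupp.mapRange_single (f := fun f => a f) (hf := fun f => map_zero (a f))).symm
    | add p q hp hq =>
      exact ((map_add (((extFunctor R X).map α).app U).hom p q).trans (congrArg₂ (· + ·) hp hq)).trans
        (map_add _ p q).symm
  intro p q e
  have e' := ((h p).symm.trans e).trans (h q)
  exact (DFinsupp.mapRange_injective (fun f => a f) (fun f => map_zero (a f))).2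
    (fun f => PresheafOfModules.injective_of_mono α (op (Over.mk f))) e'

section Sheaf

variable (J : GrothendieckTopology C) (X) (A : Sheaf J RingCat.{u})

/-- The left adjoint on sheaves. -/
noncomputable abbrev shExt : SheafOfModules.{u} (A.over X) ⥤ SheafOfModules.{u} A :=
  SheafOfModules.forget (A.over X) ⋙ extFunctor A.obj X ⋙ PresheafOfModules.sheafification (R₀ := A.obj) (𝟙 A.obj)

/-- The adjunction on sheaves. -/
noncomputable def shExtAdj : shExt X J A ⊣ SheafOfModules.overFunctor.{u} A X :=
  Adjunction.mkOfHomEquiv
    { homEquiv := fun F G ↦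
        ((PresheafOfModules.sheafificationAdjunction (𝟙 A.obj)).homEquiv _ _).trans
            (((extAdj A.obj X).homEquiv F.val G.val).trans
              ((SheafOfModules.fullyFaithfulForget (A.over X)).homEquiv (Y := (SheafOfModules.overFunctor.{u} A X).obj G)).symm)
      homEquiv_naturality_left_symm := by
        intros
        dsimp [Functor.FullyFaithful.homEquiv]
        erw [Adjunction.homEquiv_naturality_left_symm, Adjunction.homEquiv_naturality_left_symm]
        simp only [Functor.map_comp, Category.assoc]
      homEquiv_naturality_right := by tauto }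

theorem mono_shExtAdj_unit (F : SheafOfModules.{u} (A.over X)) : Mono ((shExtAdj X J A).unit.app F) := by
  refine (SheafOfModules.forget (A.over X)).mono_of_mono_map ?_
  refine PresheafOfModules.mono_of_injective fun W => ?_
  have hu : ∀ x : F.val.presheaf.obj W, ((shExtAdj X J A).unit.app F).val.app W x =
      (CategoryTheory.toSheafify J (extAb F.val)).app (op W.unop.left) (incl (W := W.unop) x) := fun x => rfl
  refine (injective_iff_map_eq_zero ((SheafOfModules.forget (A.over X)).map ((shExtAdj X J A).unit.app F)|>.app W).hom).2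
    fun x hx => ?_
  have hx' : (CategoryTheory.toSheafify J (extAb F.val)).app (op W.unop.left) (incl (W := W.unop) x) = 0 :=
    (hu x).symm.trans hx
  have hS := Presheaf.equalizerSieve_mem J (CategoryTheory.toSheafify J (extAb F.val)) (X := op W.unop.left)
    (incl (W := W.unop) x) 0 (hx'.trans (map_zero _).symm)
  have hF := (isSheaf_iff_isSheaf_of_type _ _).1 ((Presheaf.isSheaf_iff_isSheaf_forget (J.over X) F.val.presheaf (forget _)).1 F.isSheaf)
  refine (hF.isSeparated _ (J.overEquiv_symm_mem_over W.unop _ hS)).ext fun V g hg => ?_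
  have hg' : (extAb F.val).map g.left.op (incl (W := W.unop) x) = (extAb F.val).map g.left.op 0 :=
    (Sieve.overEquiv_symm_iff _ g).1 hg
  rw [map_zero] at hg'
  change res g.left.op (DirectSum.of (summand F.val (op W.unop.left)) W.unop.hom x) = 0 at hg'
  rw [res_of] at hg'
  have h₁ : DirectSum.of (summand F.val (op V.left)) V.hom (F.val.presheaf.map g.op x) = 0 :=
    (of_congr (U := op V.left) (W := W.unop) g
      (Over.homMk g.left : Over.mk (g.left ≫ W.unop.hom) ⟶ W.unop) rfl x).trans hg'
  have h₂ : F.val.presheaf.map g.op x = 0 := DirectSum.of_injective V.hom (h₁.trans (map_zero _).symm)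
  show F.val.presheaf.map g.op x = F.val.presheaf.map g.op 0
  rw [h₂, map_zero]

theorem mono_shExt_map {F G : SheafOfModules.{u} (A.over X)} (α : F ⟶ G) [Mono α] : Mono ((shExt X J A).map α) := by
  haveI : Mono ((SheafOfModules.forget (A.over X)).map α) := inferInstance
  haveI h₁ := mono_extFunctor_map ((SheafOfModules.forget (A.over X)).map α)
  haveI : PreservesFiniteLimits (PresheafOfModules.sheafification.{u} (R₀ := A.obj) (𝟙 A.obj)) := inferInstance
  have hp : (PresheafOfModules.sheafification.{u} (R₀ := A.obj) (𝟙 A.obj)).PreservesMonomorphisms := inferInstance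
  exact @Functor.PreservesMonomorphisms.preserves _ _ _ _ _ hp _ _ _ h₁

theorem exact_and_faithful :
    (SheafOfModules.overFunctor.{u} A X).IsRightAdjoint ∧
    ∀ (L : SheafOfModules.{u} (A.over X) ⥤ SheafOfModules.{u} A) (_ : L ⊣ SheafOfModules.overFunctor.{u} A X),
      PreservesFiniteLimits L ∧ PreservesFiniteColimits L ∧ L.Faithful := by
  refine ⟨(shExtAdj X J A).isRightAdjoint, fun L adj => ?_⟩
  let e := Adjunction.leftAdjointUniq (shExtAdj X J A) adj
  haveI : ∀ F, Mono ((shExtAdj X J A).unit.app F) := mono_shExtAdj_unit X J A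
  haveI : (shExt X J A).Faithful := (shExtAdj X J A).faithful_L_of_mono_unit_app
  haveI : PreservesColimitsOfSize.{u, u} L := adj.leftAdjoint_preservesColimits
  haveI : PreservesFiniteColimits L := PreservesColimitsOfSize.preservesFiniteColimits L
  haveI : L.IsLeftAdjoint := adj.isLeftAdjoint
  haveI : L.Additive :=
    haveI := preservesBinaryBiproducts_of_preservesBinaryCoproducts L
    Functor.additive_of_preservesBinaryBiproducts L
  haveI : L.PreservesMonomorphisms := ⟨fun {F G} α hα => by
    exact ((MorphismProperty.monomorphisms _).arrow_mk_iso_iff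
      (Arrow.isoMk (e.app F) (e.app G) (e.hom.naturality α).symm)).1 (mono_shExt_map X J A α)⟩
  haveI : L.PreservesHomology := Functor.preservesHomology_of_preservesMonos_and_cokernels L
  exact ⟨L.preservesFiniteLimits_of_preservesHomology, inferInstance, Functor.Faithful.of_iso e⟩

end Sheaf

end Groth.Agent.ExtZero
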