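import Groth.Prelude.Def_ToposFin2
import Groth.Agent.ToposFinLib.Separated

/-!
# Algebraic and locally coherent topoi, coherent morphisms
-/

set_option autoImplicit false
set_option backward.isDefEq.respectTransparency false
set_option linter.unusedVariables false

universe v u

open CategoryTheory CategoryTheory.Limits Opposite ToposFin

namespace Groth.Agent.ToposFinLib

variable {C : Type u} [SmallCategory C] {J : GrothendieckTopology C} {X Y : Sh J} {S : Set (Sh J)}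

theorem gen_of_isGenerating (hgen : IsGenerating S) : Gen (J := J) (fun K => K ∈ S) := fun X => by
  obtain ⟨ι, F, π, hF, hπ⟩ := hgen X
  exact ⟨ι, F, π, hF, cov_of_hom_ext hπ⟩

theorem gen_qc_of_isGenerating (hgen : IsGenerating S) (hqc : ∀ K ∈ S, IsQC K) : Gen (J := J) IsQC :=
  (gen_of_isGenerating hgen).mono hqc

theorem isQS_of_mem (hgen : IsGenerating S) (hqc : ∀ K ∈ S, IsQC K) (hpb : ClosedUnderPullbacks S)
    {K : Sh J} (hK : K ∈ S) : IsQS K := by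
  refine isQS_of_cov (gen_of_isGenerating hgen) (cov_self.{u} K) fun A B i j a b hA hB => ?_
  obtain ⟨P, p, q, hP, hsq⟩ := hpb (a ≫ 𝟙 K) (b ≫ 𝟙 K) hA hB hK
  exact isQC_of_iso hsq.isoPullback (hqc P hP)

theorem isCoherent_of_mem (hgen : IsGenerating S) (hqc : ∀ K ∈ S, IsQC K) (hpb : ClosedUnderPullbacks S)
    {K : Sh J} (hK : K ∈ S) : IsCoherent K :=
  ⟨hqc K hK, isQS_of_mem hgen hqc hpb hK⟩

theorem isQS_prod_of_mem (hgen : IsGenerating S) (hqc : ∀ K ∈ S, IsQC K) (hpb : ClosedUnderPullbacks S)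
    (heq : ClosedUnderEqualizers S) {K L : Sh J} (hK : K ∈ S) (hL : L ∈ S) : IsQS (K ⨯ L) := by
  refine isQS_of_cov (gen_of_isGenerating hgen) (cov_self.{u} (K ⨯ L)) fun A B i j a b hA hB => ?_
  obtain ⟨R, p, q, hR, hsq⟩ := hpb (a ≫ prod.fst) (b ≫ prod.fst) hA hB hK
  obtain ⟨P, e, w, hP, ⟨hl⟩⟩ := heq (p ≫ a ≫ prod.snd) (q ≫ b ≫ prod.snd) hR hL
  have sq : IsPullback (e ≫ p) (e ≫ q) a b := by
    refine ⟨⟨prod.hom_ext ?_ ?_⟩, ⟨PullbackCone.IsLimit.mk _
      (fun s => Fork.IsLimit.lift hl (hsq.lift s.fst s.snd (by simpa using congrArg (· ≫ prod.fst) s.condition))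
        ?_) (fun s => ?_) (fun s => ?_) fun s m h₁ h₂ => ?_⟩⟩
    · simpa using e ≫= hsq.w
    · simpa using w
    · simpa using congrArg (· ≫ prod.snd) s.condition
    · exact (Fork.IsLimit.lift_ι'_assoc hl _ _ p).trans (hsq.lift_fst _ _ _)
    · exact (Fork.IsLimit.lift_ι'_assoc hl _ _ q).trans (hsq.lift_snd _ _ _)
    · refine Fork.IsLimit.hom_ext hl ((hsq.hom_ext ?_ ?_).trans (Fork.IsLimit.lift_ι' hl _ _).symm)
      · exact (Category.assoc _ _ _).trans (h₁.trans (hsq.lift_fst _ _ _).symm)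
      · exact (Category.assoc _ _ _).trans (h₂.trans (hsq.lift_snd _ _ _).symm)
  exact isQC_of_iso (sq.isoPullback ≪≫ pullback.congrHom (Category.comp_id _).symm (Category.comp_id _).symm)
    (hqc P hP)

theorem isQSHom_of_isQS (hgen : IsGenerating S) (hqc : ∀ K ∈ S, IsQC K) (hpb : ClosedUnderPullbacks S)
    (heq : ClosedUnderEqualizers S) (f : X ⟶ Y) (hX : IsQS X) : IsQSHom f := by
  obtain ⟨ι, F, π, hF, hπ⟩ := gen_of_isGenerating hgen X
  refine isQSHom_of_qs_products (gen_qc_of_isGenerating hgen hqc) f hπ (fun i => hqc _ (hF i)) (fun i j => ?_) hX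
  haveI : Mono (prod.lift (pullback.fst (π i ≫ f) (π j ≫ f)) (pullback.snd (π i ≫ f) (π j ≫ f))) :=
    ⟨fun x y e => by
      apply pullback.hom_ext
      · simpa using congrArg (· ≫ prod.fst) e
      · simpa using congrArg (· ≫ prod.snd) e⟩
  exact isQS_of_isQSHom (isQSHom_of_mono (prod.lift (pullback.fst (π i ≫ f) (π j ≫ f)) (pullback.snd _ _)))
    (isQS_prod_of_mem hgen hqc hpb heq (hF i) (hF j))

theorem isQSHom_to_mem (hgen : IsGenerating S) (hqc : ∀ K ∈ S, IsQC K) (hpb : ClosedUnderPullbacks S)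
    {K : Sh J} (hK : K ∈ S) (f : X ⟶ K) (hX : IsQS X) : IsQSHom f := by
  obtain ⟨ι, F, π, hF, hπ⟩ := gen_of_isGenerating hgen X
  refine isQSHom_of_qs_products (gen_qc_of_isGenerating hgen hqc) f hπ (fun i => hqc _ (hF i)) (fun i j => ?_) hX
  obtain ⟨P, p, q, hP, hsq⟩ := hpb (π i ≫ f) (π j ≫ f) (hF i) (hF j) hK
  exact isQS_of_isQSHom (isQSHom_of_mono hsq.isoPullback.inv) (isQS_of_mem hgen hqc hpb hP)

theorem isQSHom_iff_pullback_qs (hgen : IsGenerating S) (hqc : ∀ K ∈ S, IsQC K) (hpb : ClosedUnderPullbacks S)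
    (f : X ⟶ Y) : IsQSHom f ↔ ∀ (Y' : Sh J) (g : Y' ⟶ Y), IsQS Y' → IsQS (pullback f g) := by
  refine ⟨fun hf Y' g hY' => isQS_of_isQSHom (isQSHom_pullback_snd hf g) hY', fun h => ?_⟩
  obtain ⟨ι, F, π, hF, hπ⟩ := gen_of_isGenerating hgen Y
  exact isQSHom_of_cov (gen_qc_of_isGenerating hgen hqc) f F π hπ fun i =>
    isQSHom_to_mem hgen hqc hpb (hF i) _ (h _ (π i) (isQS_of_mem hgen hqc hpb (hF i)))

theorem isQCHom_of_qc_of_qs (f : X ⟶ Y) (hX : IsQC X) (hY : IsQS Y) : IsQCHom f :=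
  fun W g hW => hY _ _ f g hX hW

theorem isQC_of_isQCHom (f : X ⟶ Y) (hf : IsQCHom f) (hY : IsQC Y) : IsQC X :=
  isQC_of_iso (asIso (pullback.fst f (𝟙 Y))) (hf Y (𝟙 Y) hY)

section Functor

variable {D : Type u} [SmallCategory D] {K : GrothendieckTopology D}

theorem map_isQC {P : Sh J → Prop} (hgen : Gen P) (F : Sh J ⥤ Sh K) [F.IsLeftAdjoint]
    (h : ∀ A, P A → IsQC (F.obj A)) {X : Sh J} (hX : IsQC X) : IsQC (F.obj X) := by
  obtain ⟨κ, hκ, A, a, t, hA, hcov⟩ := exists_finite_gen hgen hX (cov_self.{u} X)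
  exact isQC_of_finite_cov _ _ (hcov.map_of_adjunction F) fun k => h _ (hA k)

theorem map_isQS {P : Sh J → Prop} (hgen : Gen P) (hP : ∀ A, P A → IsCoherent A) (F : Sh J ⥤ Sh K)
    [F.IsLeftAdjoint] [PreservesFiniteLimits F] (hE : Gen (J := K) IsQC) (h : ∀ A, P A → IsCoherent (F.obj A))
    {X : Sh J} (hX : IsQS X) : IsQS (F.obj X) := by
  obtain ⟨ι, A, π, hA, hπ⟩ := hgen X
  refine isQS_of_pairwise hE _ _ (hπ.map_of_adjunction F) (fun i => (h _ (hA i)).2) fun i j => ?_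
  refine isQC_of_iso ((IsPullback.of_hasPullback (π i) (π j)).map F).isoPullback
    (map_isQC hgen F (fun A hA => (h A hA).1) ?_)
  exact hX _ _ (π i) (π j) (hP _ (hA i)).1 (hP _ (hA j)).1

theorem map_isQCHom {P : Sh J → Prop} (hgen : Gen P) (hP : ∀ A, P A → IsCoherent A) (F : Sh J ⥤ Sh K)
    [F.IsLeftAdjoint] [PreservesFiniteLimits F] (hE : Gen (J := K) IsQC)
    (hqc : ∀ X, IsQC X → IsQC (F.obj X)) (hqs : ∀ X, IsQS X → IsQS (F.obj X))
    {X Y : Sh J} (v : X ⟶ Y) (hv : IsQCHom v) : IsQCHom (F.map v) := by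
  obtain ⟨ι, A, π, hA, hπ⟩ := hgen Y
  refine isQCHom_of_cov hE _ _ _ (hπ.map_of_adjunction F) fun i => ?_
  have sq := (IsPullback.of_hasPullback v (π i)).map F
  rw [← sq.isoPullback_inv_snd]
  exact isQCHom_comp (isQCHom_of_isIso _)
    (isQCHom_of_qc_of_qs _ (hqc _ (hv _ (π i) (hP _ (hA i)).1)) (hqs _ (hP _ (hA i)).2))

end Functor

end Groth.Agent.ToposFinLib
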