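import Groth.Agent.ToposFinLib.GiraudPointwise
import Mathlib.CategoryTheory.Sites.Canonical

/-!
# The canonical functor to sheaves for the canonical topology
-/

set_option autoImplicit false
set_option backward.isDefEq.respectTransparency false
set_option linter.unusedVariables false
set_option linter.style.haveILetI false

universe w v u

open CategoryTheory CategoryTheory.Limits Opposite Groth.Agent.ToposFinLib

namespace Groth.Agent.CanonEps

variable {C : Type u} [SmallCategory C]

/-- The canonical functor. -/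
noncomputable abbrev ε : C ⥤ Sheaf (Sheaf.canonicalTopology C) (Type u) :=
  yoneda ⋙ presheafToSheaf (Sheaf.canonicalTopology C) (Type u)

/-- It is fully faithful. -/
noncomputable def εFullyFaithful : (ε (C := C)).FullyFaithful :=
  (Sheaf.canonicalTopology C).yonedaFullyFaithful.ofIso
    (NatIso.ofComponents (fun X => (asIso ((sheafificationAdjunction _ (Type u)).counit.app
      ((Sheaf.canonicalTopology C).yoneda.obj X))).symm) (fun {X Y} f => by
        show (Sheaf.canonicalTopology C).yoneda.map f ≫ inv ((sheafificationAdjunction _ (Type u)).counit.app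
          ((Sheaf.canonicalTopology C).yoneda.obj Y)) = inv ((sheafificationAdjunction _ (Type u)).counit.app
          ((Sheaf.canonicalTopology C).yoneda.obj X)) ≫ ε.map f
        rw [IsIso.comp_inv_eq, Category.assoc, IsIso.eq_inv_comp]
        exact ((sheafificationAdjunction (Sheaf.canonicalTopology C) (Type u)).counit.naturality
          ((Sheaf.canonicalTopology C).yoneda.map f)).symm))

instance : (ε (C := C)).Full := εFullyFaithful.full
instance : (ε (C := C)).Faithful := εFullyFaithful.faithful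

section Cofan

variable {X : C} {ι : Type u} (Y : ι → C) (s : ∀ i, Y i ⟶ X)

theorem isColimit_of_ε (h : IsPartition (fun i => (ε (C := C)).map (s i))) :
    Nonempty (IsColimit (Cofan.mk X s)) := by
  obtain ⟨hc⟩ := h.nonempty_isColimit
  exact ⟨isColimitOfReflects ε ((isColimitMapCoconeCofanMkEquiv ε _ _).symm hc)⟩

variable [∀ (i : ι) (Z : C) (g : Z ⟶ X), HasPullback (s i) g]

theorem universal_disjoint_of_partition (h : IsPartition (fun i => (ε (C := C)).map (s i))) :
    Nonempty (IsColimit (Cofan.mk X s)) ∧ CoproductDisjoint Y ∧ IsUniversalColimit (Cofan.mk X s) := by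
  obtain ⟨hc⟩ := isColimit_of_ε Y s h
  refine ⟨⟨hc⟩, ?_, ?_⟩
  · haveI : ∀ i, Mono ((Cofan.mk X s).inj i) := fun i =>
      (ε (C := C)).mono_of_mono_map (h.mono i)
    refine CoproductDisjoint.of_cofan hc (fun {i j} _ => pullback.cone (s i) (s j))
      (fun {i j} _ => pullback.isLimit _ _) fun {i j} hij => ?_
    have hI : IsInitial ((ε (C := C)).obj (pullback (s i) (s j))) :=
      (((h.isNullObj_pullback hij)).of_hom (((IsPullback.of_hasPullback (s i) (s j)).map ε).isoPullback).hom).isInitial
    exact IsInitial.ofUniqueHom (fun W => εFullyFaithful.preimage (hI.to _)) fun W m =>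
      εFullyFaithful.map_injective (hI.hom_ext _ _)
  · intro F' c' α f hαf hα hsq
    obtain ⟨hc'⟩ := isColimit_of_ε (X := c'.pt) (fun i => F'.obj ⟨i⟩) (fun i => c'.ι.app ⟨i⟩)
      (h.baseChange (ε.map f) (q := fun i => ε.map (α.app ⟨i⟩)) fun i => (hsq ⟨i⟩).map ε)
    exact ⟨IsColimit.ofIsoColimit ((IsColimit.precomposeHomEquiv (Discrete.natIsoFunctor (F := F')) _).symm hc')
      (Cocone.ext (Iso.refl _) fun j => by
        obtain ⟨i⟩ := j
        simp)⟩

theorem exists_pullbackCofan (hu : IsUniversalColimit (Cofan.mk X s)) {Z : C} (g : Z ⟶ X) :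
    Nonempty (IsColimit (Cofan.mk Z (fun i => pullback.snd (s i) g))) :=
  hu (Cofan.mk Z (fun i => pullback.snd (s i) g)) (Discrete.natTrans fun i => pullback.fst (s i.as) g) g
    (by ext ⟨i⟩; exact pullback.condition) (NatTrans.Equifibered.of_discrete _)
    fun ⟨i⟩ => (IsPullback.of_hasPullback (s i) g).flip

theorem partition_of_universal_disjoint (hc : IsColimit (Cofan.mk X s)) (hd : CoproductDisjoint Y)
    (hu : IsUniversalColimit (Cofan.mk X s)) : IsPartition (fun i => (ε (C := C)).map (s i)) := by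
  haveI : ∀ i, Mono (s i) := fun i => Mono.of_coproductDisjoint hc i
  refine (isPartition_eps_iff (J := Sheaf.canonicalTopology C) Y s).2 ⟨?_, fun i => inferInstance, fun i j hij => ?_⟩
  · refine Sheaf.mem_finestTopology_of_forall_isSheafFor ?_
    rintro _ ⟨W, rfl⟩ Z g
    obtain ⟨hP⟩ := exists_pullbackCofan Y s hu g
    intro x hx
    have hmem : ∀ i, ((Sieve.ofArrows Y s).pullback g).arrows (pullback.snd (s i) g) := fun i => by
      show Sieve.ofArrows Y s (pullback.snd (s i) g ≫ g)
      rw [← pullback.condition]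
      exact Sieve.downward_closed _ (Sieve.ofArrows_mk Y s i) _
    refine ⟨Cofan.IsColimit.desc hP (fun i => x _ (hmem i)), fun T a ha => ?_, fun t ht => ?_⟩
    · obtain ⟨i, k, hk⟩ := (Sieve.mem_ofArrows_iff Y s _).1 ha
      have e : pullback.lift k a hk.symm ≫ pullback.snd (s i) g = a := pullback.lift_snd _ _ _
      have := hx (pullback.lift k a hk.symm) (𝟙 T) (hmem i) ha (by rw [e, Category.id_comp])
      show a ≫ _ = _
      refine Eq.trans ?_ (this.trans (Category.id_comp _))
      show a ≫ _ = pullback.lift k a hk.symm ≫ _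
      conv_lhs => rw [← e, Category.assoc]
      exact congrArg (_ ≫ ·) (Cofan.IsColimit.fac hP _ i)
    · exact Cofan.IsColimit.hom_ext hP _ _ fun i => (ht _ (hmem i)).trans (Cofan.IsColimit.fac hP (fun i => x _ (hmem i)) i).symm
  · have hP₀ : IsInitial (pullback (s i) (s j)) :=
      IsInitial.ofCoproductDisjointOfIsColimit hij hc
    have hnull : (⊥ : Sieve (pullback (s i) (s j))) ∈ Sheaf.canonicalTopology C _ := by
      refine Sheaf.mem_finestTopology_of_forall_isSheafFor ?_
      rintro _ ⟨W, rfl⟩ Z a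
      intro x hx
      refine ⟨a ≫ hP₀.to W, fun T b hb => False.elim hb, fun t _ => ?_⟩
      let g : Z ⟶ X := a ≫ pullback.fst (s i) (s j) ≫ s i
      obtain ⟨hP⟩ := exists_pullbackCofan Y s hu g
      classical
      let fam : ∀ k, pullback (s k) g ⟶ W := fun k => pullback.snd (s k) g ≫ if k = i then t else a ≫ hP₀.to W
      have hsect : ∀ k (b : Z ⟶ Y k), b ≫ s k = g → ∀ u : Z ⟶ W, fam k = pullback.snd (s k) g ≫ u →
          Cofan.IsColimit.desc hP fam = u := fun k b hb u hu' => by
        have h₁ : pullback.lift b (𝟙 Z) (hb.trans (Category.id_comp g).symm) ≫ pullback.snd (s k) g = 𝟙 Z :=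
          pullback.lift_snd _ _ _
        have h₂ := congrArg (pullback.lift b (𝟙 Z) (hb.trans (Category.id_comp g).symm) ≫ ·)
          ((Cofan.IsColimit.fac hP fam k).trans hu')
        simp only [cofan_mk_inj, reassoc_of% h₁] at h₂
        exact h₂
      have e₁ := hsect i (a ≫ pullback.fst (s i) (s j)) (by simp [g]) t (by simp [fam])
      have e₂ := hsect j (a ≫ pullback.snd (s i) (s j)) (by simp [g, pullback.condition]) (a ≫ hP₀.to W)
        (by simp [fam, hij.symm])
      exact e₁.symm.trans e₂
    exact ⟨((isNullObj_eps hnull).of_hom ((presheafToSheaf _ (Type u)).map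
      ((IsPullback.of_hasPullback (s i) (s j)).map yoneda).isoPullback.inv)).isInitial⟩

theorem isColimit_cofan_iff :
    Nonempty (IsColimit (Cofan.mk ((ε (C := C)).obj X) (fun i => ε.map (s i)))) ↔
      (Nonempty (IsColimit (Cofan.mk X s)) ∧ CoproductDisjoint Y ∧ IsUniversalColimit (Cofan.mk X s)) :=
  (nonempty_isColimit_iff_isPartition (fun i => (ε (C := C)).map (s i))).trans
    ⟨universal_disjoint_of_partition Y s, fun ⟨⟨hc⟩, hd, hu⟩ => partition_of_universal_disjoint Y s hc hd hu⟩

end Cofan

section Quotient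

variable [HasPullbacks C] {R X : C} {p₁ p₂ : R ⟶ X} (hR : SGA4.IsEquivRel p₁ p₂)

include hR in
theorem isEquivRel_ε : SGA4.IsEquivRel ((ε (C := C)).map p₁) (ε.map p₂) := by
  refine GiraudLib.isEquivRel_map (presheafToSheaf _ (Type u)) ?_
  let e := equivalenceRelationOfIsEquivRel hR
  have sq := (IsPullback.of_hasPullback p₂ p₁).map yoneda
  refine fun W => ⟨fun a b hab => ?_, ⟨fun a => ⟨a ≫ yoneda.map e.r, ?_, ?_⟩, ?_, ?_⟩⟩
  · ext T z
    have h₁ := congrArg (fun r : W ⟶ yoneda.obj X => r.app T z) (congrArg Prod.fst hab)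
    have h₂ := congrArg (fun r : W ⟶ yoneda.obj X => r.app T z) (congrArg Prod.snd hab)
    exact (hR T.unop).1 (Prod.ext h₁ h₂)
  · rw [Category.assoc, ← Functor.map_comp, e.reflexivity₁, CategoryTheory.Functor.map_id, Category.comp_id]
  · rw [Category.assoc, ← Functor.map_comp, e.reflexivity₂, CategoryTheory.Functor.map_id, Category.comp_id]
  · rintro a b ⟨l, rfl, rfl⟩
    refine ⟨l ≫ yoneda.map e.s, ?_, ?_⟩
    · rw [Category.assoc, ← Functor.map_comp, e.symmetry₁]
    · rw [Category.assoc, ← Functor.map_comp, e.symmetry₂]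
  · rintro a b c ⟨l, h₁, h₂⟩ ⟨l', h₁', h₂'⟩
    refine ⟨sq.lift l l' (h₂.trans h₁'.symm) ≫ yoneda.map e.t, ?_, ?_⟩
    · rw [Category.assoc, ← Functor.map_comp, show e.t ≫ p₁ = pullback.fst p₂ p₁ ≫ p₁ from e.transitivity₁,
        Functor.map_comp, IsPullback.lift_fst_assoc, h₁]
    · rw [Category.assoc, ← Functor.map_comp, show e.t ≫ p₂ = pullback.snd p₂ p₁ ≫ p₂ from e.transitivity₂,
        Functor.map_comp, IsPullback.lift_snd_assoc, h₂']

/-- A covering morphism is a coequalizer of its kernel pair. -/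
theorem exists_isColimit_cofork_of_cov {D : Type u} [SmallCategory D] {J : GrothendieckTopology D}
    {P A B : Sheaf J (Type u)} {a b : P ⟶ A} {q : A ⟶ B}
    (sq : IsPullback a b q q) (hq : Cov (fun _ : PUnit.{1} => q)) : Nonempty (IsColimit (Cofork.ofπ q sq.w)) := by
  have hl : ∀ c : Cofork a b, ∃ l : B ⟶ c.pt, q ≫ l = c.π := fun c => by
    obtain ⟨l, hl⟩ := hq.exists_desc (fun _ => c.π) fun _ _ => by
      rw [← cancel_epi sq.isoPullback.hom, IsPullback.isoPullback_hom_fst_assoc,
        IsPullback.isoPullback_hom_snd_assoc]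
      exact c.condition
    exact ⟨l, hl PUnit.unit⟩
  choose l hl using hl
  exact ⟨Cofork.IsColimit.mk _ l hl fun c m hm => hq.hom_ext fun _ => hm.trans (hl c).symm⟩

include hR in
theorem effective_iff (c : Cofork p₁ p₂) (hc : IsColimit c) :
    SGA4.IsEffectiveUniversalEquivRel p₁ p₂ ↔
      Nonempty (IsColimit ((ε (C := C)).mapCocone c)) := by
  constructor
  · rintro ⟨B, π, hpb, hpo, hu⟩
    let a : B ⟶ c.pt := hpo.desc c.π c.π c.condition
    have ha : π ≫ a = c.π := hpo.inl_desc _ _ _
    let b : c.pt ⟶ B := Cofork.IsColimit.desc hc π hpo.w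
    have hb : c.π ≫ b = π := Cofork.IsColimit.π_desc' hc π hpo.w
    let e : B ≅ c.pt :=
      ⟨a, b, hpo.hom_ext (by rw [reassoc_of% ha, hb, Category.comp_id]) (by rw [reassoc_of% ha, hb, Category.comp_id]),
        Cofork.IsColimit.hom_ext hc (by rw [reassoc_of% hb, ha, Category.comp_id])⟩
    have hpb' : IsPullback p₁ p₂ c.π c.π := IsPullback.of_iso hpb (Iso.refl _) (Iso.refl _) (Iso.refl _) e
      (by simp) (by simp) (by simp [e, ha]) (by simp [e, ha])
    have hcov : Cov (fun _ : PUnit.{1} => (ε (C := C)).map c.π) := by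
      refine (cov_epsMap_iff (fun _ : PUnit.{1} => X) fun _ => c.π).2 ?_
      refine Sheaf.mem_finestTopology_of_forall_isSheafFor ?_
      rintro _ ⟨W, rfl⟩ Z g
      haveI := hu Z (g ≫ b)
      let q := pullback.snd π (g ≫ b)
      have hq : (pullback.fst π (g ≫ b)) ≫ c.π = q ≫ g := by
        rw [← ha, pullback.condition_assoc]
        show q ≫ (g ≫ b) ≫ a = q ≫ g
        rw [Category.assoc, show b ≫ a = 𝟙 _ from e.inv_hom_id, Category.comp_id]
      have hmem : ((Sieve.ofArrows (fun _ : PUnit.{1} => X) fun _ => c.π).pullback g).arrows q := by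
        show Sieve.ofArrows _ _ (q ≫ g)
        rw [← hq]
        exact Sieve.downward_closed _ (Sieve.ofArrows_mk _ (fun _ : PUnit.{1} => c.π) PUnit.unit) _
      intro x hx
      refine ⟨EffectiveEpi.desc q (x q hmem) (fun g₁ g₂ h => hx g₁ g₂ hmem hmem h), fun T t ht => ?_, fun t ht => ?_⟩
      · obtain ⟨⟨⟩, k, hk⟩ := (Sieve.mem_ofArrows_iff _ _ _).1 ht
        have hk' : k ≫ π = t ≫ g ≫ b := by rw [← hb, ← Category.assoc k, ← hk, Category.assoc]
        have ht' : pullback.lift k t hk' ≫ q = t := pullback.lift_snd _ _ _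
        have := hx (pullback.lift k t hk') (𝟙 T) hmem ht (by rw [ht', Category.id_comp])
        show t ≫ _ = _
        refine Eq.trans ?_ (this.trans (Category.id_comp _))
        show t ≫ _ = pullback.lift k t hk' ≫ _
        conv_lhs => rw [← ht', Category.assoc]
        rw [EffectiveEpi.fac]
      · rw [← cancel_epi q, EffectiveEpi.fac]
        exact ht q hmem
    obtain ⟨h⟩ := exists_isColimit_cofork_of_cov (hpb'.map (ε (C := C))) hcov
    exact ⟨IsColimit.ofIsoColimit ((isColimitMapCoconeCoforkEquiv ε c.condition).symm h)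
      ((Cocone.functoriality _ ε).mapIso (Cofork.isoCoforkOfπ c).symm)⟩
  · rintro ⟨h⟩
    have hcol : IsColimit (Cofork.ofπ ((ε (C := C)).map c.π) (by rw [← Functor.map_comp, ← Functor.map_comp, c.condition]) :
        Cofork (ε.map p₁) (ε.map p₂)) :=
      isColimitMapCoconeCoforkEquiv ε c.condition
        (IsColimit.ofIsoColimit h ((Cocone.functoriality _ ε).mapIso (Cofork.isoCoforkOfπ c)))
    obtain ⟨B, q, hpb, hpo, -⟩ := isEffectiveUniversalEquivRel (isEquivRel_ε hR)
    have hw : (ε (C := C)).map p₁ ≫ ε.map c.π = ε.map p₂ ≫ ε.map c.π := by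
      rw [← Functor.map_comp, ← Functor.map_comp, c.condition]
    let a := Cofork.IsColimit.desc hcol q hpo.w
    have ha : (ε (C := C)).map c.π ≫ a = q := Cofork.IsColimit.π_desc' hcol q hpo.w
    let b := hpo.desc _ _ hw
    have hb : q ≫ b = (ε (C := C)).map c.π := hpo.inl_desc _ _ _
    let e : B ≅ (ε (C := C)).obj c.pt :=
      ⟨b, a, hpo.hom_ext (by rw [← Category.assoc, hb, Category.comp_id]; exact ha)
        (by rw [← Category.assoc, hb, Category.comp_id]; exact ha),
        Cofork.IsColimit.hom_ext hcol (by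
          show (ε (C := C)).map c.π ≫ a ≫ b = ε.map c.π ≫ 𝟙 _
          rw [← Category.assoc]
          exact ((congrArg (· ≫ b) ha).trans hb).trans (Category.comp_id _).symm)⟩
    have hk : IsPullback ((ε (C := C)).map p₁) (ε.map p₂) (ε.map c.π) (ε.map c.π) :=
      IsPullback.of_iso hpb (Iso.refl _) (Iso.refl _) (Iso.refl _) e (by simp) (by simp) (by simp [e, hb])
        (by simp [e, hb])
    haveI : Epi ((ε (C := C)).map c.π) := ⟨fun g₁ g₂ hg => Cofork.IsColimit.hom_ext hcol hg⟩
    refine ⟨c.pt, c.π, IsPullback.of_map ε c.condition hk, ⟨⟨c.condition⟩, ⟨PushoutCocone.IsColimit.mk c.condition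
      (fun s => Cofork.IsColimit.desc hc s.inl (by
        have h₁ := congrArg (((hR X).2.refl (𝟙 X)).choose ≫ ·) s.condition
        have e₁ := ((hR X).2.refl (𝟙 X)).choose_spec.1
        have e₂ := ((hR X).2.refl (𝟙 X)).choose_spec.2
        simp only [reassoc_of% e₁, reassoc_of% e₂] at h₁
        rw [s.condition, h₁]))
      (fun s => Cofork.IsColimit.π_desc' _ _ _) (fun s => by
        have h₁ := congrArg (((hR X).2.refl (𝟙 X)).choose ≫ ·) s.condition
        have e₁ := ((hR X).2.refl (𝟙 X)).choose_spec.1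
        have e₂ := ((hR X).2.refl (𝟙 X)).choose_spec.2
        simp only [reassoc_of% e₁, reassoc_of% e₂] at h₁
        rw [Cofork.IsColimit.π_desc' hc, h₁])
      (fun s m h₁ h₂ => Cofork.IsColimit.hom_ext hc (h₁.trans (Cofork.IsColimit.π_desc' _ _ _).symm))⟩⟩, fun B' g => ?_⟩
    let q' := pullback.snd c.π g
    have hcov : Cov (fun _ : PUnit.{1} => (ε (C := C)).map q') :=
      (cov_of_epi ((ε (C := C)).map c.π)).pullback (ε.map g)
        fun _ => ((IsPullback.of_hasPullback c.π g).map ε).flip
    obtain ⟨h'⟩ := exists_isColimit_cofork_of_cov ((IsPullback.of_hasPullback q' q').map (ε (C := C))) hcov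
    have hk' : IsColimit (Cofork.ofπ q' pullback.condition : Cofork (pullback.fst q' q') (pullback.snd q' q')) :=
      isColimitOfReflects ε ((isColimitMapCoconeCoforkEquiv ε _).symm h')
    exact RegularEpi.effectiveEpi { W := _, left := _, right := _, w := pullback.condition, isColimit := hk' }

end Quotient

end Groth.Agent.CanonEps
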