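import Groth.Agent.ToposFinLib.Colim
import Mathlib.Topology.Sheaves.SheafCondition.UniqueGluing
import Mathlib.CategoryTheory.Sites.Spaces
import Mathlib.Topology.Compactness.Compact

/-!
# Sections of directed colimits of sheaves on a space
-/

set_option autoImplicit false
set_option backward.isDefEq.respectTransparency false
set_option linter.unusedVariables false
set_option linter.style.haveILetI false

universe u

open CategoryTheory CategoryTheory.Limits Opposite TopologicalSpace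

namespace Groth.Agent.TopColim

variable {X : TopCat.{u}} {J : Type u} [Preorder J] [Nonempty J] [IsDirected J (· ≤ ·)]
  (F : J ⥤ X.Sheaf (Type u)) (c : Cocone F) (hc : IsColimit c)

/-- Sections. -/
abbrev sec (i : J) (V : Opens X) : Type u := (F.obj i).1.obj (op V)

/-- Image in the colimit. -/
abbrev img (i : J) (V : Opens X) (z : sec F i V) : c.pt.1.obj (op V) := (c.ι.app i).1.app (op V) z

/-- Transition. -/
abbrev tr {i j : J} (h : i ⟶ j) {V : Opens X} (z : sec F i V) : sec F j V := (F.map h).1.app (op V) z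

lemma img_tr {i j : J} (h : i ⟶ j) {V : Opens X} (z : sec F i V) : img F c j V (tr F h z) = img F c i V z :=
  congrArg (fun r : F.obj i ⟶ c.pt => r.1.app (op V) z) (c.w h)

lemma img_res (i : J) {V W : Opens X} (g : W ⟶ V) (z : sec F i V) :
    img F c i W ((F.obj i).1.map g.op z) = c.pt.1.map g.op (img F c i V z) :=
  NatTrans.naturality_apply (c.ι.app i).1 g.op z

lemma tr_res {i j : J} (h : i ⟶ j) {V W : Opens X} (g : W ⟶ V) (z : sec F i V) :
    tr F h ((F.obj i).1.map g.op z) = (F.obj j).1.map g.op (tr F h z) :=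
  NatTrans.naturality_apply (F.map h).1 g.op z

lemma tr_tr {i j k : J} (h : i ⟶ j) (h' : j ⟶ k) (h'' : i ⟶ k) {V : Opens X} (z : sec F i V) :
    tr F h' (tr F h z) = tr F h'' z := by
  have e : F.map h'' = F.map h ≫ F.map h' := by rw [← F.map_comp, Subsingleton.elim h'' (h ≫ h')]
  exact (congrArg (fun r : F.obj i ⟶ F.obj k => r.1.app (op V) z) e).symm

lemma exists_upper {ι : Type*} [Finite ι] (f : ι → J) : ∃ k, ∀ a, Nonempty (f a ⟶ k) := by
  classical
  haveI := Fintype.ofFinite ι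
  obtain ⟨k, hk⟩ := Finset.exists_le (Finset.univ.image f)
  exact ⟨k, fun a => ⟨homOfLE (hk _ (Finset.mem_image_of_mem f (Finset.mem_univ a)))⟩⟩

include hc

lemma eq_of_injective (hinj : ∀ (i j : J) (h : i ⟶ j) (V : Opens X), Function.Injective ((F.map h).1.app (op V)))
    {i : J} {V : Opens X} (z z' : sec F i V) (e : img F c i V z = img F c i V z') : z = z' := by
  obtain ⟨S, hS, hS'⟩ := ToposFinLib.locally_eq_at_stage (J := Opens.grothendieckTopology X) (D := F) hc i z z' e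
  choose W g hg hxW using hS
  refine TopCat.Sheaf.eq_of_locally_eq' (F.obj i) (fun x : V => W x.1 x.2) V (fun x => g x.1 x.2) ?_ z z' fun x => ?_
  · intro x hx
    exact Opens.mem_iSup.2 ⟨⟨x, hx⟩, hxW x hx⟩
  · obtain ⟨j, u, hu⟩ := hS' (g x.1 x.2) (hg x.1 x.2)
    exact hinj i j u _ hu

lemma exists_eq_of_isCompact {i : J} {V : Opens X} (hV : IsCompact (V : Set X)) (z z' : sec F i V)
    (e : img F c i V z = img F c i V z') : ∃ (j : J) (h : i ⟶ j), tr F h z = tr F h z' := by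
  classical
  obtain ⟨S, hS, hS'⟩ := ToposFinLib.locally_eq_at_stage (J := Opens.grothendieckTopology X) (D := F) hc i z z' e
  choose W g hg hxW using hS
  choose j u hu using fun x : V => hS' (g x.1 x.2) (hg x.1 x.2)
  obtain ⟨t, ht⟩ := hV.elim_finite_subcover (fun x : V => (W x.1 x.2 : Set X)) (fun x => (W x.1 x.2).isOpen)
    fun x hx => Set.mem_iUnion.2 ⟨⟨x, hx⟩, hxW x hx⟩
  obtain ⟨k, hk⟩ := exists_upper (ι := Option t) (fun a => a.elim i fun b => j b)
  refine ⟨k, (hk none).some, TopCat.Sheaf.eq_of_locally_eq' (F.obj k) (fun b : t => W b.1.1 b.1.2) V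
    (fun b => g b.1.1 b.1.2) ?_ _ _ fun b => ?_⟩
  · intro x hx
    obtain ⟨b, hb, hxb⟩ := Set.mem_iUnion₂.1 (ht hx)
    exact Opens.mem_iSup.2 ⟨⟨b, hb⟩, hxb⟩
  · have l : j b.1 ⟶ k := (hk (some b)).some
    rw [← tr_res, ← tr_res, ← tr_tr F (u b.1) l, ← tr_tr F (u b.1) l]
    exact congrArg (tr F l) (hu b.1)

lemma exists_local (U : Opens X) (y : c.pt.1.obj (op U)) (x : X) (hx : x ∈ U) :
    ∃ (W : Opens X) (g : W ⟶ U) (i : J) (z : sec F i W), x ∈ W ∧ img F c i W z = c.pt.1.map g.op y := by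
  obtain ⟨W, g, ⟨i, z, hz⟩, hxW⟩ := (ToposFinLib.cov_ι_of_isColimit (J := Opens.grothendieckTopology X) hc y) x hx
  exact ⟨W, g, i, z, hxW, hz⟩

/-- Glue sections at a common stage. -/
lemma exists_preimage_of_compatible {U : Opens X} (y : c.pt.1.obj (op U)) {ι : Type u} (W : ι → Opens X)
    (g : ∀ a, W a ⟶ U) (hU : U ≤ iSup W) (k : J) (z : ∀ a, sec F k (W a))
    (hz : ∀ a, img F c k (W a) (z a) = c.pt.1.map (g a).op y)
    (hcomp : ∀ a b, (F.obj k).1.map (Opens.infLELeft (W a) (W b)).op (z a) =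
      (F.obj k).1.map (Opens.infLERight (W a) (W b)).op (z b)) :
    ∃ s : sec F k U, img F c k U s = y := by
  obtain ⟨s, hs, -⟩ := TopCat.Sheaf.existsUnique_gluing' (F := F.obj k) W U g hU (sf := z) (h := fun a b => hcomp a b)
  refine ⟨s, TopCat.Sheaf.eq_of_locally_eq' c.pt W U g hU _ _ fun a => ?_⟩
  rw [← img_res, hs a, hz a]

lemma img_inf_eq {U : Opens X} (y : c.pt.1.obj (op U)) {W W' : Opens X} (g : W ⟶ U) (g' : W' ⟶ U) {k : J}
    (z : sec F k W) (z' : sec F k W') (hz : img F c k W z = c.pt.1.map g.op y)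
    (hz' : img F c k W' z' = c.pt.1.map g'.op y) :
    img F c k (W ⊓ W') ((F.obj k).1.map (Opens.infLELeft W W').op z) =
      img F c k (W ⊓ W') ((F.obj k).1.map (Opens.infLERight W W').op z') := by
  rw [img_res, img_res, hz, hz', ← Functor.map_comp_apply, ← Functor.map_comp_apply, ← op_comp, ← op_comp,
    Subsingleton.elim (Opens.infLELeft W W' ≫ g) (Opens.infLERight W W' ≫ g')]

lemma surj_of_injective (hinj : ∀ (i j : J) (h : i ⟶ j) (V : Opens X), Function.Injective ((F.map h).1.app (op V)))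
    {U : Opens X} (hU : IsCompact (U : Set X)) (y : c.pt.1.obj (op U)) :
    ∃ (k : J) (s : sec F k U), img F c k U s = y := by
  classical
  choose W g i z hxW hz using exists_local F c hc U y
  obtain ⟨t, ht⟩ := hU.elim_finite_subcover (fun x : U => (W x.1 x.2 : Set X)) (fun x => (W x.1 x.2).isOpen)
    fun x hx => Set.mem_iUnion.2 ⟨⟨x, hx⟩, hxW x hx⟩
  obtain ⟨k, hk⟩ := exists_upper (fun b : t => i b.1.1 b.1.2)
  have hz' : ∀ b : t, img F c k _ (tr F (hk b).some (z b.1.1 b.1.2)) = c.pt.1.map (g b.1.1 b.1.2).op y :=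
    fun b => (img_tr F c _ _).trans (hz b.1.1 b.1.2)
  obtain ⟨s, hs⟩ := exists_preimage_of_compatible F c hc y (fun b : t => W b.1.1 b.1.2) (fun b => g b.1.1 b.1.2)
    (fun x hx => by
      obtain ⟨b, hb, hxb⟩ := Set.mem_iUnion₂.1 (ht hx)
      exact Opens.mem_iSup.2 ⟨⟨b, hb⟩, hxb⟩) k (fun b => tr F (hk b).some (z b.1.1 b.1.2)) hz'
    fun a b => eq_of_injective F c hc hinj _ _ (img_inf_eq F c hc y _ _ _ _ (hz' a) (hz' b))
  exact ⟨k, s, hs⟩

lemma surj_of_refinement {U : Opens X}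
    (hU : ∀ 𝒱 : Set (Opens X), (⨆ V ∈ 𝒱, V) = U →
      ∃ (m : ℕ) (W : Fin m → Opens X), (∀ j, ∃ V ∈ 𝒱, W j ≤ V) ∧ (⨆ j, W j) = U ∧
        ∀ j j', IsCompact ((W j ⊓ W j' : Opens X) : Set X))
    (y : c.pt.1.obj (op U)) : ∃ (k : J) (s : sec F k U), img F c k U s = y := by
  classical
  let 𝒱 : Set (Opens X) := {V | ∃ (g : V ⟶ U) (i : J) (z : sec F i V), img F c i V z = c.pt.1.map g.op y}
  obtain ⟨m, W, hW, hWU, hcpt⟩ := hU 𝒱 (le_antisymm (iSup₂_le fun V ⟨g, _⟩ => g.le) fun x hx => by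
    obtain ⟨W, g, i, z, hxW, hz⟩ := exists_local F c hc U y x hx
    exact Opens.mem_iSup.2 ⟨W, Opens.mem_iSup.2 ⟨⟨g, i, z, hz⟩, hxW⟩⟩)
  have hW' : ∀ a : Fin m, ∃ (g : W a ⟶ U) (i : J) (z : sec F i (W a)), img F c i (W a) z = c.pt.1.map g.op y := by
    intro a
    obtain ⟨V, ⟨g, i, z, hz⟩, hle⟩ := hW a
    refine ⟨homOfLE hle ≫ g, i, (F.obj i).1.map (homOfLE hle).op z, ?_⟩
    rw [img_res, hz, op_comp, Functor.map_comp_apply]
  choose g i z hz using hW'
  obtain ⟨k, hk⟩ := exists_upper i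
  have hz' : ∀ a, img F c k _ (tr F (hk a).some (z a)) = c.pt.1.map (g a).op y :=
    fun a => (img_tr F c _ _).trans (hz a)
  choose l u hl using fun p : Fin m × Fin m =>
    exists_eq_of_isCompact F c hc (hcpt p.1 p.2) _ _ (img_inf_eq F c hc y _ _ _ _ (hz' p.1) (hz' p.2))
  obtain ⟨n, hn⟩ := exists_upper (ι := Option (Fin m × Fin m)) (fun a => a.elim k l)
  obtain ⟨s, hs⟩ := exists_preimage_of_compatible F c hc y (ι := ULift.{u} (Fin m)) (fun a => W a.down)
    (fun a => g a.down) (hWU.ge.trans (iSup_le fun j => le_iSup_of_le ⟨j⟩ le_rfl)) n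
    (fun a => tr F (hn none).some (tr F (hk a.down).some (z a.down)))
    (fun a => (img_tr F c _ _).trans (hz' a.down))
    fun a b => by
      have v : l (a.down, b.down) ⟶ n := (hn (some (a.down, b.down))).some
      refine (tr_res F _ _ _).symm.trans (Eq.trans ?_ (tr_res F _ _ _))
      rw [← tr_tr F (u (a.down, b.down)) v (hn none).some, ← tr_tr F (u (a.down, b.down)) v (hn none).some]
      exact congrArg (tr F v) (hl (a.down, b.down))
  exact ⟨n, s, hs⟩

theorem comparison (U : Opens X) :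
    let ev := TopCat.Sheaf.forget (Type u) X ⋙ (evaluation (Opens X)ᵒᵖ (Type u)).obj (op U)
    let Ψ : colimit (F ⋙ ev) → ev.obj c.pt := colimit.desc (F ⋙ ev) (ev.mapCocone c)
    ((∀ (i j : J) (h : i ⟶ j) (V : Opens X), Function.Injective ((F.map h).1.app (op V))) → Function.Injective Ψ) ∧
    (IsCompact (U : Set X) → Function.Injective Ψ) ∧
    (IsCompact (U : Set X) → (∀ (i j : J) (h : i ⟶ j) (V : Opens X), Function.Injective ((F.map h).1.app (op V))) →
      Function.Bijective Ψ) ∧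
    ((∀ 𝒱 : Set (Opens X), (⨆ V ∈ 𝒱, V) = U →
        ∃ (m : ℕ) (W : Fin m → Opens X), (∀ j, ∃ V ∈ 𝒱, W j ≤ V) ∧ (⨆ j, W j) = U ∧
          ∀ j j', IsCompact ((W j ⊓ W j' : Opens X) : Set X)) →
      Function.Bijective Ψ) := by
  intro ev Ψ
  haveI : IsFiltered J := isFiltered_of_directed_le_nonempty J
  have hΨ : ∀ (i : J) (z : sec F i U), Ψ (colimit.ι (F ⋙ ev) i z) = img F c i U z := fun i z =>
    congrArg (fun r : (F ⋙ ev).obj i ⟶ ev.obj c.pt => r z) (colimit.ι_desc (ev.mapCocone c) i)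
  have inj : (∀ (i : J) (z z' : sec F i U), img F c i U z = img F c i U z' →
      ∃ (j : J) (h : i ⟶ j), tr F h z = tr F h z') → Function.Injective Ψ := by
    intro hkey p q hpq
    obtain ⟨i, z, rfl⟩ := Types.jointly_surjective_of_isColimit (colimit.isColimit (F ⋙ ev)) p
    obtain ⟨j, z', rfl⟩ := Types.jointly_surjective_of_isColimit (colimit.isColimit (F ⋙ ev)) q
    obtain ⟨k, a, b, -⟩ := IsFilteredOrEmpty.cocone_objs i j
    have e : img F c k U (tr F a z) = img F c k U (tr F b z') :=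
      (img_tr F c a z).trans ((hΨ i z).symm.trans (hpq.trans ((hΨ j z').trans (img_tr F c b z').symm)))
    obtain ⟨l, h, hl⟩ := hkey k _ _ e
    exact (Types.FilteredColimit.colimit_eq_iff (F ⋙ ev)).2 ⟨l, a ≫ h, b ≫ h, by
      show tr F (a ≫ h) z = tr F (b ≫ h) z'
      rw [← tr_tr F a h (a ≫ h), ← tr_tr F b h (b ≫ h), hl]⟩
  have surj : (∀ y : c.pt.1.obj (op U), ∃ (k : J) (s : sec F k U), img F c k U s = y) → Function.Surjective Ψ :=
    fun h y => by
      obtain ⟨k, s, hs⟩ := h y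
      exact ⟨colimit.ι (F ⋙ ev) k s, (hΨ k s).trans hs⟩
  have inj₁ : (∀ (i j : J) (h : i ⟶ j) (V : Opens X), Function.Injective ((F.map h).1.app (op V))) →
      Function.Injective Ψ :=
    fun h => inj fun i z z' e => ⟨i, 𝟙 i, by rw [eq_of_injective F c hc h z z' e]⟩
  have inj₂ : IsCompact (U : Set X) → Function.Injective Ψ :=
    fun h => inj fun i z z' e => exists_eq_of_isCompact F c hc h z z' e
  refine ⟨inj₁, inj₂, fun hU h => ⟨inj₂ hU, surj (surj_of_injective F c hc h hU)⟩, fun h => ⟨inj₂ ?_, surj (surj_of_refinement F c hc h)⟩⟩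
  obtain ⟨m, W, -, hWU, hcpt⟩ := h {U} (by simp)
  rw [← hWU, Opens.coe_iSup]
  exact isCompact_iUnion fun j => by simpa using hcpt j j

end Groth.Agent.TopColim
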