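import Groth.Agent.ToposFinLib.Decomp
import Groth.Prelude.Def_SGA4a
import Mathlib.CategoryTheory.Sites.Canonical
import Mathlib.CategoryTheory.Limits.Opposites
import Mathlib.CategoryTheory.Limits.Types.Limits

/-!
# Sheaves for the canonical topology of a topos
-/

set_option autoImplicit false
set_option backward.isDefEq.respectTransparency false
set_option linter.unusedVariables false
set_option linter.style.haveILetI false

universe w' w v u

open CategoryTheory CategoryTheory.Limits Opposite ToposFin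

namespace Groth.Agent.ToposFinLib

variable {C : Type u} [SmallCategory C] {J : GrothendieckTopology C}

/-- The members of a sieve. -/
def sieveArrows {X : Sh J} (S : Sieve X) : ∀ a : (Σ Y, {g : Y ⟶ X // S.arrows g}), a.1 ⟶ X := fun a => a.2.1

theorem ofArrows_sieveArrows {X : Sh J} (S : Sieve X) :
    Presieve.ofArrows _ (sieveArrows S) = S.arrows := by
  funext Y g
  refine propext ⟨?_, fun h => Presieve.ofArrows.mk (⟨Y, g, h⟩ : Σ Y, {g : Y ⟶ X // S.arrows g})⟩
  rintro ⟨a⟩
  exact a.2.2

theorem mem_canonical_iff {X : Sh J} (S : Sieve X) :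
    S ∈ Sheaf.canonicalTopology (Sh J) X ↔ Cov (sieveArrows S) := by
  constructor
  · intro h
    refine cov_of_hom_ext fun Z a b e => ?_
    exact ((Sheaf.isSheaf_yoneda_obj (C := Sh J) Z) S h).isSeparatedFor.ext fun Y g hg => e ⟨Y, g, hg⟩
  · intro h
    refine Sheaf.mem_finestTopology_of_forall_isSheafFor ?_
    rintro _ ⟨Z, rfl⟩ Y f
    have hc : Cov (sieveArrows (S.pullback f)) := (h.pullback_snd f).refine fun a =>
      ⟨⟨_, pullback.snd (sieveArrows S a) f, by
        show S.arrows (pullback.snd (sieveArrows S a) f ≫ f)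
        rw [← pullback.condition]
        exact S.downward_closed a.2.2 _⟩, 𝟙 _, Category.id_comp _⟩
    rw [← ofArrows_sieveArrows, Presieve.isSheafFor_arrows_iff]
    intro x hx
    obtain ⟨l, hl⟩ := hc.exists_desc (Z := Z) x fun i j => hx i j _ _ _ pullback.condition
    exact ⟨l, hl, fun l' hl' => hc.hom_ext fun i => (hl' i).trans (hl i).symm⟩

variable (G : (Sh J)ᵒᵖ ⥤ Type w)

/-- Gluing along small covering families. -/
def Glue : Prop :=
  ∀ ⦃ι : Type u⦄ ⦃F : ι → Sh J⦄ ⦃X : Sh J⦄ (π : ∀ i, F i ⟶ X), Cov π →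
    ∀ x : ∀ i, G.obj (op (F i)), Presieve.Arrows.Compatible G π x → ∃! t, ∀ i, G.map (π i).op t = x i

/-- Colimits become limits. -/
def PresLim : Prop :=
  ∀ ⦃I : Type u⦄ [SmallCategory I] (D : I ⥤ Sh J) (c : Cocone D), IsColimit c →
    ∀ x : ∀ i, G.obj (op (D.obj i)), (∀ i j (a : i ⟶ j), G.map (D.map a).op (x j) = x i) →
      ∃! t : G.obj (op c.pt), ∀ i, G.map (c.ι.app i).op t = x i

variable {G}

theorem glue_of_isSheaf (h : Presieve.IsSheaf (Sheaf.canonicalTopology (Sh J)) G) : Glue G := by
  intro ι F X π hπ x hx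
  have hmem : Sieve.generate (Presieve.ofArrows F π) ∈ Sheaf.canonicalTopology (Sh J) X :=
    (mem_canonical_iff _).2 (hπ.refine fun i =>
      ⟨⟨F i, π i, Sieve.le_generate _ _ _ (Presieve.ofArrows.mk i)⟩, 𝟙 _, Category.id_comp _⟩)
  have hh := h _ hmem
  rw [← Presieve.isSheafFor_iff_generate, Presieve.isSheafFor_arrows_iff] at hh
  exact hh x hx

theorem Glue.separated (h : Glue G) {ι : Type u} {F : ι → Sh J} {X : Sh J} {π : ∀ i, F i ⟶ X} (hπ : Cov π)
    {s t : G.obj (op X)} (e : ∀ i, G.map (π i).op s = G.map (π i).op t) : s = t :=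
  (h π hπ (fun i => G.map (π i).op t) fun i j Z gi gj hg => by
    rw [← Functor.map_comp_apply, ← Functor.map_comp_apply, ← op_comp, ← op_comp, hg]).unique e fun i => rfl

/-- The maps from representables cover. -/
theorem cov_all_eps (X : Sh J) : Cov (fun a : (Σ U : C, X.obj.obj (op U)) => epsDesc (J := J) a.2) := by
  intro U y
  refine J.superset_covering (fun V g _ => ?_) (J.top_mem U)
  exact ⟨⟨V, X.obj.map g.op y⟩, epsGen J V, epsDesc_gen _⟩

theorem isSheaf_of_glue (h : Glue G) : Presieve.IsSheaf (Sheaf.canonicalTopology (Sh J)) G := by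
  intro X S hS x hx
  rw [mem_canonical_iff] at hS
  let κ := Σ U : C, {y : X.obj.obj (op U) // S.arrows (epsDesc (J := J) y)}
  let π : ∀ k : κ, eps J k.1 ⟶ X := fun k => epsDesc k.2.1
  have hπ : Cov π := by
    intro U y
    refine J.superset_covering ?_ (hS y)
    rintro V g ⟨⟨Y, a, ha⟩, z, hz⟩
    have e : epsDesc (X.obj.map g.op y) = epsDesc z ≫ a := by
      apply eps_hom_ext
      refine (epsDesc_gen _).trans (hz.symm.trans ?_)
      exact (congrArg (a.hom.app (op V)) (epsDesc_gen z)).symm
    exact ⟨⟨V, X.obj.map g.op y, e ▸ S.downward_closed ha _⟩, epsGen J V, epsDesc_gen _⟩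
  obtain ⟨t, ht, huniq⟩ := h π hπ (fun k => x (π k) k.2.2) fun i j Z gi gj hg => hx gi gj i.2.2 j.2.2 hg
  refine ⟨t, fun Y f hf => ?_, fun t' ht' => huniq t' fun k => ht' _ k.2.2⟩
  refine h.separated (cov_all_eps Y) fun a => ?_
  have hmem : S.arrows (epsDesc (J := J) (f.hom.app (op a.1) a.2)) := by
    rw [← show epsDesc a.2 ≫ f = epsDesc (f.hom.app (op a.1) a.2) from eps_hom_ext (by
      rw [epsDesc_gen]
      exact congrArg (f.hom.app (op a.1)) (epsDesc_gen a.2))]
    exact S.downward_closed hf _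
  have e : epsDesc a.2 ≫ f = π ⟨a.1, _, hmem⟩ := eps_hom_ext (by
    rw [show π ⟨a.1, _, hmem⟩ = epsDesc (f.hom.app (op a.1) a.2) from rfl, epsDesc_gen]
    exact congrArg (f.hom.app (op a.1)) (epsDesc_gen a.2))
  rw [← Functor.map_comp_apply, ← op_comp, e, ht ⟨a.1, _, hmem⟩]
  have := hx (𝟙 _) (epsDesc a.2) hmem hf ((Category.id_comp _).trans e.symm)
  simpa using this

theorem presLim_of_glue (h : Glue G) : PresLim G := by
  intro I _ D c hc x hx
  have hcov : Cov (fun i => c.ι.app i) := cov_of_hom_ext fun Z a b e => hc.hom_ext e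
  let φ : ∀ U : C, (Σ i, (D.obj i).obj.obj (op U)) → G.obj (op (eps J U)) :=
    fun U z => G.map (epsDesc z.2).op (x z.1)
  have hφ : ∀ {U V : C} (g : V ⟶ U) (z : Σ i, (D.obj i).obj.obj (op U)),
      φ V ⟨z.1, (D.obj z.1).obj.map g.op z.2⟩ = G.map (epsMap g).op (φ U z) := fun g z => by
    show G.map _ _ = G.map _ (G.map _ _)
    rw [← Functor.map_comp_apply, ← op_comp]
    congr 3
    apply congrArg Quiver.Hom.op
    apply eps_hom_ext
    refine (epsDesc_gen _).trans ?_
    refine Eq.trans ?_ (congrArg ((epsDesc z.2).hom.app _) (epsMap_gen g)).symm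
    rw [NatTrans.naturality_apply, epsDesc_gen]
  let P : Cᵒᵖ ⥤ Type u :=
    { obj := fun U => Quotient (Setoid.ker (φ U.unop))
      map := fun {U V} g => TypeCat.ofHom <| Quotient.lift
        (fun z => Quotient.mk (Setoid.ker (φ V.unop)) ⟨z.1, (D.obj z.1).obj.map g z.2⟩) fun z z' e => by
          refine Quotient.sound ?_
          show φ V.unop _ = φ V.unop _
          exact (hφ g.unop z).trans ((congrArg (G.map (epsMap g.unop).op) e).trans (hφ g.unop z').symm)
      map_id := fun U => by
        ext q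
        induction q using Quotient.ind with
        | _ z => exact congrArg (Quotient.mk _) (Sigma.ext rfl (heq_of_eq (by simp)))
      map_comp := fun {U V W} g g' => by
        ext q
        induction q using Quotient.ind with
        | _ z => exact congrArg (Quotient.mk _) (congrArg (Sigma.mk z.1) (Functor.map_comp_apply (D.obj z.1).obj g g' z.2)) }
  let leg : ∀ i, (D.obj i).obj ⟶ P := fun i =>
    { app := fun U => TypeCat.ofHom fun z => Quotient.mk _ ⟨i, z⟩
      naturality := fun U V g => by ext z; rfl }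
  let s : Cocone D :=
    { pt := (presheafToSheaf J (Type u)).obj P
      ι :=
        { app := fun i => ⟨leg i ≫ toSheafify J P⟩
          naturality := fun i j a => by
            apply CategoryTheory.Sheaf.hom_ext
            ext U z
            show (toSheafify J P).app U (Quotient.mk _ ⟨j, (D.map a).hom.app U z⟩) =
              (toSheafify J P).app U (Quotient.mk _ ⟨i, z⟩)
            refine congrArg _ (Quotient.sound ?_)
            show G.map _ (x j) = G.map _ (x i)
            rw [← hx i j a, ← Functor.map_comp_apply, ← op_comp]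
            congr 3
            apply congrArg Quiver.Hom.op
            apply eps_hom_ext
            refine (epsDesc_gen _).trans ?_
            exact (congrArg ((D.map a).hom.app U) (epsDesc_gen (V := U.unop) z)).symm } }
  have key : ∀ (U : C) (i j : I) (z : (D.obj i).obj.obj (op U)) (z' : (D.obj j).obj.obj (op U)),
      (c.ι.app i).hom.app (op U) z = (c.ι.app j).hom.app (op U) z' → φ U ⟨i, z⟩ = φ U ⟨j, z'⟩ := by
    intro U i j z z' e
    have e' : (toSheafify J P).app (op U) (Quotient.mk _ ⟨i, z⟩) = (toSheafify J P).app (op U) (Quotient.mk _ ⟨j, z'⟩) := by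
      have h₁ := congrArg (fun r : D.obj i ⟶ s.pt => r.hom.app (op U) z) (hc.fac s i)
      have h₂ := congrArg (fun r : D.obj j ⟶ s.pt => r.hom.app (op U) z') (hc.fac s j)
      exact h₁.symm.trans ((congrArg ((hc.desc s).hom.app (op U)) e).trans h₂)
    have hR := Presheaf.equalizerSieve_mem J (toSheafify J P)
      (X := op U) (Quotient.mk (Setoid.ker (φ U)) ⟨i, z⟩) (Quotient.mk (Setoid.ker (φ U)) ⟨j, z'⟩) e'
    let R := Presheaf.equalizerSieve (F := P) (X := op U) (Quotient.mk (Setoid.ker (φ U)) ⟨i, z⟩)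
      (Quotient.mk (Setoid.ker (φ U)) ⟨j, z'⟩)
    refine h.separated (ι := Σ V : C, {g : V ⟶ U // R.arrows g}) ((cov_epsMap_iff _ fun a => a.2.1).2
      (J.superset_covering (fun V g hg => Sieve.ofArrows_mk _ (fun a : (Σ V : C, {g : V ⟶ U // R.arrows g}) => a.2.1)
        ⟨V, g, hg⟩) hR)) fun a => ?_
    rw [← hφ a.2.1 ⟨i, z⟩, ← hφ a.2.1 ⟨j, z'⟩]
    exact Quotient.exact a.2.2
  refine h _ hcov x fun i j Z gi gj hg => h.separated (cov_all_eps Z) fun a => ?_
  have := key a.1 i j (gi.hom.app _ a.2) (gj.hom.app _ a.2)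
    (congrArg (fun r : Z ⟶ c.pt => r.hom.app (op a.1) a.2) hg)
  rw [← Functor.map_comp_apply, ← op_comp, ← Functor.map_comp_apply, ← op_comp]
  have aux : ∀ {k} (g : Z ⟶ D.obj k), epsDesc a.2 ≫ g = epsDesc (g.hom.app (op a.1) a.2) := fun g =>
    eps_hom_ext (by rw [epsDesc_gen]; exact congrArg (g.hom.app _) (epsDesc_gen a.2))
  rw [aux, aux]
  exact this

theorem glue_of_presLim (h : PresLim G) : Glue G := by
  intro ι F X π hπ x hx
  have hep : ∀ {A Y : Sh J} (q : A ⟶ Y), Cov (fun _ : PUnit.{1} => q) → ∀ y : G.obj (op A),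
      G.map (pullback.fst q q).op y = G.map (pullback.snd q q).op y → ∃! t, G.map q.op t = y := by
    intro A Y q hq y hy
    have hcol : IsColimit (Cofork.ofπ q pullback.condition) := by
      choose l hl using fun s : Cofork (pullback.fst q q) (pullback.snd q q) =>
        hq.exists_desc (fun _ => s.π) fun _ _ => s.condition
      exact Cofork.IsColimit.mk _ l (fun s => hl s PUnit.unit)
        fun s m hm => hq.hom_ext fun _ => hm.trans (hl s PUnit.unit).symm
    let v : ∀ i : WalkingParallelPair, G.obj (op ((parallelPair (pullback.fst q q) (pullback.snd q q)).obj i))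
      | .zero => G.map (pullback.fst q q).op y
      | .one => y
    obtain ⟨t, ht, hu⟩ := h (I := AsSmall.{u} WalkingParallelPair)
      (AsSmall.down ⋙ parallelPair (pullback.fst q q) (pullback.snd q q)) _
      (IsColimit.whiskerEquivalence hcol AsSmall.equiv.symm)
      (fun i => v (AsSmall.down.obj i))
      (by
        have key : ∀ {k l : WalkingParallelPair} (b : k ⟶ l),
            G.map ((parallelPair (pullback.fst q q) (pullback.snd q q)).map b).op (v l) = v k := by
          intro k l b
          cases b with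
          | left => rfl
          | right => exact hy.symm
          | id k =>
            show G.map ((parallelPair _ _).map (𝟙 k)).op (v k) = v k
            simp
        intro i j a
        exact key (AsSmall.down.map a))
    refine ⟨t, ht (AsSmall.up.obj .one), fun t' ht' => hu t' ?_⟩
    intro i
    show G.map ((Cofork.ofπ q pullback.condition).ι.app (AsSmall.down.obj i)).op t' = v _
    generalize AsSmall.down.obj i = k
    cases k with
    | zero =>
      show G.map (pullback.fst q q ≫ q).op t' = G.map (pullback.fst q q).op y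
      rw [op_comp, Functor.map_comp_apply, ht']
    | one => exact ht'
  have hco : ∀ {κ : Type u} (Y : κ → Sh J) (y : ∀ k, G.obj (op (Y k))),
      ∃! t, ∀ k, G.map (Sigma.ι Y k).op t = y k := fun {κ} Y y => by
    obtain ⟨t, ht, hu⟩ := h (I := Discrete κ) (Discrete.functor Y) _ (coproductIsCoproduct Y) (fun k => y k.as)
      (by rintro ⟨i⟩ ⟨j⟩ ⟨⟨e⟩⟩; cases e; simp)
    exact ⟨t, fun k => ht ⟨k⟩, fun t' ht' => hu t' fun k => ht' k.as⟩
  have hsep : ∀ {κ : Type u} {Y : κ → Sh J} {Z : Sh J} {ρ : ∀ k, Y k ⟶ Z}, Cov ρ → ∀ {s t : G.obj (op Z)},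
      (∀ k, G.map (ρ k).op s = G.map (ρ k).op t) → s = t := by
    intro κ Y Z ρ hρ s t e
    have hq : Cov (fun _ : PUnit.{1} => Sigma.desc ρ) :=
      hρ.refine fun k => ⟨PUnit.unit, Sigma.ι Y k, Sigma.ι_desc _ _⟩
    refine (hep _ hq (G.map (Sigma.desc ρ).op t) ?_).unique ?_ rfl
    · rw [← Functor.map_comp_apply, ← Functor.map_comp_apply, ← op_comp, ← op_comp, pullback.condition]
    · refine (hco Y fun k => G.map (ρ k).op t).unique (fun k => ?_) fun k => ?_
      · rw [← Functor.map_comp_apply, ← op_comp, Sigma.ι_desc, e]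
      · rw [← Functor.map_comp_apply, ← op_comp, Sigma.ι_desc]
  obtain ⟨y, hy, hyu⟩ := hco F x
  let q := Sigma.desc π
  have hq : Cov (fun _ : PUnit.{1} => q) := hπ.refine fun k => ⟨PUnit.unit, Sigma.ι F k, Sigma.ι_desc _ _⟩
  have hι : Cov (Sigma.ι F) := cov_of_hom_ext fun Z a b e => Sigma.hom_ext _ _ e
  have hp : G.map (pullback.fst q q).op y = G.map (pullback.snd q q).op y := by
    refine hsep (hι.pullback_snd (pullback.fst q q)) fun i => ?_
    refine hsep (hι.pullback_snd (pullback.snd (Sigma.ι F i) (pullback.fst q q) ≫ pullback.snd q q)) fun j => ?_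
    simp only [← Functor.map_comp_apply, ← op_comp]
    have e₁ : pullback.snd (Sigma.ι F j) (pullback.snd (Sigma.ι F i) (pullback.fst q q) ≫ pullback.snd q q) ≫
        pullback.snd (Sigma.ι F i) (pullback.fst q q) ≫ pullback.fst q q =
        (pullback.snd (Sigma.ι F j) _ ≫ pullback.fst (Sigma.ι F i) (pullback.fst q q)) ≫ Sigma.ι F i := by
      simp [pullback.condition]
    have e₂ : pullback.snd (Sigma.ι F j) (pullback.snd (Sigma.ι F i) (pullback.fst q q) ≫ pullback.snd q q) ≫
        pullback.snd (Sigma.ι F i) (pullback.fst q q) ≫ pullback.snd q q =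
        pullback.fst (Sigma.ι F j) _ ≫ Sigma.ι F j := pullback.condition.symm
    rw [e₁, e₂]
    simp only [op_comp, Functor.map_comp_apply, hy]
    simp only [← Functor.map_comp_apply, ← op_comp]
    refine hx i j _ _ _ ?_
    have hiq : ∀ k, π k = Sigma.ι F k ≫ q := fun k => (Sigma.ι_desc _ _).symm
    rw [hiq, hiq, ← Category.assoc, ← e₁, ← Category.assoc _ (Sigma.ι F j) q, ← e₂]
    simp [pullback.condition]
  obtain ⟨t, ht, htu⟩ := hep q hq y hp
  refine ⟨t, fun i => ?_, fun t' ht' => htu t' (hyu _ fun i => ?_)⟩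
  · rw [← hy i, ← ht, ← Functor.map_comp_apply, ← op_comp, Sigma.ι_desc]
  · show G.map (Sigma.ι F i).op (G.map q.op t') = x i
    rw [← Functor.map_comp_apply, ← op_comp, Sigma.ι_desc, ht']

theorem presLim_of_preservesLimits (h : PreservesLimitsOfSize.{u, u} G) : PresLim G := by
  intro I _ D c hc x hx
  have h' := (Types.isLimit_iff (G.mapCone c.op)).1 ⟨isLimitOfPreserves G hc.op⟩ (fun i => x i.unop)
    fun {i j} a => hx j.unop i.unop a.unop
  obtain ⟨t, ht, hu⟩ := h'
  exact ⟨t, fun i => ht (op i), fun t' ht' => hu t' fun i => ht' i.unop⟩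

theorem preservesLimits_of_presLim (h : PresLim G) : PreservesLimitsOfSize.{u, u} G :=
  ⟨fun {I} _ => ⟨fun {K} => ⟨fun {c} hc => by
    refine (Types.isLimit_iff (G.mapCone c)).2 fun s hs => ?_
    obtain ⟨t, ht, hu⟩ := h K.leftOp _ (isColimitCoconeLeftOpOfCone K hc) (fun i => s i.unop)
      fun i j a => hs a.unop
    exact ⟨t, fun i => ht (op i), fun t' ht' => hu t' fun i => ht' i.unop⟩⟩⟩⟩

theorem isSheaf_iff_preservesLimits :
    Presieve.IsSheaf (Sheaf.canonicalTopology (Sh J)) G ↔ PreservesLimitsOfSize.{u, u} G :=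
  ⟨fun h => preservesLimits_of_presLim (presLim_of_glue (glue_of_isSheaf h)),
    fun h => isSheaf_of_glue (glue_of_presLim (presLim_of_preservesLimits h))⟩

theorem presheaf_isSheaf_iff_preservesLimits {E' : Type v} [Category.{w} E'] (F : (Sh J)ᵒᵖ ⥤ E') :
    Presheaf.IsSheaf (Sheaf.canonicalTopology (Sh J)) F ↔ PreservesLimitsOfSize.{u, u} F := by
  constructor
  · intro h
    refine ⟨fun {I} _ => ⟨fun {K} => ⟨fun {c} hc => ⟨?_⟩⟩⟩⟩
    exact coyonedaJointlyReflectsLimits _ _ fun E =>
      haveI := isSheaf_iff_preservesLimits.1 (h E.unop)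
      isLimitOfPreserves (F ⋙ coyoneda.obj E) hc
  · intro h E
    exact isSheaf_iff_preservesLimits.2 inferInstance

end Groth.Agent.ToposFinLib
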