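import Groth.Agent.ToposFinLib.Eps

/-!
# Filtered colimits and morphisms out of quasi-compact and coherent objects
-/

set_option autoImplicit false
set_option backward.isDefEq.respectTransparency false
set_option linter.unusedVariables false

universe v u

open CategoryTheory CategoryTheory.Limits Opposite ToposFin

namespace Groth.Agent.ToposFinLib

variable {C : Type u} [SmallCategory C] {J : GrothendieckTopology C} {X : Sh J}
  {I : Type u} [SmallCategory I]

theorem cov_ι_of_isColimit {D : I ⥤ Sh J} {c : Cocone D} (hc : IsColimit c) : Cov (fun i => c.ι.app i) :=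
  cov_of_hom_ext fun _ _ _ e => hc.hom_ext e

variable [IsFiltered I]

theorem locally_eq_at_stage {D : I ⥤ Sh J} {c : Cocone D} (hc : IsColimit c) (i : I) {U : C}
    (z z' : (D.obj i).obj.obj (op U)) (e : (c.ι.app i).hom.app (op U) z = (c.ι.app i).hom.app (op U) z') :
    ∃ S ∈ J U, ∀ ⦃W : C⦄ (g : W ⟶ U), S g → ∃ (j : I) (u : i ⟶ j),
      (D.map u).hom.app (op W) ((D.obj i).obj.map g.op z) =
        (D.map u).hom.app (op W) ((D.obj i).obj.map g.op z') := by
  let c₀ := colimit.cocone (D ⋙ sheafToPresheaf J (Type u))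
  have hs := Sheaf.isColimitSheafifyCocone c₀ (colimit.isColimit _)
  have heq := congrArg ((hc.coconePointUniqueUpToIso hs).hom.hom.app (op U)) e
  have hι := hc.comp_coconePointUniqueUpToIso_hom hs i
  have happ : ∀ w, (hc.coconePointUniqueUpToIso hs).hom.hom.app (op U) ((c.ι.app i).hom.app (op U) w) =
      ((Sheaf.sheafifyCocone c₀).ι.app i).hom.app (op U) w := fun w =>
    congrArg (fun q : D.obj i ⟶ _ => q.hom.app (op U) w) hι
  rw [happ, happ] at heq
  have key : ((Sheaf.sheafifyCocone c₀).ι.app i).hom = c₀.ι.app i ≫ toSheafify J c₀.pt := by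
    have hn := toSheafify_naturality J (c₀.ι.app i)
    show ((asIso (sheafificationAdjunction J (Type u)).counit).symm.hom.app (D.obj i) ≫
      (presheafToSheaf J (Type u)).map (c₀.ι.app i)).hom = _
    have hu : ((asIso (sheafificationAdjunction J (Type u)).counit).symm.hom.app (D.obj i)).hom =
        toSheafify J (D.obj i).obj := by
      have := congrArg (fun q => q.hom) ((asIso (sheafificationAdjunction J (Type u)).counit).inv_hom_id_app (D.obj i))
      have hw := (sheafificationAdjunction J (Type u)).right_triangle_components (D.obj i)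
      rw [← cancel_mono (((sheafificationAdjunction J (Type u)).counit.app (D.obj i)).hom)]
      exact this.trans hw.symm
    rw [ObjectProperty.FullSubcategory.comp_hom, hu]
    exact hn.symm
  rw [key] at heq
  refine ⟨_, Presheaf.equalizerSieve_mem J (toSheafify J c₀.pt) (X := op U) _ _ heq, fun W g hg => ?_⟩
  have hg' : (c₀.ι.app i).app (op W) ((D.obj i).obj.map g.op z) =
      (c₀.ι.app i).app (op W) ((D.obj i).obj.map g.op z') :=
    (NatTrans.naturality_apply (c₀.ι.app i) g.op z).trans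
      (hg.trans (NatTrans.naturality_apply (c₀.ι.app i) g.op z').symm)
  exact (Types.FilteredColimit.isColimit_eq_iff'
    (isColimitOfPreserves ((evaluation Cᵒᵖ (Type u)).obj (op W))
      (colimit.isColimit (D ⋙ sheafToPresheaf J (Type u)))) _ _).1 hg'

/-- Two morphisms from a quasi-compact object equal in a filtered colimit are equal at a later stage. -/
theorem exists_stage_eq (hX : IsQC X) {D : I ⥤ Sh J} {c : Cocone D} (hc : IsColimit c) (i : I)
    (h h' : X ⟶ D.obj i) (e : h ≫ c.ι.app i = h' ≫ c.ι.app i) :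
    ∃ (j : I) (u : i ⟶ j), h ≫ D.map u = h' ≫ D.map u := by
  classical
  let ι := Σ j : I, (i ⟶ j)
  have hπ : Cov (fun p : ι => equalizer.ι (h ≫ D.map p.2) (h' ≫ D.map p.2)) := by
    intro U y
    obtain ⟨S, hS, hS'⟩ := locally_eq_at_stage hc i (h.hom.app (op U) y) (h'.hom.app (op U) y)
      (congrArg (fun q : X ⟶ c.pt => q.hom.app (op U) y) e)
    refine J.superset_covering (fun W g hg => ?_) hS
    obtain ⟨j, u, hu⟩ := hS' g hg
    rw [← NatTrans.naturality_apply, ← NatTrans.naturality_apply] at hu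
    have hw : epsDesc (X.obj.map g.op y) ≫ h ≫ D.map u = epsDesc (X.obj.map g.op y) ≫ h' ≫ D.map u := by
      refine eps_hom_ext ?_
      show (D.map u).hom.app _ (h.hom.app _ ((epsDesc (X.obj.map g.op y)).hom.app _ _)) =
        (D.map u).hom.app _ (h'.hom.app _ ((epsDesc (X.obj.map g.op y)).hom.app _ _))
      rw [epsDesc_gen]
      exact hu
    refine ⟨⟨j, u⟩, (equalizer.lift _ hw).hom.app (op W) (epsGen J W), ?_⟩
    exact (congrArg (fun q : eps J W ⟶ X => q.hom.app (op W) (epsGen J W)) (equalizer.lift_ι _ hw)).trans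
      (epsDesc_gen _)
  obtain ⟨s, hs⟩ := isQC_iff.1 hX _ _ _ hπ
  obtain ⟨k, hO, T, hT⟩ := IsFiltered.wideSpan (fun p : s => p.1.2)
  refine ⟨k, hO, hs.hom_ext fun p => ?_⟩
  rw [← hT p, D.map_comp]
  simpa only [Category.assoc] using
    congrArg (· ≫ D.map (T p)) (equalizer.condition (h ≫ D.map p.1.2) (h' ≫ D.map p.1.2))

/-- A morphism from a coherent object into a filtered colimit factors through a stage. -/
theorem exists_stage_factor (hE : Gen (J := J) IsQC) (hX : IsCoherent X) {D : I ⥤ Sh J} {c : Cocone D}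
    (hc : IsColimit c) (y : X ⟶ c.pt) : ∃ (i : I) (h : X ⟶ D.obj i), h ≫ c.ι.app i = y := by
  classical
  obtain ⟨κ, hκ, K, a, t, hK, hcov⟩ := exists_finite_gen hE hX.1 ((cov_ι_of_isColimit hc).pullback_snd y)
  have := Fintype.ofFinite κ
  let π : ∀ k, K k ⟶ X := fun k => t k ≫ pullback.snd (c.ι.app (a k)) y
  obtain ⟨j₀, hj₀⟩ := IsFiltered.sup_objs_exists (Finset.univ.image a)
  let u : ∀ k, a k ⟶ j₀ := fun k => (hj₀ (Finset.mem_image_of_mem a (Finset.mem_univ k))).some
  let h₀ : ∀ k, K k ⟶ D.obj j₀ := fun k => t k ≫ pullback.fst (c.ι.app (a k)) y ≫ D.map (u k)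
  have hh₀ : ∀ k, h₀ k ≫ c.ι.app j₀ = π k ≫ y := fun k => by
    simp only [h₀, π, Category.assoc, c.w, pullback.condition]
  have hstage : ∀ p : κ × κ, ∃ (j : I) (v : j₀ ⟶ j),
      (pullback.fst (π p.1) (π p.2) ≫ h₀ p.1) ≫ D.map v = (pullback.snd (π p.1) (π p.2) ≫ h₀ p.2) ≫ D.map v :=
    fun p => exists_stage_eq (hX.2 _ _ _ _ (hK p.1) (hK p.2)) hc j₀ _ _ (by
      simp only [Category.assoc, hh₀, pullback.condition_assoc])
  choose j v hv using hstage
  obtain ⟨k, hO, T, hT⟩ := IsFiltered.wideSpan v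
  obtain ⟨h, hh⟩ := hcov.exists_desc (fun i => h₀ i ≫ D.map hO) fun a b => by
    rw [← hT (a, b), D.map_comp, ← Category.assoc, ← Category.assoc, ← Category.assoc, ← Category.assoc]
    exact congrArg (· ≫ D.map (T (a, b))) (hv (a, b))
  refine ⟨k, h, hcov.hom_ext fun i => ?_⟩
  rw [← Category.assoc, hh, Category.assoc, c.w, hh₀]

section Post

variable (X) (D : I ⥤ Sh J)

theorem post_ι_apply (i : I) (h : X ⟶ D.obj i) :
    colimit.post D (coyoneda.obj (op X)) (colimit.ι (D ⋙ coyoneda.obj (op X)) i h) = h ≫ colimit.ι D i := by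
  have := ConcreteCategory.congr_hom (colimit.ι_post D (coyoneda.obj (op X)) i) h
  exact this

theorem injective_post_iff : Function.Injective (colimit.post D (coyoneda.obj (op X))) ↔
    ∀ (i : I) (h h' : X ⟶ D.obj i), h ≫ colimit.ι D i = h' ≫ colimit.ι D i →
      ∃ (j : I) (u : i ⟶ j), h ≫ D.map u = h' ≫ D.map u := by
  constructor
  · intro hinj i h h' e
    obtain ⟨j, u, hu⟩ := (Types.FilteredColimit.isColimit_eq_iff'
      (colimit.isColimit (D ⋙ coyoneda.obj (op X))) h h').1
      (hinj ((post_ι_apply X D i h).trans (e.trans (post_ι_apply X D i h').symm)))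
    exact ⟨j, u, hu⟩
  · intro hh x y e
    obtain ⟨i, a, b, rfl, rfl⟩ := Types.FilteredColimit.jointly_surjective_of_isColimit₂
      (colimit.isColimit (D ⋙ coyoneda.obj (op X))) x y
    have e' : a ≫ colimit.ι D i = b ≫ colimit.ι D i :=
      (post_ι_apply X D i a).symm.trans (e.trans (post_ι_apply X D i b))
    obtain ⟨j, u, hu⟩ := hh i a b e'
    exact (Types.FilteredColimit.isColimit_eq_iff'
      (colimit.isColimit (D ⋙ coyoneda.obj (op X))) a b).2 ⟨j, u, hu⟩

theorem surjective_post_iff : Function.Surjective (colimit.post D (coyoneda.obj (op X))) ↔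
    ∀ y : X ⟶ colimit D, ∃ (i : I) (h : X ⟶ D.obj i), h ≫ colimit.ι D i = y := by
  refine ⟨fun hs y => ?_, fun hs y => ?_⟩
  · obtain ⟨x, hx⟩ := hs y
    obtain ⟨i, a, rfl⟩ := Types.jointly_surjective' x
    exact ⟨i, a, (post_ι_apply X D i a).symm.trans hx⟩
  · obtain ⟨i, h, hh⟩ := hs y
    exact ⟨colimit.ι (D ⋙ coyoneda.obj (op X)) i h, (post_ι_apply X D i h).trans hh⟩

end Post

theorem isFP_of_isCoherent {X : Sh J} (hE : Gen (J := J) IsQC) (hX : IsCoherent X) : IsFP X := fun I' _ _ D =>
  ⟨(injective_post_iff X D).2 fun i h h' e => exists_stage_eq hX.1 (colimit.isColimit D) i h h' e,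
    (surjective_post_iff X D).2 fun y => exists_stage_factor hE hX (colimit.isColimit D) y⟩

end Groth.Agent.ToposFinLib
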