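import Groth.Agent.ToposFinLib.Tame
import Mathlib.CategoryTheory.Abelian.FunctorCategory

/-!
# Ext groups out of free sheaves on tame objects commute with filtered colimits
-/

set_option autoImplicit false
set_option backward.isDefEq.respectTransparency false
set_option linter.unusedVariables false

universe u

open CategoryTheory CategoryTheory.Limits Opposite ToposFin Abelian Groth.Agent.SiteBase

namespace Groth.Agent.ToposFinLib

variable {C : Type u} [SmallCategory C] {J : GrothendieckTopology C} {Λ : Type u} [SmallCategory Λ]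

section Cofree

variable (D : Λ ⥤ Sheaf J AddCommGrpCat.{u})

lemma π_congr {j k : Λ} {w w' : j ⟶ k} (h : w = w') :
    (Pi.π (fun p : Σ k, (j ⟶ k) => Injective.under (D.obj p.1)) ⟨k, w⟩ :
        (∏ᶜ fun p : Σ k, (j ⟶ k) => Injective.under (D.obj p.1)) ⟶ Injective.under (D.obj k)) =
      Pi.π (fun p : Σ k, (j ⟶ k) => Injective.under (D.obj p.1)) ⟨k, w'⟩ := by
  subst h; rfl

/-- The cofree diagram of injectives. -/
noncomputable def cofreeInj : Λ ⥤ Sheaf J AddCommGrpCat.{u} where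
  obj j := ∏ᶜ fun p : Σ k, (j ⟶ k) => Injective.under (D.obj p.1)
  map {j j'} v := Pi.lift fun p : Σ k, (j' ⟶ k) =>
    Pi.π (fun p : Σ k, (j ⟶ k) => Injective.under (D.obj p.1)) ⟨p.1, v ≫ p.2⟩
  map_id j := Pi.hom_ext _ _ fun p => by
    exact (Pi.lift_π _ _).trans ((π_congr D (Category.id_comp p.2)).trans (Category.id_comp _).symm)
  map_comp {j j' j''} v w := Pi.hom_ext _ _ fun p => by
    simp only [Pi.lift_π, Category.assoc]
    exact π_congr D (Category.assoc v w p.2)

/-- The embedding into the cofree diagram of injectives. -/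
noncomputable def toCofreeInj : D ⟶ cofreeInj D where
  app j := Pi.lift fun p : Σ k, (j ⟶ k) => D.map p.2 ≫ Injective.ι _
  naturality j j' v := Pi.hom_ext _ _ fun p => by
    simp [cofreeInj]

instance injective_cofreeInj (j : Λ) : Injective ((cofreeInj D).obj j) :=
  inferInstanceAs (Injective (∏ᶜ fun p : Σ k, (j ⟶ k) => Injective.under (D.obj p.1)))

instance mono_toCofreeInj_app (j : Λ) : Mono ((toCofreeInj D).app j) :=
  ⟨fun {Z} a b e => by
    have := congrArg (· ≫ Pi.π (fun p : Σ k, (j ⟶ k) => Injective.under (D.obj p.1)) ⟨j, 𝟙 j⟩) e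
    simp [toCofreeInj] at this
    exact (cancel_mono (Injective.ι (D.obj j))).1 this⟩

/-- A functorial injective presentation. -/
noncomputable abbrev cofreeSES : ShortComplex (Λ ⥤ Sheaf J AddCommGrpCat.{u}) :=
  ShortComplex.mk (toCofreeInj D) (cokernel.π (toCofreeInj D)) (cokernel.condition _)

theorem shortExact_cofreeSES : (cofreeSES D).ShortExact := by
  haveI : Mono (toCofreeInj D) := NatTrans.mono_of_mono_app _
  exact { exact := ShortComplex.exact_of_g_is_cokernel _ (cokernelIsCokernel _) }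

end Cofree

variable [IsFiltered Λ]

/-- `Ext^q(P, -)` commutes with filtered colimits, elementwise. -/
structure Comm (P : Sheaf J AddCommGrpCat.{u}) (q : ℕ) (D : Λ ⥤ Sheaf J AddCommGrpCat.{u}) : Prop where
  surj : ∀ x : Ext P (colimit D) q, ∃ (i : Λ) (y : Ext P (D.obj i) q),
    y.comp (Ext.mk₀ (colimit.ι D i)) (add_zero q) = x
  inj : ∀ (i : Λ) (y : Ext P (D.obj i) q), y.comp (Ext.mk₀ (colimit.ι D i)) (add_zero q) = 0 →
    ∃ (j : Λ) (u : i ⟶ j), y.comp (Ext.mk₀ (D.map u)) (add_zero q) = 0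

/-- The stage short exact sequence. -/
noncomputable abbrev stageSES (D : Λ ⥤ Sheaf J AddCommGrpCat.{u}) (i : Λ) :
    ShortComplex (Sheaf J AddCommGrpCat.{u}) :=
  (cofreeSES D).map ((evaluation Λ (Sheaf J AddCommGrpCat.{u})).obj i)

/-- The short exact sequence of colimits. -/
noncomputable abbrev colimSES (D : Λ ⥤ Sheaf J AddCommGrpCat.{u}) : ShortComplex (Sheaf J AddCommGrpCat.{u}) :=
  (cofreeSES D).map colim

/-- From a stage to the colimit. -/
noncomputable def stageToColim (D : Λ ⥤ Sheaf J AddCommGrpCat.{u}) (i : Λ) : stageSES D i ⟶ colimSES D where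
  τ₁ := colimit.ι D i
  τ₂ := colimit.ι (cofreeInj D) i
  τ₃ := colimit.ι (cokernel (toCofreeInj D)) i
  comm₁₂ := colimit.ι_map _ _
  comm₂₃ := colimit.ι_map _ _

/-- Between stages. -/
noncomputable def stageMap (D : Λ ⥤ Sheaf J AddCommGrpCat.{u}) {i j : Λ} (u : i ⟶ j) :
    stageSES D i ⟶ stageSES D j where
  τ₁ := D.map u
  τ₂ := (cofreeInj D).map u
  τ₃ := (cokernel (toCofreeInj D)).map u
  comm₁₂ := (toCofreeInj D).naturality u
  comm₂₃ := (cokernel.π (toCofreeInj D)).naturality u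

omit [IsFiltered Λ] in
theorem shortExact_stageSES (D : Λ ⥤ Sheaf J AddCommGrpCat.{u}) (i : Λ) : (stageSES D i).ShortExact :=
  (shortExact_cofreeSES D).map_of_exact _

theorem shortExact_colimSES (D : Λ ⥤ Sheaf J AddCommGrpCat.{u}) : (colimSES D).ShortExact :=
  (shortExact_cofreeSES D).map_of_exact _

theorem conn_natural {S T : ShortComplex (Sheaf J AddCommGrpCat.{u})} (hS : S.ShortExact) (hT : T.ShortExact)
    (α : S ⟶ T) {P : Sheaf J AddCommGrpCat.{u}} {q : ℕ} (z : Ext P S.X₃ q) :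
    (z.comp hS.extClass rfl).comp (Ext.mk₀ α.τ₁) (add_zero (q + 1)) =
      (z.comp (Ext.mk₀ α.τ₃) (add_zero q)).comp hT.extClass rfl := by
  rw [Ext.comp_assoc_of_third_deg_zero, ShortComplex.ShortExact.extClass_naturality hS hT α,
    Ext.comp_assoc_of_second_deg_zero]

section

variable {K : Sh J} {Q : Sh J → Prop} (hgen : Gen Q) (hQ : ∀ A, Q A → IsCoherent A)

include hgen hQ

theorem comm_zero (hK : IsCoherent K) (D : Λ ⥤ Sheaf J AddCommGrpCat.{u}) : Comm (freeSh K) 0 D where
  surj x := by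
    obtain ⟨φ, rfl⟩ := (Ext.mk₀_bijective _ _).2 x
    obtain ⟨i, ψ, hψ⟩ := exists_hom_stage D hgen hQ hK (colimit.isColimit D) φ
    exact ⟨i, Ext.mk₀ ψ, by rw [Ext.mk₀_comp_mk₀]; exact congrArg Ext.mk₀ hψ⟩
  inj i y hy := by
    obtain ⟨φ, rfl⟩ := (Ext.mk₀_bijective _ _).2 y
    rw [Ext.mk₀_comp_mk₀, ← Ext.mk₀_zero] at hy
    obtain ⟨j, u, hu⟩ := exists_hom_stage_eq D hK.1 (colimit.isColimit D) i φ 0
      (((Ext.mk₀_bijective _ _).1 hy).trans zero_comp.symm)
    exact ⟨j, u, by rw [Ext.mk₀_comp_mk₀, hu, zero_comp, Ext.mk₀_zero]⟩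

theorem comm_succ (hK : Tame K) (q : ℕ) (ih : ∀ D : Λ ⥤ Sheaf J AddCommGrpCat.{u}, Comm (freeSh K) q D)
    (D : Λ ⥤ Sheaf J AddCommGrpCat.{u}) : Comm (freeSh K) (q + 1) D := by
  have hI : Subsingleton (Ext (freeSh K) (colimit (cofreeInj D)) (q + 1)) :=
    subsingleton_ext_of_tameKill hgen hQ _
      (tameKill_colimit (cofreeInj D) hgen hQ (injective_cofreeInj D) (colimit.isColimit _)) K hK q
  have hSc := shortExact_colimSES D
  refine ⟨fun x => ?_, fun i y hy => ?_⟩
  · obtain ⟨z, hz⟩ := Ext.covariant_sequence_exact₁ (freeSh K) hSc x (hI.elim _ _) (rfl : q + 1 = q + 1)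
    obtain ⟨i, w, hw⟩ := (ih (cokernel (toCofreeInj D))).surj z
    refine ⟨i, w.comp (shortExact_stageSES D i).extClass rfl, ?_⟩
    refine (conn_natural (shortExact_stageSES D i) hSc (stageToColim D i) w).trans ?_
    exact (congrArg (fun t => Ext.comp t hSc.extClass rfl) hw).trans hz
  · have : Injective (stageSES D i).X₂ := injective_cofreeInj D i
    obtain ⟨z, hz⟩ := Ext.covariant_sequence_exact₁ (freeSh K) (shortExact_stageSES D i) y
      (haveI := Ext.subsingleton_of_injective (freeSh K) (stageSES D i).X₂ q; Subsingleton.elim _ _)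
      (rfl : q + 1 = q + 1)
    subst hz
    have h0 : (z.comp (Ext.mk₀ (stageToColim D i).τ₃) (add_zero q)).comp hSc.extClass rfl = 0 :=
      (conn_natural (shortExact_stageSES D i) hSc (stageToColim D i) z).symm.trans hy
    obtain ⟨a, ha⟩ := Ext.covariant_sequence_exact₃ (freeSh K) hSc _ rfl h0
    obtain ⟨j, b, hb⟩ := (ih (cofreeInj D)).surj a
    obtain ⟨k, f, g, -⟩ : ∃ (k : Λ) (f : i ⟶ k) (g : j ⟶ k), True :=
      ⟨IsFiltered.max i j, IsFiltered.leftToMax i j, IsFiltered.rightToMax i j, trivial⟩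
    let r := (b.comp (Ext.mk₀ ((cofreeInj D).map g)) (add_zero q)).comp (Ext.mk₀ (stageSES D k).g) (add_zero q)
    let s := z.comp (Ext.mk₀ (stageMap D f).τ₃) (add_zero q)
    have hrs : (s - r).comp (Ext.mk₀ (colimit.ι (cokernel (toCofreeInj D)) k)) (add_zero q) = 0 := by
      rw [sub_eq_add_neg, Ext.add_comp, Ext.neg_comp, ← sub_eq_add_neg, sub_eq_zero]
      simp only [r, s, Ext.comp_assoc_of_third_deg_zero, Ext.mk₀_comp_mk₀]
      refine Eq.trans (congrArg (fun t => z.comp (Ext.mk₀ t) (add_zero q))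
        (colimit.w (cokernel (toCofreeInj D)) f)) (ha.symm.trans ?_)
      rw [← hb, Ext.comp_assoc_of_third_deg_zero, Ext.mk₀_comp_mk₀]
      refine congrArg (fun t => b.comp (Ext.mk₀ t) (add_zero q)) ?_
      exact ((congrArg (· ≫ (colimSES D).g) (colimit.w (cofreeInj D) g).symm).trans (Category.assoc _ _ _)).trans
        (congrArg ((cofreeInj D).map g ≫ ·) (stageToColim D k).comm₂₃)
    obtain ⟨l, t, ht⟩ := (ih (cokernel (toCofreeInj D))).inj k (s - r) hrs
    refine ⟨l, f ≫ t, ?_⟩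
    have h1 := conn_natural (shortExact_stageSES D i) (shortExact_stageSES D l) (stageMap D (f ≫ t)) z
    refine h1.trans ?_
    have h2 : z.comp (Ext.mk₀ (stageMap D (f ≫ t)).τ₃) (add_zero q) =
        ((b.comp (Ext.mk₀ ((cofreeInj D).map (g ≫ t))) (add_zero q)).comp (Ext.mk₀ (stageSES D l).g) (add_zero q)) := by
      rw [sub_eq_add_neg, Ext.add_comp, Ext.neg_comp, ← sub_eq_add_neg, sub_eq_zero] at ht
      simp only [r, s, Ext.comp_assoc_of_third_deg_zero, Ext.mk₀_comp_mk₀] at ht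
      rw [Ext.comp_assoc_of_third_deg_zero, Ext.mk₀_comp_mk₀]
      refine Eq.trans (congrArg (fun w => z.comp (Ext.mk₀ w) (add_zero q))
        ((cokernel (toCofreeInj D)).map_comp f t)) (ht.trans ?_)
      refine congrArg (fun w => b.comp (Ext.mk₀ w) (add_zero q)) ?_
      rw [Functor.map_comp, Category.assoc, Category.assoc]
      exact congrArg ((cofreeInj D).map g ≫ ·) (stageMap D t).comm₂₃.symm
    rw [h2, Ext.comp_assoc_of_second_deg_zero, (shortExact_stageSES D l).comp_extClass, Ext.comp_zero]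

theorem comm_all (hK : Tame K) : ∀ (q : ℕ) (D : Λ ⥤ Sheaf J AddCommGrpCat.{u}), Comm (freeSh K) q D
  | 0 => comm_zero hgen hQ hK.1
  | q + 1 => comm_succ hgen hQ hK q (comm_all hK q)

end

theorem Comm.preservesColimit {P : Sheaf J AddCommGrpCat.{u}} {q : ℕ} {D : Λ ⥤ Sheaf J AddCommGrpCat.{u}}
    (h : Comm P q D) : PreservesColimit D ((extFunctor.{u} q).obj (op P)) := by
  haveI : ReflectsColimitsOfShape Λ (CategoryTheory.forget AddCommGrpCat.{u}) :=
    reflectsColimitsOfShape_of_reflectsIsomorphisms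
  refine preservesColimit_of_preserves_colimit_cocone (colimit.isColimit D)
    (isColimitOfReflects (CategoryTheory.forget AddCommGrpCat.{u})
      (Types.FilteredColimit.isColimitOf' _ _ (fun x => ?_) fun i x y e => ?_))
  · obtain ⟨i, y, hy⟩ := h.surj x
    exact ⟨i, y, hy.symm⟩
  · let x' : Ext P (D.obj i) q := x
    let y' : Ext P (D.obj i) q := y
    have e' : x'.comp (Ext.mk₀ (colimit.ι D i)) (add_zero q) = y'.comp (Ext.mk₀ (colimit.ι D i)) (add_zero q) := e
    obtain ⟨j, u, hu⟩ := h.inj i (x' - y') (by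
      rw [sub_eq_add_neg, Ext.add_comp, Ext.neg_comp, e', add_neg_cancel])
    rw [sub_eq_add_neg, Ext.add_comp, Ext.neg_comp, ← sub_eq_add_neg, sub_eq_zero] at hu
    exact ⟨j, u, hu⟩

end Groth.Agent.ToposFinLib
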