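import Groth.Agent.ToposFinLib.Decomp
import Groth.Prelude.Def_SGA4a
import Mathlib.CategoryTheory.Generator.Basic
import Mathlib.CategoryTheory.Limits.Shapes.Pullback.Equifibered

/-!
# Giraud's theorem: from the axioms to a site
-/

set_option autoImplicit false
set_option backward.isDefEq.respectTransparency false
set_option linter.unusedVariables false
set_option linter.style.haveILetI false

universe w w' v u

open CategoryTheory CategoryTheory.Limits Opposite

namespace Groth.Agent.GiraudLib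

section Covering

variable {E : Type v} [Category.{u} E] {ι : Type w} {X : ι → E} {Y : E}

/-- No proper subobject of the target contains all the members of the family. -/
def Covering (f : ∀ i, X i ⟶ Y) : Prop :=
  ∀ ⦃M : E⦄ (m : M ⟶ Y) [Mono m], (∀ i, ∃ k, k ≫ m = f i) → IsIso m

variable {f : ∀ i, X i ⟶ Y}

theorem Covering.hom_ext [HasEqualizers E] (h : Covering f) {Z : E} {a b : Y ⟶ Z}
    (e : ∀ i, f i ≫ a = f i ≫ b) : a = b := by
  haveI := h (equalizer.ι a b) fun i => ⟨equalizer.lift (f i) (e i), equalizer.lift_ι _ _⟩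
  rw [← cancel_epi (equalizer.ι a b)]
  exact equalizer.condition a b

theorem Covering.refine (h : Covering f) {κ : Type w'} {Z : κ → E} {g : ∀ k, Z k ⟶ Y}
    (hf : ∀ i, ∃ (k : κ) (t : X i ⟶ Z k), t ≫ g k = f i) : Covering g := fun M m _ hm => h m fun i => by
  obtain ⟨k, t, ht⟩ := hf i
  obtain ⟨l, hl⟩ := hm k
  exact ⟨t ≫ l, by rw [Category.assoc, hl, ht]⟩

theorem Covering.comp [HasPullbacks E] (h : Covering f) {κ : ι → Type w'} {Z : ∀ i, κ i → E}
    {g : ∀ i k, Z i k ⟶ X i} (h' : ∀ i, Covering (g i)) :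
    Covering (fun p : Σ i, κ i => g p.1 p.2 ≫ f p.1) := fun M m _ hm => h m fun i => by
  haveI := h' i (pullback.snd m (f i)) fun k => by
    obtain ⟨l, hl⟩ := hm ⟨i, k⟩
    exact ⟨pullback.lift l (g i k) hl, pullback.lift_snd _ _ _⟩
  exact ⟨inv (pullback.snd m (f i)) ≫ pullback.fst m (f i), by
    rw [Category.assoc, pullback.condition, IsIso.inv_hom_id_assoc]⟩

theorem covering_of_isColimit {c : Cofan X} (hc : IsColimit c) : Covering c.inj := fun M m _ hm => by
  choose k hk using hm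
  let s := Cofan.IsColimit.desc hc k
  have hs : s ≫ m = 𝟙 c.pt := Cofan.IsColimit.hom_ext hc _ _ fun i => by simp [s, hk]
  exact ⟨s, by rw [← cancel_mono m, Category.assoc, hs, Category.comp_id, Category.id_comp], hs⟩

theorem covering_single_of_effectiveEpi {A : E} (q : A ⟶ Y) [EffectiveEpi q] :
    Covering (fun _ : PUnit.{w + 1} => q) := fun M m _ hm => by
  obtain ⟨k, hk⟩ := hm PUnit.unit
  let s := EffectiveEpi.desc q k fun g₁ g₂ e => by
    rw [← cancel_mono m, Category.assoc, Category.assoc, hk, e]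
  have hs : s ≫ m = 𝟙 Y := by
    rw [← cancel_epi q, EffectiveEpi.fac_assoc, hk, Category.comp_id]
  exact ⟨s, by rw [← cancel_mono m, Category.assoc, hs, Category.comp_id, Category.id_comp], hs⟩

end Covering

variable {E : Type v} [Category.{u} E] [HasFiniteLimits E]
  (hb : SGA4.HasDisjointUniversalCoproducts.{v, u} E)
  (hc : ∀ (R A : E) (p₁ p₂ : R ⟶ A), SGA4.IsEquivRel p₁ p₂ → SGA4.IsEffectiveUniversalEquivRel p₁ p₂)

include hc in
/-- Image factorization. -/
theorem exists_image {A Y : E} (f : A ⟶ Y) : ∃ (B : E) (π : A ⟶ B) (m : B ⟶ Y), Mono m ∧ π ≫ m = f ∧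
    IsPushout (pullback.fst f f) (pullback.snd f f) π π ∧
    ∀ (B' : E) (g : B' ⟶ B), EffectiveEpi (pullback.snd π g) := by
  have hR : SGA4.IsEquivRel (pullback.fst f f) (pullback.snd f f) := fun T =>
    ⟨fun a b e => pullback.hom_ext (congrArg Prod.fst e) (congrArg Prod.snd e),
     ⟨fun a => ⟨pullback.lift a a rfl, pullback.lift_fst _ _ _, pullback.lift_snd _ _ _⟩,
      fun {a b} ⟨l, h₁, h₂⟩ => ⟨pullback.lift b a (by rw [← h₁, ← h₂, Category.assoc, Category.assoc, pullback.condition]),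
        pullback.lift_fst _ _ _, pullback.lift_snd _ _ _⟩,
      fun {a b c} ⟨l, h₁, h₂⟩ ⟨l', h₁', h₂'⟩ => ⟨pullback.lift a c (by
        have e₁ : a ≫ f = b ≫ f := by rw [← h₁, ← h₂, Category.assoc, Category.assoc, pullback.condition]
        have e₂ : b ≫ f = c ≫ f := by rw [← h₁', ← h₂', Category.assoc, Category.assoc, pullback.condition]
        exact e₁.trans e₂), pullback.lift_fst _ _ _, pullback.lift_snd _ _ _⟩⟩⟩
  obtain ⟨B, π, hpb, hpo, hu⟩ := hc _ _ _ _ hR
  refine ⟨B, π, hpo.desc f f pullback.condition, ⟨fun {T} a b e => ?_⟩, hpo.inl_desc _ _ _, hpo, hu⟩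
  haveI := hu T a
  haveI := hu _ (pullback.snd π a ≫ b)
  have h : pullback.snd π (pullback.snd π a ≫ b) ≫ pullback.snd π a ≫ a =
      pullback.snd π (pullback.snd π a ≫ b) ≫ pullback.snd π a ≫ b := by
    rw [← pullback.condition (f := π) (g := pullback.snd π a ≫ b), ← pullback.condition (f := π) (g := a),
      ← Category.assoc]
    let t := pullback.lift (f := f) (g := f)
      (pullback.snd π (pullback.snd π a ≫ b) ≫ pullback.fst π a) (pullback.fst π (pullback.snd π a ≫ b)) (by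
        rw [Category.assoc, ← hpo.inl_desc f f pullback.condition, pullback.condition_assoc,
          ← Category.assoc (pullback.fst π (pullback.snd π a ≫ b)), pullback.condition, e]
        simp only [Category.assoc])
    have := congrArg (t ≫ ·) hpo.w
    simpa [t] using this
  rw [cancel_epi] at h
  rwa [cancel_epi] at h

include hc in
theorem exists_image_family {ι : Type u} {X : ι → E} {Y : E} {c : Cofan X} (hcol : IsColimit c)
    (f : ∀ i, X i ⟶ Y) : ∃ (B : E) (g : ∀ i, X i ⟶ B) (m : B ⟶ Y), Mono m ∧ Covering g ∧ ∀ i, g i ≫ m = f i := by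
  obtain ⟨B, π, m, hm, hfac, -, hu⟩ := exists_image hc (Cofan.IsColimit.desc hcol f)
  refine ⟨B, fun i => c.inj i ≫ π, m, hm, ?_, fun i => by simp [hfac]⟩
  haveI := hu B (𝟙 B)
  haveI : EffectiveEpi π := by
    have e : π = (asIso (pullback.fst π (𝟙 B))).inv ≫ pullback.snd π (𝟙 B) := by
      rw [asIso_inv, IsIso.eq_inv_comp]
      simpa using pullback.condition (f := π) (g := 𝟙 B)
    rw [e]
    infer_instance
  intro M m' _ hM
  refine covering_single_of_effectiveEpi.{0} π m' fun _ => ?_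
  choose k hk using hM
  exact ⟨Cofan.IsColimit.desc hcol k, Cofan.IsColimit.hom_ext hcol _ _ fun i => by simp [hk]⟩

include hb hc in
/-- Coverings are stable under base change. -/
theorem Covering.pullback {ι : Type u} {X : ι → E} {Y Y' : E} {f : ∀ i, X i ⟶ Y} (h : Covering f)
    (g : Y' ⟶ Y) {P : ι → E} {p : ∀ i, P i ⟶ Y'} {q : ∀ i, P i ⟶ X i}
    (sq : ∀ i, IsPullback (q i) (p i) (f i) g) : Covering p := by
  obtain ⟨c, hcol, -, huniv⟩ := hb ι X
  let Q := Cofan.IsColimit.desc hcol f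
  have hQ : ∀ i, c.inj i ≫ Q = f i := fun i => Cofan.IsColimit.fac hcol f i
  let r : ∀ i, P i ⟶ Limits.pullback Q g := fun i =>
    pullback.lift (q i ≫ c.inj i) (p i) (by rw [Category.assoc, hQ, (sq i).w])
  have hr : ∀ i, IsPullback (q i) (r i) (c.inj i) (pullback.fst Q g) := fun i =>
    IsPullback.of_bot (by rw [pullback.lift_snd, hQ]; exact sq i) (pullback.lift_fst _ _ _).symm
      (IsPullback.of_hasPullback Q g)
  obtain ⟨hP⟩ := huniv (Cofan.mk _ r) (Discrete.natTrans fun i => q i.as) (pullback.fst Q g)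
    (by ext ⟨i⟩; exact (pullback.lift_fst _ _ _).symm) (NatTrans.Equifibered.of_discrete _)
    fun ⟨i⟩ => (hr i).flip
  obtain ⟨B, π, m, hm, hfac, -, hu⟩ := exists_image hc Q
  haveI : IsIso m := h m fun i => ⟨c.inj i ≫ π, by rw [Category.assoc, hfac, hQ]⟩
  haveI := hu Y' (g ≫ inv m)
  intro M m' _ hM
  choose k hk using hM
  refine covering_single_of_effectiveEpi.{0} (pullback.snd π (g ≫ inv m)) m' fun _ => ?_
  have hlift : pullback.fst π (g ≫ inv m) ≫ Q = pullback.snd π (g ≫ inv m) ≫ g := by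
    rw [← hfac, pullback.condition_assoc]
    simp
  refine ⟨pullback.lift _ _ hlift ≫ Cofan.IsColimit.desc hP k, ?_⟩
  have : Cofan.IsColimit.desc hP k ≫ m' = pullback.snd Q g :=
    Cofan.IsColimit.hom_ext hP _ _ fun i => by
      rw [Cofan.IsColimit.fac_assoc, hk]
      exact (pullback.lift_snd _ _ _).symm
  rw [Category.assoc, this, pullback.lift_snd]

include hb hc in
theorem Covering.pullback_snd {ι : Type u} {X : ι → E} {Y Y' : E} {f : ∀ i, X i ⟶ Y} (h : Covering f)
    (g : Y' ⟶ Y) : Covering (fun i => pullback.snd (f i) g) :=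
  h.pullback hb hc g fun i => IsPullback.of_hasPullback (f i) g

section Gen

variable {C : Type u} [SmallCategory C] (i : C ⥤ E)

/-- The images of `i` detect proper subobjects. -/
def Detects : Prop :=
  ∀ ⦃X Y : E⦄ (m : X ⟶ Y) [Mono m], (∀ (c : C) (g : i.obj c ⟶ Y), ∃ k, k ≫ m = g) → IsIso m

/-- All the maps from generators. -/
def genFamily (Y : E) : ∀ a : (Σ c, (i.obj c ⟶ Y)), i.obj a.1 ⟶ Y := fun a => a.2

variable {i} (hdet : Detects i)

include hdet in
theorem covering_gen (Y : E) : Covering (genFamily i Y) :=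
  fun M m _ hm => hdet m fun c g => hm ⟨c, g⟩

include hb hc hdet in
/-- Descent along a covering. -/
theorem Covering.exists_desc {ι : Type u} {X : ι → E} {Y : E} {f : ∀ j, X j ⟶ Y} (h : Covering f) {Z : E}
    (t : ∀ j, X j ⟶ Z) (ht : ∀ (c : C) (j k : ι) (a : i.obj c ⟶ X j) (b : i.obj c ⟶ X k),
      a ≫ f j = b ≫ f k → a ≫ t j = b ≫ t k) : ∃ l : Y ⟶ Z, ∀ j, f j ≫ l = t j := by
  obtain ⟨c, hcol, -, -⟩ := hb ι X
  let Q := Cofan.IsColimit.desc hcol f
  let H := Cofan.IsColimit.desc hcol t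
  have hQ : ∀ i, c.inj i ≫ Q = f i := fun i => Cofan.IsColimit.fac hcol f i
  have hH : ∀ i, c.inj i ≫ H = t i := fun i => Cofan.IsColimit.fac hcol t i
  obtain ⟨B, π, m, hm, hfac, hpo, -⟩ := exists_image hc Q
  haveI : IsIso m := h m fun i => ⟨c.inj i ≫ π, by rw [Category.assoc, hfac, hQ]⟩
  have hcov := covering_of_isColimit hcol
  have key : pullback.fst Q Q ≫ H = pullback.snd Q Q ≫ H := by
    refine (hcov.pullback_snd hb hc (pullback.fst Q Q)).hom_ext fun j => ?_
    refine (hcov.pullback_snd hb hc (pullback.snd (c.inj j) (pullback.fst Q Q) ≫ pullback.snd Q Q)).hom_ext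
      fun k => ?_
    refine (covering_gen hdet _).hom_ext fun ⟨d, e⟩ => ?_
    let P := pullback.snd (c.inj k) (pullback.snd (c.inj j) (pullback.fst Q Q) ≫ pullback.snd Q Q)
    have e₁ : ∀ {W : E} (w : c.pt ⟶ W), e ≫ P ≫ pullback.snd (c.inj j) (pullback.fst Q Q) ≫ pullback.fst Q Q ≫ w =
        (e ≫ P ≫ pullback.fst (c.inj j) (pullback.fst Q Q)) ≫ c.inj j ≫ w := fun w => by
      simp [pullback.condition_assoc]
    have e₂ : ∀ {W : E} (w : c.pt ⟶ W), e ≫ P ≫ pullback.snd (c.inj j) (pullback.fst Q Q) ≫ pullback.snd Q Q ≫ w =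
        (e ≫ pullback.fst (c.inj k) _) ≫ c.inj k ≫ w := fun w => by
      simp [P, pullback.condition_assoc]
    show e ≫ P ≫ pullback.snd _ _ ≫ pullback.fst Q Q ≫ H = e ≫ P ≫ pullback.snd _ _ ≫ pullback.snd Q Q ≫ H
    rw [e₁, e₂, hH, hH]
    refine ht d j k _ _ ?_
    rw [← hQ, ← hQ, ← e₁, ← e₂, pullback.condition]
  refine ⟨inv m ≫ hpo.desc H H key, fun j => ?_⟩
  have hπ : π = Q ≫ inv m := by rw [IsIso.eq_comp_inv, hfac]
  have := congrArg (c.inj j ≫ ·) (hpo.inl_desc H H key)
  simp only [← hH, ← hQ, Category.assoc]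
  rw [← this]
  exact congrArg (c.inj j ≫ ·) ((reassoc_of% hπ) (hpo.desc H H key)).symm

theorem covering_empty_of_isInitial {T : E} (hT : IsInitial T) {X : PEmpty.{u + 1} → E}
    (f : ∀ x, X x ⟶ T) : Covering f := fun M m _ _ =>
  ⟨hT.to M, by rw [← cancel_mono m, Category.assoc, hT.hom_ext (hT.to M ≫ m) (𝟙 T), Category.comp_id,
    Category.id_comp], hT.hom_ext _ _⟩

include hb hc in
theorem covering_empty_of_disjoint {ι : Type u} {X : ι → E} {c : Cofan X} (hcol : IsColimit c)
    [CoproductDisjoint X] {j k : ι} (hjk : j ≠ k) {T : E} (a : T ⟶ X j) (b : T ⟶ X k)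
    (e : a ≫ c.inj j = b ≫ c.inj k) {Z : PEmpty.{u + 1} → E} (f : ∀ x, Z x ⟶ T) : Covering f := by
  let hI := IsInitial.ofCoproductDisjointOfIsColimit (X := X) (f := c.inj) hjk
    (IsColimit.ofIsoColimit hcol (Cocone.ext (Iso.refl _) fun ⟨x⟩ => Category.comp_id _))
  let g : T ⟶ Limits.pullback (c.inj j) (c.inj k) := pullback.lift a b e
  have h := (covering_empty_of_isInitial hI (X := fun _ => T) (fun x => x.elim)).pullback hb hc g
    (P := Z) (p := f) (q := fun x => x.elim) fun x => x.elim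
  exact h

end Gen

end Groth.Agent.GiraudLib
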