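import Groth.Agent.ToposFinLib.Giraud
import Groth.Agent.ToposFinLib.GiraudSite
import Mathlib.CategoryTheory.Limits.Preserves.Shapes.Products
import Mathlib.CategoryTheory.Limits.Shapes.RegularMono

/-!
# Giraud's axioms from a conservative family of functors to topoi
-/

set_option autoImplicit false
set_option backward.isDefEq.respectTransparency false
set_option linter.unusedVariables false
set_option linter.style.haveILetI false

universe w v u

open CategoryTheory CategoryTheory.Limits Opposite Groth.Agent.ToposFinLib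

namespace Groth.Agent.GiraudLib

section Mono

variable {E : Type v} [Category.{u} E] [HasFiniteLimits E]

theorem mono_of_isIso_diagonal {X Y : E} (f : X ⟶ Y) [IsIso (pullback.diagonal f)] : Mono f := by
  haveI : IsIso (pullback.fst f f) := by
    exact IsIso.of_isIso_fac_left (pullback.diagonal_fst f)
  exact IsKernelPair.mono_of_isIso_fst (IsPullback.of_hasPullback f f)

/-- To detect, it suffices to detect proper subobjects. -/
theorem isDetecting_of_mono (P : ObjectProperty E)
    (h : ∀ ⦃X Y : E⦄ (m : X ⟶ Y) [Mono m], (∀ G, P G → ∀ g : G ⟶ Y, ∃ k, k ≫ m = g) → IsIso m) :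
    P.IsDetecting := fun X Y f hf => by
  haveI : IsIso (pullback.diagonal f) := h _ fun G hG g => by
    obtain ⟨k, -, hk⟩ := hf G hG (g ≫ pullback.fst f f ≫ f)
    have h₁ := hk (g ≫ pullback.fst f f) (Category.assoc _ _ _)
    have h₂ := hk (g ≫ pullback.snd f f) (show (g ≫ pullback.snd f f) ≫ f = _ by rw [Category.assoc, pullback.condition])
    refine ⟨g ≫ pullback.fst f f, pullback.hom_ext ?_ ?_⟩
    · simp
    · simp [h₁.trans h₂.symm]
  haveI := mono_of_isIso_diagonal f
  exact h f fun G hG g => (hf G hG g).exists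

theorem isTopos_of_equivalence {E' : Type w} [Category.{u} E'] (e : E' ≌ E) (h : SGA4.IsTopos.{v, u} E) :
    SGA4.IsTopos.{w, u} E' := by
  obtain ⟨C, i, J, ⟨e'⟩⟩ := h
  exact ⟨C, i, J, ⟨e.trans e'⟩⟩

/-- Finite-limit preserving functors preserve equivalence relations. -/
theorem isEquivRel_map {T : Type w} [Category.{u} T] (U : E ⥤ T) [PreservesFiniteLimits U] {R A : E}
    {p₁ p₂ : R ⟶ A} (h : SGA4.IsEquivRel p₁ p₂) : SGA4.IsEquivRel (U.map p₁) (U.map p₂) := by
  let e := equivalenceRelationOfIsEquivRel h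
  haveI : Mono (prod.lift p₁ p₂) := ⟨fun {W} a b hab => (h W).1
    (Prod.ext (by simpa using congrArg (· ≫ prod.fst) hab) (by simpa using congrArg (· ≫ prod.snd) hab))⟩
  haveI : Mono (U.map (prod.lift p₁ p₂)) := inferInstance
  have sq := (IsPullback.of_hasPullback p₂ p₁).map U
  refine fun W => ⟨fun a b hab => ?_, ⟨fun a => ⟨a ≫ U.map e.r, ?_, ?_⟩, ?_, ?_⟩⟩
  · rw [← cancel_mono (U.map (prod.lift p₁ p₂))]
    refine (isLimitOfHasBinaryProductOfPreservesLimit U A A).hom_ext ?_
    rintro ⟨⟨⟩⟩
    · show (a ≫ _) ≫ U.map prod.fst = (b ≫ _) ≫ U.map prod.fst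
      simp only [Category.assoc, ← U.map_comp, prod.lift_fst]
      exact congrArg Prod.fst hab
    · show (a ≫ _) ≫ U.map prod.snd = (b ≫ _) ≫ U.map prod.snd
      simp only [Category.assoc, ← U.map_comp, prod.lift_snd]
      exact congrArg Prod.snd hab
  · rw [Category.assoc, ← U.map_comp, e.reflexivity₁, U.map_id, Category.comp_id]
  · rw [Category.assoc, ← U.map_comp, e.reflexivity₂, U.map_id, Category.comp_id]
  · rintro a b ⟨l, rfl, rfl⟩
    refine ⟨l ≫ U.map e.s, ?_, ?_⟩
    · rw [Category.assoc, ← U.map_comp, e.symmetry₁]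
    · rw [Category.assoc, ← U.map_comp, e.symmetry₂]
  · rintro a b c ⟨l, h₁, h₂⟩ ⟨l', h₁', h₂'⟩
    refine ⟨sq.lift l l' (h₂.trans h₁'.symm) ≫ U.map e.t, ?_, ?_⟩
    · rw [Category.assoc, ← U.map_comp, show e.t ≫ p₁ = pullback.fst p₂ p₁ ≫ p₁ from e.transitivity₁, U.map_comp,
        IsPullback.lift_fst_assoc, h₁]
    · rw [Category.assoc, ← U.map_comp, show e.t ≫ p₂ = pullback.snd p₂ p₁ ≫ p₂ from e.transitivity₂, U.map_comp,
        IsPullback.lift_snd_assoc, h₂']

end Mono

variable {E : Type v} [Category.{u} E] [HasFiniteLimits E] [HasColimitsOfSize.{u, u} E]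
  {κ : Type w} {C : κ → Type u} [∀ k, SmallCategory (C k)] {J : ∀ k, GrothendieckTopology (C k)}
  (U : ∀ k, E ⥤ Sheaf (J k) (Type u)) [∀ k, PreservesFiniteLimits (U k)]
  [∀ k, PreservesColimitsOfSize.{u, u} (U k)]
  (hU : ∀ ⦃X Y : E⦄ (f : X ⟶ Y), (∀ k, IsIso ((U k).map f)) → IsIso f)

theorem isIso_fst_of_mono {T : Type w} [Category.{u} T] {P X Y : T} {a b : P ⟶ X} {f : X ⟶ Y} [Mono f]
    (sq : IsPullback a b f f) : IsIso a := by
  have e : a = b := (cancel_mono f).1 sq.w
  exact ⟨sq.lift (𝟙 X) (𝟙 X) rfl, sq.hom_ext (by simp) (by simp [e]), sq.lift_fst _ _ _⟩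

include hU in
theorem mono_of_forall_mono {X Y : E} (f : X ⟶ Y) (h : ∀ k, Mono ((U k).map f)) : Mono f := by
  haveI : IsIso (pullback.fst f f) := hU _ fun k => by
    have sq := (IsPullback.of_hasPullback f f).map (U k)
    haveI := h k
    exact isIso_fst_of_mono sq
  exact IsKernelPair.mono_of_isIso_fst (IsPullback.of_hasPullback f f)

include hU in
theorem hasDisjointUniversalCoproducts_of_pointwise : SGA4.HasDisjointUniversalCoproducts.{v, u} E := by
  intro ι X
  have hp : ∀ k, IsPartition (fun i => (U k).map (Sigma.ι X i)) := fun k =>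
    (nonempty_isColimit_iff_isPartition _).1
      ⟨isColimitCofanMkObjOfIsColimit (U k) _ (Sigma.ι X) (coproductIsCoproduct X)⟩
  refine ⟨Cofan.mk _ (Sigma.ι X), coproductIsCoproduct X, ?_, ?_⟩
  · haveI : ∀ i, Mono (Sigma.ι X i) := fun i => mono_of_forall_mono U hU _ fun k => (hp k).mono i
    refine CoproductDisjoint.of_hasCoproduct (X := X)
      (fun {i j} _ => pullback.cone (Sigma.ι X i) (Sigma.ι X j))
      (fun {i j} _ => pullback.isLimit _ _) fun {i j} hij => ?_
    haveI : IsIso (initial.to (Limits.pullback (Sigma.ι X i) (Sigma.ι X j))) := hU _ fun k => by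
      have h₁ : IsInitial ((U k).obj (⊥_ E)) := IsInitial.isInitialObj (U k) _ initialIsInitial
      have h₂ : IsInitial ((U k).obj (Limits.pullback (Sigma.ι X i) (Sigma.ι X j))) :=
        (((hp k).isNullObj_pullback hij).of_hom (((IsPullback.of_hasPullback (Sigma.ι X i) (Sigma.ι X j)).map
          (U k)).isoPullback).hom).isInitial
      exact ⟨h₂.to _, h₁.hom_ext _ _, h₂.hom_ext _ _⟩
    exact IsInitial.ofIso initialIsInitial (asIso (initial.to (Limits.pullback (Sigma.ι X i) (Sigma.ι X j))))
  · intro F' c' α f hαf hα hsq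
    let u₀ := colimit.desc F' c'
    haveI : IsIso u₀ := hU _ fun k => by
      obtain ⟨hc⟩ := ((hp k).baseChange ((U k).map f) (P := fun i => (U k).obj (F'.obj ⟨i⟩))
        (p := fun i => (U k).map (c'.ι.app ⟨i⟩)) (q := fun i => (U k).map (α.app ⟨i⟩))
        fun i => (hsq ⟨i⟩).map (U k)).nonempty_isColimit
      have hc₀ : IsColimit (Cofan.mk ((U k).obj (colimit F')) fun i => (U k).map (colimit.ι F' ⟨i⟩)) :=
        IsColimit.ofIsoColimit ((IsColimit.precomposeHomEquiv (Discrete.natIsoFunctor (F := F' ⋙ U k)).symm _).symm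
          (isColimitOfPreserves (U k) (colimit.isColimit F'))) (Cocone.ext (Iso.refl _) fun ⟨i⟩ => by simp)
      refine ⟨Cofan.IsColimit.desc hc fun i => (U k).map (colimit.ι F' ⟨i⟩), ?_, ?_⟩
      · refine Cofan.IsColimit.hom_ext hc₀ _ _ fun i => ?_
        show (U k).map (colimit.ι F' ⟨i⟩) ≫ (U k).map u₀ ≫ _ = (U k).map (colimit.ι F' ⟨i⟩) ≫ 𝟙 _
        rw [← Functor.map_comp_assoc, colimit.ι_desc, Category.comp_id]
        exact Cofan.IsColimit.fac hc _ i
      · refine Cofan.IsColimit.hom_ext hc _ _ fun i => ?_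
        rw [Cofan.IsColimit.fac_assoc]
        show (U k).map (colimit.ι F' ⟨i⟩) ≫ (U k).map u₀ = (U k).map (c'.ι.app ⟨i⟩) ≫ 𝟙 _
        rw [← Functor.map_comp, colimit.ι_desc, Category.comp_id]
    exact ⟨IsColimit.ofIsoColimit (colimit.isColimit F') (Cocone.ext (asIso u₀) fun j => colimit.ι_desc _ _)⟩

include hU in
theorem isEffectiveUniversalEquivRel_of_pointwise {R A : E} {p₁ p₂ : R ⟶ A} (h : SGA4.IsEquivRel p₁ p₂) :
    SGA4.IsEffectiveUniversalEquivRel p₁ p₂ := by
  let π := coequalizer.π p₁ p₂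
  have hw : p₁ ≫ π = p₂ ≫ π := coequalizer.condition _ _
  have hk : ∀ k, IsPullback ((U k).map p₁) ((U k).map p₂) ((U k).map π) ((U k).map π) := by
    intro k
    obtain ⟨B, q, hpb, hpo, -⟩ := isEffectiveUniversalEquivRel (isEquivRel_map (U k) h)
    have hcol := isColimitCoforkMapOfIsColimit (U k) hw (coequalizerIsCoequalizer p₁ p₂)
    let a := Cofork.IsColimit.desc hcol q hpo.w
    have ha : (U k).map π ≫ a = q := Cofork.IsColimit.π_desc' hcol q hpo.w
    have hw' : (U k).map p₁ ≫ (U k).map π = (U k).map p₂ ≫ (U k).map π := by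
      rw [← Functor.map_comp, hw, Functor.map_comp]
    let b := hpo.desc _ _ hw'
    have hb : q ≫ b = (U k).map π := hpo.inl_desc _ _ _
    let e : B ≅ (U k).obj (coequalizer p₁ p₂) :=
      ⟨b, a, hpo.hom_ext (by rw [reassoc_of% hb, ha, Category.comp_id]) (by rw [reassoc_of% hb, ha, Category.comp_id]),
        Cofork.IsColimit.hom_ext hcol (by
          show (U k).map π ≫ a ≫ b = (U k).map π ≫ 𝟙 _
          rw [reassoc_of% ha, hb, Category.comp_id])⟩
    exact IsPullback.of_iso hpb (Iso.refl _) (Iso.refl _) (Iso.refl _) e (by simp) (by simp) (by simp [e, hb])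
      (by simp [e, hb])
  refine ⟨coequalizer p₁ p₂, π, ?_, ?_, fun B' g => ?_⟩
  · let l := pullback.lift (f := π) (g := π) p₁ p₂ hw
    haveI : IsIso l := hU _ fun k => by
      have sq := (IsPullback.of_hasPullback π π).map (U k)
      have e : (U k).map l = ((hk k).isoIsPullback _ _ sq).hom := by
        apply sq.hom_ext
        · rw [IsPullback.isoIsPullback_hom_fst, ← Functor.map_comp, pullback.lift_fst]
        · rw [IsPullback.isoIsPullback_hom_snd, ← Functor.map_comp, pullback.lift_snd]
      rw [e]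
      infer_instance
    exact IsPullback.of_iso_pullback ⟨hw⟩ (asIso l) (by simp [l]) (by simp [l])
  · exact ⟨⟨hw⟩, ⟨PushoutCocone.IsColimit.mk hw
      (fun s => coequalizer.desc s.inl (by
        have h₁ := congrArg (((h A).2.refl (𝟙 A)).choose ≫ ·) s.condition
        have e₁ := ((h A).2.refl (𝟙 A)).choose_spec.1
        have e₂ := ((h A).2.refl (𝟙 A)).choose_spec.2
        simp only [reassoc_of% e₁, reassoc_of% e₂] at h₁
        rw [s.condition, h₁]))
      (fun s => coequalizer.π_desc _ _) (fun s => by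
        have h₁ := congrArg (((h A).2.refl (𝟙 A)).choose ≫ ·) s.condition
        have e₁ := ((h A).2.refl (𝟙 A)).choose_spec.1
        have e₂ := ((h A).2.refl (𝟙 A)).choose_spec.2
        simp only [reassoc_of% e₁, reassoc_of% e₂] at h₁
        rw [coequalizer.π_desc, h₁])
      (fun s m h₁ h₂ => coequalizer.hom_ext (h₁.trans (coequalizer.π_desc _ _).symm))⟩⟩
  · let q := pullback.snd π g
    let χ := coequalizer.desc (f := pullback.fst q q) (g := pullback.snd q q) q pullback.condition
    haveI : IsIso χ := hU _ fun k => by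
      haveI : Epi ((U k).map π) := inferInstance
      have hcov : Cov (fun _ : PUnit.{1} => (U k).map q) :=
        (cov_of_epi ((U k).map π)).pullback ((U k).map g)
          fun _ => ((IsPullback.of_hasPullback π g).map (U k)).flip
      obtain ⟨s, hs⟩ := hcov.exists_desc
        (fun _ => (U k).map (coequalizer.π (pullback.fst q q) (pullback.snd q q))) fun _ _ => by
          have sq := (IsPullback.of_hasPullback q q).map (U k)
          rw [← cancel_epi sq.isoPullback.hom, IsPullback.isoPullback_hom_fst_assoc,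
            IsPullback.isoPullback_hom_snd_assoc, ← Functor.map_comp, coequalizer.condition, Functor.map_comp]
      haveI := epi_of_cov hcov
      refine ⟨s, ?_, ?_⟩
      · rw [← cancel_epi ((U k).map (coequalizer.π (pullback.fst q q) (pullback.snd q q))), ← Functor.map_comp_assoc,
          coequalizer.π_desc, hs PUnit.unit, Category.comp_id]
      · rw [← cancel_epi ((U k).map q), reassoc_of% (hs PUnit.unit), ← Functor.map_comp, coequalizer.π_desc,
          Category.comp_id]
    have e : q = coequalizer.π (pullback.fst q q) (pullback.snd q q) ≫ χ := (coequalizer.π_desc _ _).symm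
    show EffectiveEpi q
    haveI : EffectiveEpi (coequalizer.π (pullback.fst q q) (pullback.snd q q)) :=
      (coequalizerRegular _ _).effectiveEpi
    rw [e]
    infer_instance

include hU in
theorem isTopos_of_pointwise (hd : ∃ P : ObjectProperty E, ObjectProperty.Small.{u} P ∧ P.IsDetecting) :
    SGA4.IsTopos.{v, u} E :=
  isTopos_of_axioms (hasDisjointUniversalCoproducts_of_pointwise U hU)
    (fun R A p₁ p₂ h => isEffectiveUniversalEquivRel_of_pointwise U hU h) hd

end Groth.Agent.GiraudLib
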