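import Groth.Agent.ToposFinLib.Colim
import Groth.Prelude.Def_CohCx

/-!
# Collections of quasi-compact objects closed under coverings

From a collection `S` of quasi-compact objects refining all coverings of its members and covering its
own products and equalizers we form the class `Good S` of objects covered by a member of `S` all of
whose relative products of members of `S` are covered by members of `S`. It is closed under fibre
products.
-/

set_option autoImplicit false
set_option backward.isDefEq.respectTransparency false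

universe u

open CategoryTheory CategoryTheory.Limits Opposite ToposFin

namespace Groth.Agent.ToposFinLib.QcCollection

variable {C : Type u} [SmallCategory C] {J : GrothendieckTopology C} {S : Set (Sh J)}

/-- Covered by a single member of `S`. -/
def CovBy (S : Set (Sh J)) (X : Sh J) : Prop :=
  ∃ K ∈ S, ∃ p : K ⟶ X, Epi p

/-- Covered by a member of `S`, with covered relative products. -/
def Good (S : Set (Sh J)) (X : Sh J) : Prop :=
  CovBy S X ∧ ∀ ⦃K K' : Sh J⦄, K ∈ S → K' ∈ S → ∀ (a : K ⟶ X) (b : K' ⟶ X), CovBy S (pullback a b)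

/-- The hypotheses on the collection. -/
structure IsCollection (S : Set (Sh J)) : Prop where
  refine_epi : ∀ (F K : Sh J) (g : F ⟶ K), K ∈ S → Epi g → ∃ (K' : Sh J) (k : K' ⟶ F), K' ∈ S ∧ Epi (k ≫ g)
  prod : ∀ K ∈ S, ∀ K' ∈ S, CovBy S (K ⨯ K')
  eq : ∀ K ∈ S, ∀ K' ∈ S, ∀ a b : K ⟶ K', CovBy S (equalizer a b)
  qc : ∀ K ∈ S, IsQC K

theorem isQC_of_qcObject {K : Sh J} (h : CohCx.IsQcObject K) : IsQC K := by
  rw [isQC_iff]
  intro ι F π hπ
  obtain ⟨t, ht⟩ := h ι F π fun U s => ⟨_, hπ s, fun V g hg => hg⟩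
  refine ⟨t, fun U s => ?_⟩
  obtain ⟨T, hT, hT'⟩ := ht U s
  exact J.superset_covering (fun V g hg => hT' V g hg) hT

/-- Epimorphisms are stable under base change. -/
theorem epi_of_isPullback {P A B X : Sh J} {p : P ⟶ A} {q : P ⟶ B} {g : A ⟶ X} {f : B ⟶ X}
    (sq : IsPullback p q g f) (hf : Epi f) : Epi p :=
  epi_of_cov ((cov_of_epi.{0} f).pullback g fun _ => sq)

theorem epi_pullback_fst {A B X : Sh J} (g : A ⟶ X) (f : B ⟶ X) (hf : Epi f) : Epi (pullback.fst g f) :=
  epi_of_isPullback (IsPullback.of_hasPullback g f) hf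

theorem epi_pullback_snd {A B X : Sh J} (f : B ⟶ X) (g : A ⟶ X) (hf : Epi f) : Epi (pullback.snd f g) :=
  epi_of_isPullback (IsPullback.of_hasPullback f g).flip hf

theorem CovBy.of_epi {A X : Sh J} (h : CovBy S A) (f : A ⟶ X) [Epi f] : CovBy S X := by
  obtain ⟨K, hK, p, hp⟩ := h
  exact ⟨K, hK, p ≫ f, epi_comp _ _⟩

set_option linter.unusedSectionVars false

variable (hS : IsCollection S)

include hS

theorem CovBy.isQC {X : Sh J} (h : CovBy S X) : IsQC X := by
  obtain ⟨K, hK, p, hp⟩ := h
  exact isQC_of_epi p (hS.qc K hK)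

theorem CovBy.refine {X L : Sh J} (h : CovBy S X) (f : L ⟶ X) (hf : Epi f) :
    ∃ (K : Sh J) (k : K ⟶ L), K ∈ S ∧ Epi (k ≫ f) := by
  obtain ⟨K₀, hK₀, p, hp⟩ := h
  obtain ⟨K, k, hK, hk⟩ := hS.refine_epi _ _ (pullback.snd f p) hK₀ (epi_pullback_snd f p hf)
  refine ⟨K, k ≫ pullback.fst f p, hK, ?_⟩
  rw [Category.assoc, pullback.condition, ← Category.assoc]
  exact epi_comp _ _

theorem good_of_mem {K : Sh J} (hK : K ∈ S) : Good S K := by
  refine ⟨⟨K, hK, 𝟙 K, inferInstance⟩, fun A A' hA hA' a b => ?_⟩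
  obtain ⟨L, hL, l, hl⟩ := hS.prod A hA A' hA'
  obtain ⟨M, hM, m, hm⟩ := hS.eq L hL K hK (l ≫ prod.fst ≫ a) (l ≫ prod.snd ≫ b)
  let i : pullback a b ⟶ A ⨯ A' := prod.lift (pullback.fst a b) (pullback.snd a b)
  let e : pullback l i ⟶ equalizer (l ≫ prod.fst ≫ a) (l ≫ prod.snd ≫ b) :=
    equalizer.lift (pullback.fst l i) (by
      simp only [pullback.condition_assoc, i, prod.lift_fst_assoc, prod.lift_snd_assoc]
      rw [pullback.condition])
  let t : equalizer (l ≫ prod.fst ≫ a) (l ≫ prod.snd ≫ b) ⟶ pullback a b :=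
    pullback.lift (equalizer.ι _ _ ≫ l ≫ prod.fst) (equalizer.ι _ _ ≫ l ≫ prod.snd)
      (by simp only [Category.assoc]; exact equalizer.condition _ _)
  have het : e ≫ t = pullback.snd l i := by
    apply pullback.hom_ext
    · simp only [e, t, Category.assoc, pullback.lift_fst, equalizer.lift_ι_assoc]
      rw [pullback.condition_assoc]
      simp [i]
    · simp only [e, t, Category.assoc, pullback.lift_snd, equalizer.lift_ι_assoc]
      rw [pullback.condition_assoc]
      simp [i]
  have := epi_pullback_snd l i hl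
  have : Epi t := epi_of_epi_fac het
  exact CovBy.of_epi ⟨M, hM, m, hm⟩ t

theorem CovBy.pullback {X A B : Sh J} (hX : Good S X) (a : A ⟶ X) (b : B ⟶ X) (hA : CovBy S A) (hB : CovBy S B) :
    CovBy S (Limits.pullback a b) := by
  obtain ⟨K, hK, p, hp⟩ := hA
  obtain ⟨K', hK', q, hq⟩ := hB
  obtain ⟨m, n, sqm, sqn, -⟩ := exists_pullbackMap_fac p q a b
  have : Epi m := epi_of_isPullback sqm.flip hp
  have : Epi n := epi_of_isPullback sqn.flip hq
  exact (hX.2 hK hK' (p ≫ a) (q ≫ b)).of_epi (m ≫ n)

theorem CovBy.equalizer {M B : Sh J} (hB : Good S B) (hM : M ∈ S) (u v : M ⟶ B) : CovBy S (equalizer u v) := by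
  obtain ⟨N, hN, n, hn⟩ := hB.2 hM hM u v
  obtain ⟨R, hR, r, hr⟩ := hS.eq N hN M hM (n ≫ pullback.fst u v) (n ≫ pullback.snd u v)
  let d : Limits.equalizer u v ⟶ Limits.pullback u v :=
    pullback.lift (equalizer.ι u v) (equalizer.ι u v) (equalizer.condition u v)
  let e : Limits.pullback n d ⟶ Limits.equalizer (n ≫ pullback.fst u v) (n ≫ pullback.snd u v) :=
    equalizer.lift (pullback.fst n d) (by simp [pullback.condition_assoc, d])
  let t : Limits.equalizer (n ≫ pullback.fst u v) (n ≫ pullback.snd u v) ⟶ Limits.equalizer u v :=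
    equalizer.lift (equalizer.ι _ _ ≫ n ≫ pullback.fst u v) (by
      have h := equalizer.condition (n ≫ pullback.fst u v) (n ≫ pullback.snd u v)
      calc (equalizer.ι _ _ ≫ n ≫ pullback.fst u v) ≫ u
          = equalizer.ι _ _ ≫ n ≫ pullback.snd u v ≫ v := by simp [pullback.condition]
        _ = (equalizer.ι _ _ ≫ n ≫ pullback.fst u v) ≫ v := by
          rw [h]
          simp)
  have het : e ≫ t = pullback.snd n d := by
    apply equalizer.hom_ext
    simp only [e, t, Category.assoc, equalizer.lift_ι, equalizer.lift_ι_assoc]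
    rw [pullback.condition_assoc]
    simp [d]
  have := epi_pullback_snd n d hn
  have : Epi t := epi_of_epi_fac het
  exact CovBy.of_epi ⟨R, hR, r, hr⟩ t

theorem Good.pullback {Z A B : Sh J} (hZ : Good S Z) (hA : Good S A) (hB : Good S B) (a : A ⟶ Z) (b : B ⟶ Z) :
    Good S (Limits.pullback a b) := by
  refine ⟨CovBy.pullback hS hZ a b hA.1 hB.1, fun K K' hK hK' x y => ?_⟩
  obtain ⟨M, hM, m, hm⟩ := hA.2 hK hK' (x ≫ pullback.fst a b) (y ≫ pullback.fst a b)
  let u : M ⟶ B := m ≫ pullback.fst _ _ ≫ x ≫ pullback.snd a b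
  let v : M ⟶ B := m ≫ pullback.snd _ _ ≫ y ≫ pullback.snd a b
  let q : Limits.pullback x y ⟶ Limits.pullback (x ≫ pullback.fst a b) (y ≫ pullback.fst a b) :=
    pullback.lift (pullback.fst x y) (pullback.snd x y) (by rw [pullback.condition_assoc])
  let e : Limits.pullback m q ⟶ Limits.equalizer u v :=
    equalizer.lift (pullback.fst m q) (by
      simp only [u, v, pullback.condition_assoc, q, pullback.lift_fst_assoc, pullback.lift_snd_assoc])
  let w : Limits.equalizer u v ⟶ Limits.pullback x y :=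
    pullback.lift (equalizer.ι u v ≫ m ≫ pullback.fst _ _) (equalizer.ι u v ≫ m ≫ pullback.snd _ _) (by
      apply pullback.hom_ext
      · simp only [Category.assoc]
        rw [pullback.condition]
      · simp only [Category.assoc]
        exact equalizer.condition u v)
  have hew : e ≫ w = pullback.snd m q := by
    apply pullback.hom_ext
    · simp only [e, w, Category.assoc, pullback.lift_fst, equalizer.lift_ι_assoc]
      rw [pullback.condition_assoc]
      simp [q]
    · simp only [e, w, Category.assoc, pullback.lift_snd, equalizer.lift_ι_assoc]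
      rw [pullback.condition_assoc]
      simp [q]
  have := epi_pullback_snd m q hm
  have : Epi w := epi_of_epi_fac hew
  exact (CovBy.equalizer hS hB hM u v).of_epi w

theorem Good.of_iso {A B : Sh J} (e : A ≅ B) (h : Good S A) : Good S B := by
  refine ⟨h.1.of_epi e.hom, fun K K' hK hK' a b => ?_⟩
  exact (h.2 hK hK' (a ≫ e.inv) (b ≫ e.inv)).of_epi
    (pullback.map (a ≫ e.inv) (b ≫ e.inv) a b (𝟙 K) (𝟙 K') e.hom (by simp) (by simp))

theorem good_terminal (h1 : ∃ K ∈ S, Epi (terminal.from K)) : Good S (⊤_ (Sh J)) := by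
  obtain ⟨K, hK, hp⟩ := h1
  refine ⟨⟨K, hK, _, hp⟩, fun A A' hA hA' a b => ?_⟩
  let e : A ⨯ A' ≅ Limits.pullback a b :=
    { hom := pullback.lift prod.fst prod.snd (terminalIsTerminal.hom_ext _ _)
      inv := prod.lift (pullback.fst a b) (pullback.snd a b)
      hom_inv_id := Limits.prod.hom_ext (by simp) (by simp)
      inv_hom_id := pullback.hom_ext (by simp) (by simp) }
  have : IsIso e.hom := e.isIso_hom
  exact CovBy.of_epi (hS.prod A hA A' hA') e.hom

theorem good_widePullback {K K' : Sh J} (hK : Good S K) (f : K' ⟶ K) (h : Good S K') :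
    ∀ n : ℕ, Good S (widePullback K (fun _ : Fin (n + 1) => K') (fun _ => f))
  | 0 => by
    let a : widePullback K (fun _ : Fin 1 => K') (fun _ => f) ⟶ K' := WidePullback.π (fun _ : Fin 1 => f) 0
    let b : K' ⟶ widePullback K (fun _ : Fin 1 => K') (fun _ => f) :=
      WidePullback.lift f (fun _ => 𝟙 K') (fun _ => Category.id_comp f)
    refine Good.of_iso hS ⟨b, a, by simp [a, b], ?_⟩ h
    apply WidePullback.hom_ext
    · intro i
      obtain rfl : i = 0 := Subsingleton.elim (α := Fin 1) _ _
      simp [a, b]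
    · simp [a, b]
  | n + 1 => by
    have hP := good_widePullback hK f h n
    let a : Limits.pullback (WidePullback.base (fun _ : Fin (n + 1) => f)) f ⟶
        widePullback K (fun _ : Fin (n + 2) => K') (fun _ => f) :=
      WidePullback.lift (pullback.snd _ _ ≫ f)
        (Fin.cons (pullback.snd _ _) fun i => pullback.fst _ _ ≫ WidePullback.π _ i) (by
          intro i
          refine Fin.cases rfl (fun i => ?_) i
          simp [pullback.condition])
    let b : widePullback K (fun _ : Fin (n + 2) => K') (fun _ => f) ⟶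
        Limits.pullback (WidePullback.base (fun _ : Fin (n + 1) => f)) f :=
      pullback.lift (WidePullback.lift (WidePullback.base _) (fun i => WidePullback.π (fun _ : Fin (n + 2) => f) i.succ)
        (fun i => WidePullback.π_arrow _ _)) (WidePullback.π (fun _ : Fin (n + 2) => f) 0) (by simp)
    have hab : a ≫ b = 𝟙 _ := by
      apply pullback.hom_ext
      · apply WidePullback.hom_ext
        · intro i
          simp [a, b]
        · simp [a, b, pullback.condition]
      · simp [a, b]
    have hba : b ≫ a = 𝟙 _ := by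
      apply WidePullback.hom_ext
      · intro i
        refine Fin.cases ?_ (fun i => ?_) i <;> simp [a, b]
      · simp [a, b]
    exact Good.of_iso hS ⟨a, b, hab, hba⟩ (Good.pullback hS hK hP h _ f)

/-- A morphism from a good object into a filtered colimit factors through a stage. -/
theorem exists_stage_factor {X : Sh J} (hX : Good S X) {I : Type u} [SmallCategory I] [IsFiltered I]
    {D : I ⥤ Sh J} {c : Cocone D} (hc : IsColimit c) (y : X ⟶ c.pt) :
    ∃ (i : I) (h : X ⟶ D.obj i), h ≫ c.ι.app i = y := by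
  classical
  obtain ⟨s, hs⟩ := isQC_iff.1 (CovBy.isQC hS hX.1) _ _ _ ((cov_ι_of_isColimit hc).pullback_snd y)
  obtain ⟨j₀, hj₀⟩ := IsFiltered.sup_objs_exists s
  let L := Limits.pullback (c.ι.app j₀) y
  have hL : Epi (pullback.snd (c.ι.app j₀) y) := by
    refine epi_of_cov.{0} (hs.refine fun p => ⟨PUnit.unit, pullback.lift
      (pullback.fst _ _ ≫ D.map (hj₀ p.2).some) (pullback.snd _ _) ?_, pullback.lift_snd _ _ _⟩)
    rw [Category.assoc, c.w, pullback.condition]
  obtain ⟨K, k, hK, hk⟩ := CovBy.refine hS hX.1 _ hL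
  let π : K ⟶ X := k ≫ pullback.snd (c.ι.app j₀) y
  let h₀ : K ⟶ D.obj j₀ := k ≫ pullback.fst (c.ι.app j₀) y
  have hh₀ : h₀ ≫ c.ι.app j₀ = π ≫ y := by simp only [h₀, π, Category.assoc, pullback.condition]
  obtain ⟨j, v, hv⟩ := exists_stage_eq (CovBy.isQC hS (hX.2 hK hK π π)) hc j₀
    (pullback.fst π π ≫ h₀) (pullback.snd π π ≫ h₀) (by
      simp only [Category.assoc, hh₀, pullback.condition_assoc])
  haveI : Epi π := hk
  obtain ⟨h, hh⟩ := (cov_of_epi.{0} π).exists_desc (fun _ => h₀ ≫ D.map v) fun _ _ => by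
    simpa only [Category.assoc] using hv
  refine ⟨j, h, (cancel_epi π).1 ?_⟩
  rw [← Category.assoc, hh PUnit.unit, Category.assoc, c.w, hh₀]

end Groth.Agent.ToposFinLib.QcCollection
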