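import Mathlib.Algebra.Category.Grp.FilteredColimits
import Mathlib.CategoryTheory.Sites.PreservesSheafification
import Groth.Prelude.Def_SGA4c
import Groth.Agent.SiteBase.HKRep
import Groth.Prelude.Def_ToposFin2
import Mathlib.CategoryTheory.Limits.Preserves.FunctorCategory

/-!
# The underlying sheaf of sets commutes with filtered colimits
-/

set_option autoImplicit false
set_option backward.isDefEq.respectTransparency false

universe u

open CategoryTheory CategoryTheory.Limits Opposite

namespace Groth.Agent.ToposFinLib

variable {C : Type u} [SmallCategory C] (J : GrothendieckTopology C)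

/-- The underlying sheaf of sets. -/
noncomputable abbrev underlying : Sheaf J AddCommGrpCat.{u} ⥤ Sheaf J (Type u) :=
  sheafCompose J (CategoryTheory.forget AddCommGrpCat.{u})

/-- Sheafification commutes with the underlying sets. -/
noncomputable def sheafifyUnderlyingIso :
    (Functor.whiskeringRight Cᵒᵖ AddCommGrpCat.{u} (Type u)).obj (CategoryTheory.forget AddCommGrpCat.{u}) ⋙
        presheafToSheaf J (Type u) ≅
      presheafToSheaf J AddCommGrpCat.{u} ⋙ underlying J :=
  asIso (sheafComposeNatTrans J (CategoryTheory.forget AddCommGrpCat.{u})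
    (sheafificationAdjunction J AddCommGrpCat.{u}) (sheafificationAdjunction J (Type u)))

instance preservesFilteredColimits_underlying (Λ : Type u) [SmallCategory Λ] [IsFiltered Λ] :
    PreservesColimitsOfShape Λ (underlying J) where
  preservesColimit {F} := by
    have hw : PreservesColimitsOfShape Λ (presheafToSheaf J AddCommGrpCat.{u} ⋙ underlying J) :=
      preservesColimitsOfShape_of_natIso (sheafifyUnderlyingIso J)
    refine preservesColimit_of_preserves_colimit_cocone
      (Sheaf.isColimitSheafifyCocone (colimit.cocone (F ⋙ sheafToPresheaf J AddCommGrpCat.{u}))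
        (colimit.isColimit _)) ?_
    have h := isColimitOfPreserves (presheafToSheaf J AddCommGrpCat.{u} ⋙ underlying J)
      (colimit.isColimit (F ⋙ sheafToPresheaf J AddCommGrpCat.{u}))
    let e : F ≅ (F ⋙ sheafToPresheaf J AddCommGrpCat.{u}) ⋙ presheafToSheaf J AddCommGrpCat.{u} :=
      Functor.isoWhiskerLeft F (asIso (sheafificationAdjunction J AddCommGrpCat.{u}).counit).symm
    refine IsColimit.ofIsoColimit
      ((IsColimit.precomposeHomEquiv (Functor.isoWhiskerRight e (underlying J)) _).symm h) ?_
    refine Cocone.ext (Iso.refl _) fun j => ?_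
    simp [Sheaf.sheafifyCocone, e]

end Groth.Agent.ToposFinLib
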