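import Groth.Agent.ToposFinLib.Colim
import Groth.Agent.ToposFinLib.Underlying
import Groth.Agent.SiteBase.NerveCech

/-!
# Filtered colimits of injective abelian sheaves are acyclic on tame coherent objects
-/

set_option autoImplicit false
set_option backward.isDefEq.respectTransparency false
set_option linter.unusedVariables false

universe u

open CategoryTheory CategoryTheory.Limits Opposite ToposFin Simplicial Abelian Groth.Agent.SiteBase

namespace Groth.Agent.ToposFinLib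

variable {C : Type u} [SmallCategory C] {J : GrothendieckTopology C}

/-- A coherent object to which every morphism from a quasi-separated object is quasi-separated. -/
def Tame (K : Sh J) : Prop := IsCoherent K ∧ ∀ ⦃W : Sh J⦄ (g : W ⟶ K), IsQS W → IsQSHom g

theorem Tame.of_hom {K K' : Sh J} (hK : Tame K) (v : K' ⟶ K) (h : IsCoherent K') : Tame K' :=
  ⟨h, fun W g hW => isQSHom_of_comp (hK.2 (g ≫ v) hW)⟩

theorem Tame.pullback {K A B : Sh J} (hK : Tame K) (a : A ⟶ K) (b : B ⟶ K) (hA : IsCoherent A) (hB : IsCoherent B) :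
    Tame (Limits.pullback a b) :=
  hK.of_hom (pullback.fst a b ≫ a)
    ⟨hK.1.2 _ _ a b hA.1 hB.1, isQS_of_isQSHom (isQSHom_pullback_fst (hK.2 b hB.2) a) hA.2⟩

theorem isCoherent_of_iso {A B : Sh J} (e : A ≅ B) (h : IsCoherent A) : IsCoherent B :=
  ⟨isQC_of_iso e h.1, isQS_of_isQSHom (isQSHom_of_mono e.inv) h.2⟩

theorem tame_widePullback {K K' : Sh J} (hK : Tame K) (f : K' ⟶ K) (h : IsCoherent K') :
    ∀ n : ℕ, Tame (widePullback K (fun _ : Fin (n + 1) => K') (fun _ => f))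
  | 0 => by
    haveI := isIso_pbπ_zero f
    exact hK.of_hom (WidePullback.base _) (isCoherent_of_iso (asIso (WidePullback.π (fun _ : Fin 1 => f) 0)).symm h)
  | n + 1 => by
    let P := widePullback K (fun _ : Fin (n + 1) => K') (fun _ => f)
    have hP : Tame P := tame_widePullback hK f h n
    let a : Limits.pullback (WidePullback.base (fun _ : Fin (n + 1) => f)) f ⟶
        widePullback K (fun _ : Fin (n + 2) => K') (fun _ => f) :=
      WidePullback.lift (pullback.snd _ _ ≫ f)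
        (Fin.cons (pullback.snd _ _) fun i => pullback.fst _ _ ≫ WidePullback.π _ i) (by
          intro i
          refine Fin.cases rfl (fun i => ?_) i
          simp [pullback.condition])
    let b : widePullback K (fun _ : Fin (n + 2) => K') (fun _ => f) ⟶
        Limits.pullback (WidePullback.base (fun _ : Fin (n + 1) => f)) f :=
      pullback.lift (WidePullback.lift (WidePullback.base _) (fun i => WidePullback.π (fun _ : Fin (n + 2) => f) i.succ)
        (fun i => WidePullback.π_arrow _ _)) (WidePullback.π (fun _ : Fin (n + 2) => f) 0) (by simp)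
    have hab : a ≫ b = 𝟙 _ := by
      apply pullback.hom_ext
      · apply WidePullback.hom_ext
        · intro i
          simp [a, b]
        · simp [a, b, pullback.condition]
      · simp [a, b]
    have hba : b ≫ a = 𝟙 _ := by
      apply WidePullback.hom_ext
      · intro i
        refine Fin.cases ?_ (fun i => ?_) i <;> simp [a, b]
      · simp [a, b]
    exact hK.of_hom (WidePullback.base _)
      (isCoherent_of_iso ⟨a, b, hab, hba⟩ (hK.pullback _ f hP.1 h).1)

/-- Tame covers of tame objects refine all epimorphisms. -/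
theorem exists_tame_refinement {G : Sh J → Prop} (hgen : Gen G) (hG : ∀ A, G A → IsCoherent A) {K : Sh J}
    (hK : Tame K) {L : Sh J} (f : L ⟶ K) [Epi f] :
    ∃ (K' : Sh J) (k : K' ⟶ L), IsCoherent K' ∧ Epi (k ≫ f) := by
  obtain ⟨κ, hκ, M, a, t, hM, hcov⟩ := exists_finite_gen hgen hK.1.1 (cov_of_epi.{u} f)
  refine ⟨∐ M, Sigma.desc fun m => t m, ⟨isQC_of_finite_cov M _ (isPartition_sigma_ι M).cov fun m => (hG _ (hM m)).1,
    (isPartition_sigma_ι M).isQS fun m => (hG _ (hM m)).2⟩, ?_⟩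
  have e : (Sigma.desc fun m => t m) ≫ f = Sigma.desc fun m => t m ≫ f := Sigma.hom_ext _ _ fun m => by simp
  rw [e]
  exact epi_desc_iff.2 hcov

/-- Vanishing of the Cech cohomology of covers of tame objects. -/
def TameKill (G : Sheaf J AddCommGrpCat.{u}) : Prop :=
  ∀ (K' K : Sh J) (f : K' ⟶ K), Tame K → IsCoherent K' → Epi f → CechKill G (nerve f)

theorem exists_lift_of_tameKill {Q : Sh J → Prop} (hgen : Gen Q) (hQ : ∀ A, Q A → IsCoherent A)
    {E : ShortComplex (Sheaf J AddCommGrpCat.{u})} (hE : E.ShortExact) (h₁ : TameKill E.X₁)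
    (K : Sheaf J (Type u)) (hK : Tame K) (φ : freeSh K ⟶ E.X₃) : ∃ ψ, ψ ≫ E.g = φ := by
  let Φ := sheafCompose J (CategoryTheory.forget AddCommGrpCat.{u})
  have hloc : Sheaf.IsLocallySurjective E.g := (Sheaf.isLocallySurjective_iff_epi' _ E.g).2 hE.epi_g
  let φ' : K ⟶ Φ.obj E.X₃ := freeShEquiv K E.X₃ φ
  haveI : Epi (pullback.fst φ' (Φ.map E.g)) := by
    have : Sheaf.IsLocallySurjective (pullback.fst φ' (Φ.map E.g)) := ⟨fun {U} s => by
      refine J.superset_covering ?_ (hloc.imageSieve_mem (φ'.hom.app (op U) s))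
      rintro V g ⟨t, ht⟩
      let a : hSheaf J V ⟶ K := (secT V K).symm (K.obj.map g.op s)
      let b : hSheaf J V ⟶ Φ.obj E.X₂ := (secT V (Φ.obj E.X₂)).symm t
      have hab : a ≫ φ' = b ≫ Φ.map E.g := (secT V (Φ.obj E.X₃)).injective (by
        rw [secT_comp, secT_comp, Equiv.apply_symm_apply, Equiv.apply_symm_apply]
        exact (ConcreteCategory.congr_hom (φ'.hom.naturality g.op) s).trans ht.symm)
      refine ⟨secT V _ (pullback.lift a b hab), (secT_comp V _ (pullback.fst φ' (Φ.map E.g))).symm.trans ?_⟩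
      rw [pullback.lift_fst, Equiv.apply_symm_apply]⟩
    exact (Sheaf.isLocallySurjective_iff_epi _).1 this
  obtain ⟨K', k, hK', hf⟩ := exists_tame_refinement hgen hQ hK (pullback.fst φ' (Φ.map E.g))
  let f : K' ⟶ K := k ≫ pullback.fst φ' (Φ.map E.g)
  haveI : Epi f := hf
  have := epi_augSh f
  let p : pb0 f ⟶ K' := WidePullback.π (fun _ : Fin 1 => f) 0
  let ψ₀ : (freeShChain (nerve f)).X 0 ⟶ E.X₂ :=
    (freeShEquiv (pb0 f) E.X₂).symm (p ≫ k ≫ pullback.snd φ' (Φ.map E.g))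
  have hψ₀ : ψ₀ ≫ E.g = augSh f ≫ φ := by
    apply (freeShEquiv (pb0 f) E.X₃).injective
    refine (freeShEquiv_comp ψ₀ E.g).trans (Eq.trans ?_ (freeShEquiv_precomp _ φ).symm)
    refine (congrArg (· ≫ Φ.map E.g) (Equiv.apply_symm_apply _ _)).trans ?_
    refine Eq.trans ?_ (congrArg (· ≫ φ') (WidePullback.π_arrow (fun _ : Fin 1 => f) 0))
    simp only [p, f, Category.assoc, pullback.condition]
  have := hE.mono_f
  have hw : ((freeShChain (nerve f)).d 1 0 ≫ ψ₀) ≫ E.g = 0 := by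
    rw [Category.assoc, hψ₀, ← Category.assoc, d_comp_augSh, zero_comp]
  obtain ⟨b, hb⟩ := h₁ _ _ f hK hK' hf 0 (hE.exact.lift _ hw) (by
    rw [← cancel_mono E.f, Category.assoc, hE.exact.lift_f, zero_comp, ← Category.assoc,
      HomologicalComplex.d_comp_d, zero_comp])
  obtain ⟨ψ, hψ⟩ := exists_desc f (ψ₀ - b ≫ E.f) (by
    rw [Preadditive.comp_sub, sub_eq_zero, ← Category.assoc, hb, hE.exact.lift_f])
  refine ⟨ψ, (cancel_epi (augSh f)).1 ?_⟩
  rw [← Category.assoc, hψ, Preadditive.sub_comp, Category.assoc, E.zero, comp_zero, sub_zero, hψ₀]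

theorem tameKill_X₃ {Q : Sh J → Prop} (hgen : Gen Q) (hQ : ∀ A, Q A → IsCoherent A)
    {E : ShortComplex (Sheaf J AddCommGrpCat.{u})} (hE : E.ShortExact) (h₁ : TameKill E.X₁) (h₂ : TameKill E.X₂) :
    TameKill E.X₃ := by
  intro K' K f hK hK' hf n w hw
  have := hE.mono_f
  obtain ⟨w₂, rfl⟩ : ∃ ψ : (freeShChain (nerve f)).X (n + 1) ⟶ E.X₂, ψ ≫ E.g = w :=
    exists_lift_of_tameKill hgen hQ hE h₁ ((nerve f).left.obj (op ⦋n + 1⦌)) (tame_widePullback hK f hK' (n + 1)) w
  have hv : ((freeShChain (nerve f)).d (n + 2) (n + 1) ≫ w₂) ≫ E.g = 0 := by rw [Category.assoc, hw]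
  have hv' : (freeShChain (nerve f)).d (n + 3) (n + 2) ≫ hE.exact.lift _ hv = 0 := by
    rw [← cancel_mono E.f, Category.assoc, hE.exact.lift_f, zero_comp, ← Category.assoc,
      HomologicalComplex.d_comp_d, zero_comp]
  obtain ⟨b₁, hb₁⟩ := h₁ K' K f hK hK' hf (n + 1) _ hv'
  obtain ⟨b₂, hb₂⟩ := h₂ K' K f hK hK' hf n (w₂ - b₁ ≫ E.f) (by
    rw [Preadditive.comp_sub, sub_eq_zero, ← Category.assoc, hb₁, hE.exact.lift_f])
  refine ⟨b₂ ≫ E.g, ?_⟩
  rw [← Category.assoc, hb₂, Preadditive.sub_comp, Category.assoc, E.zero, comp_zero, sub_zero]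

theorem subsingleton_ext_of_tameKill {Q : Sh J → Prop} (hgen : Gen Q) (hQ : ∀ A, Q A → IsCoherent A)
    (G : Sheaf J AddCommGrpCat.{u}) (hG : TameKill G) (K : Sh J) (hK : Tame K) (q : ℕ) :
    Subsingleton (Ext (freeSh K) G (q + 1)) := by
  induction q generalizing G with
  | zero =>
    obtain ⟨E, hE, hI, rfl⟩ : ∃ E : ShortComplex (Sheaf J AddCommGrpCat.{u}),
        E.ShortExact ∧ Injective E.X₂ ∧ E.X₁ = G :=
      ⟨injectiveSES G, injectiveSES_shortExact G, inferInstance, injectiveSES_X₁ G⟩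
    exact subsingleton_ext_one_X₁ _ hE (Ext.subsingleton_of_injective _ E.X₂ 0)
      (exists_lift_of_tameKill hgen hQ hE hG K hK)
  | succ q ih =>
    obtain ⟨E, hE, hI, rfl⟩ : ∃ E : ShortComplex (Sheaf J AddCommGrpCat.{u}),
        E.ShortExact ∧ Injective E.X₂ ∧ E.X₁ = G :=
      ⟨injectiveSES G, injectiveSES_shortExact G, inferInstance, injectiveSES_X₁ G⟩
    exact subsingleton_ext_X₁ _ hE (q + 1) (Ext.subsingleton_of_injective _ E.X₂ (q + 1))
      (ih E.X₃ (tameKill_X₃ hgen hQ hE hG fun K' K f _ _ _ =>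
        cechKill_of_injective (sheafNerveLike_nerve f) E.X₂))

section Colimit

variable {Λ : Type u} [SmallCategory Λ] [IsFiltered Λ] (D : Λ ⥤ Sheaf J AddCommGrpCat.{u})

theorem exists_hom_stage {Q : Sh J → Prop} (hgen : Gen Q) (hQ : ∀ A, Q A → IsCoherent A) {K : Sh J}
    (hK : IsCoherent K) {c : Cocone D} (hc : IsColimit c) (φ : freeSh K ⟶ c.pt) :
    ∃ (i : Λ) (ψ : freeSh K ⟶ D.obj i), ψ ≫ c.ι.app i = φ := by
  obtain ⟨i, a, ha⟩ := exists_stage_factor (hgen.mono fun A hA => (hQ A hA).1) hK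
    (isColimitOfPreserves (underlying J) hc) (freeShEquiv K c.pt φ)
  refine ⟨i, (freeShEquiv K (D.obj i)).symm a, (freeShEquiv K c.pt).injective ?_⟩
  rw [freeShEquiv_comp, Equiv.apply_symm_apply]
  exact ha

theorem exists_hom_stage_eq {K : Sh J} (hK : IsQC K) {c : Cocone D} (hc : IsColimit c) (i : Λ)
    (φ φ' : freeSh K ⟶ D.obj i) (h : φ ≫ c.ι.app i = φ' ≫ c.ι.app i) :
    ∃ (j : Λ) (u : i ⟶ j), φ ≫ D.map u = φ' ≫ D.map u := by
  obtain ⟨j, u, hu⟩ := exists_stage_eq hK (isColimitOfPreserves (underlying J) hc) i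
    (freeShEquiv K (D.obj i) φ) (freeShEquiv K (D.obj i) φ') (by
      have := congrArg (freeShEquiv K c.pt) h
      rwa [freeShEquiv_comp, freeShEquiv_comp] at this)
  refine ⟨j, u, (freeShEquiv K (D.obj j)).injective ?_⟩
  rw [freeShEquiv_comp, freeShEquiv_comp]
  exact hu

theorem tameKill_colimit {Q : Sh J → Prop} (hgen : Gen Q) (hQ : ∀ A, Q A → IsCoherent A)
    (hD : ∀ i, Injective (D.obj i)) {c : Cocone D} (hc : IsColimit c) : TameKill c.pt := by
  intro K' K f hK hK' hf n w hw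
  obtain ⟨i, w₀, hw₀⟩ := exists_hom_stage D hgen hQ
    (K := (nerve f).left.obj (op ⦋n + 1⦌)) (tame_widePullback hK f hK' (n + 1)).1 hc w
  obtain ⟨j, u, hu⟩ := exists_hom_stage_eq D (K := (nerve f).left.obj (op ⦋n + 2⦌))
    (tame_widePullback hK f hK' (n + 2)).1.1 hc i ((freeShChain (nerve f)).d (n + 2) (n + 1) ≫ w₀) 0
    ((Category.assoc _ _ _).trans (((congrArg ((freeShChain (nerve f)).d (n + 2) (n + 1) ≫ ·) hw₀).trans hw).trans
      zero_comp.symm))
  haveI := hD j
  obtain ⟨b, hb⟩ := cechKill_of_injective (sheafNerveLike_nerve f) (D.obj j) n (w₀ ≫ D.map u)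
    ((Category.assoc _ _ _).symm.trans (hu.trans zero_comp))
  refine ⟨b ≫ c.ι.app j, ?_⟩
  rw [← Category.assoc, hb, Category.assoc, c.w, hw₀]

end Colimit

end Groth.Agent.ToposFinLib
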